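import Groth.Agent.H10Coh.AffineVanishing

/-!
Vanishing of the cohomology of quasi-coherent modules on affine opens.
-/

universe u

open CategoryTheory CategoryTheory.Limits Opposite TopologicalSpace Abelian Topology AlgebraicGeometry

namespace Groth.Agent.H10Coh

attribute [local instance 10000] hasSheafifyAb hasWeakSheafifyAb hasExtAb enoughInjAb

variable {X : Scheme.{u}}

/-- `H^{n+1}(U, M) = 0` for `U` affine and `M` quasi-coherent. -/
theorem subsingleton_HnM_of_isAffineOpen (M : X.Modules) [M.IsQuasicoherent] {U : X.Opens}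
    (hU : IsAffineOpen U) (n : ℕ) : Subsingleton (HnM M (n + 1) U) :=
  subsingleton_HnM_image hU.fromSpec M (n + 1) ⊤ U (by rw [Scheme.Hom.image_top_eq_opensRange, hU.opensRange_fromSpec])
    (subsingleton_HnM_Spec n _ _ (Scheme.Modules.isQuasicoherent_restrictFunctor hU.fromSpec M))

/-- `H^p(X, M)` is `H^p(⊤, M)`. -/
noncomputable def HHEquiv (M : X.Modules) (n : ℕ) : Coh.HH X M n ≃+ HnM M n ⊤ :=
  topEquiv (sh M) n

theorem subsingleton_HH_of_isAffine [IsAffine X] (M : X.Modules) [M.IsQuasicoherent] {p : ℕ}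
    (hp : 0 < p) : Subsingleton (Coh.HH X M p) := by
  obtain ⟨n, rfl⟩ := Nat.exists_eq_succ_of_ne_zero hp.ne'
  have := subsingleton_HnM_of_isAffineOpen M (isAffineOpen_top X) n
  exact (HHEquiv M (n + 1)).toEquiv.subsingleton

end Groth.Agent.H10Coh
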