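import Groth.Agent.H10Coh.FinType
import Groth.Prelude.Def_CohB1

/-!
# Finite type and finite presentation via affine opens
-/

universe u

open CategoryTheory CategoryTheory.Limits AlgebraicGeometry Opposite TopologicalSpace

namespace Groth.Agent.H10Coh

variable {X : Scheme.{u}}

/-- Local generators in terms of restriction to opens. -/
theorem exists_generators_nhd (M : X.Modules) (hM : CohB1.IsFT M) (x : X) :
    ∃ (W : X.Opens) (_ : x ∈ W) (G : (M.restrict W.ι).GeneratingSections), Finite G.I := by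
  obtain ⟨σ, hσ⟩ := SheafOfModules.IsFiniteType.exists_localGeneratorsData (R := X.ringCatSheaf) M
  obtain ⟨i, hi⟩ := Opens.mem_iSup.1
    (((Opens.coversTop_iff _ _).1 σ.coversTop).ge (Opens.mem_top x))
  let W : X.Opens := σ.X i
  let e := Scheme.Modules.overEquiv W
  let G' := @SheafOfModules.GeneratingSections.map _ _ _ _ _ _ _ _ _ _ _ _ _
    (σ.generators i) e.functor (by exact e.toAdjunction.leftAdjoint_preservesColimits)
    ((Scheme.Modules.restrictUnitIso W.ι).symm ≪≫
      ((Scheme.Modules.overFunctorEquiv W).app (SheafOfModules.unit X.ringCatSheaf)).symm)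
  let f := ((Scheme.Modules.overFunctorEquiv W).app M).hom
  exact ⟨W, hi, @SheafOfModules.GeneratingSections.ofEpi.{u} _ _ _ _ _ _ _ _ G' f
    (IsIso.epi_of_iso f), (hσ.isFiniteType i).finite⟩

/-- Sections of a finite type quasi-coherent module over affine opens are finitely generated. -/
theorem finite_sections (M : X.Modules) [M.IsQuasicoherent] (hM : CohB1.IsFT M) {U : X.Opens}
    (hU : IsAffineOpen U) : Module.Finite Γ(X, U) Γ(M, U) := by
  classical
  have key : ∀ x : U, ∃ t : Γ(X, U), x.1 ∈ X.basicOpen t ∧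
      Module.Finite Γ(X, X.basicOpen t) Γ(M, X.basicOpen t) := by
    rintro ⟨x, hx⟩
    obtain ⟨W, hW, G, hG⟩ := exists_generators_nhd M hM x
    obtain ⟨t, htle, hxt⟩ := hU.exists_basicOpen_le ⟨x, hW⟩ hx
    have hq := Scheme.Modules.isQuasicoherent_restrictFunctor W.ι M
    have hpre : W.ι ''ᵁ (W.ι ⁻¹ᵁ X.basicOpen t) = X.basicOpen t := by
      rw [Scheme.Hom.image_preimage_eq_opensRange_inf, Scheme.Opens.opensRange_ι]
      exact inf_eq_right.2 htle
    have haff : IsAffineOpen (W.ι ⁻¹ᵁ X.basicOpen t) := by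
      rw [← Scheme.Hom.isAffineOpen_iff_of_isOpenImmersion W.ι, hpre]
      exact hU.basicOpen t
    exact ⟨t, hxt, finite_of_eq M hpre ((finite_restrict_iff W.ι M _).1
      (@finite_sections_of_generators _ _ hq G hG _ haff))⟩
  choose t ht hfin using key
  have hspan : Ideal.span (Set.range t) = ⊤ := by
    rw [← hU.self_le_iSup_basicOpen_iff]
    intro x hx
    exact Opens.mem_iSup.2 ⟨⟨t ⟨x, hx⟩, _, rfl⟩, ht ⟨x, hx⟩⟩
  obtain ⟨T, hTsub, hT⟩ := Submodule.mem_span_finite_of_mem_span
    (show (1 : Γ(X, U)) ∈ Ideal.span (Set.range t) by rw [hspan]; trivial)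
  refine finite_sections_of_cover M hU T ((Ideal.eq_top_iff_one _).2 hT) fun a ha => ?_
  obtain ⟨x, rfl⟩ := hTsub ha
  exact hfin x

section Spec

variable {R : CommRingCat.{u}}

/-- `R`-finiteness of global sections from finiteness over `Γ(Spec R, ⊤)`. -/
theorem finite_ΓSpec (M : (Spec R).Modules) [Module.Finite Γ(Spec R, ⊤) Γ(M, ⊤)] :
    Module.Finite R ((ΓSpec R).obj M) := by
  refine finite_of_semilinear (M := Γ(M, ⊤)) (Scheme.ΓSpecIso R).hom.hom (AddMonoidHom.id _)
    (fun a m => ?_) fun n => ⟨n, rfl⟩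
  have h := Scheme.Modules.smul_Spec_def (M := M) (U := ⊤) ((Scheme.ΓSpecIso R).hom a) m
  have hid : (⊤ : (Spec R).Opens).leTop.op = 𝟙 _ := Subsingleton.elim _ _
  rw [hid, CategoryTheory.Functor.map_id] at h
  refine Eq.trans ?_ h.symm
  exact congrArg (· • m) (congr($((Scheme.ΓSpecIso R).hom_inv_id) a)).symm

/-- A finitely generated module gives a finitely generated tilde, with finite presentation if the
module is finitely presented. -/
theorem exists_finite_presentation_tilde (N : ModuleCat.{u} R) [Module.Finite R N] :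
    ∃ P : (tilde N).Presentation, Finite P.generators.I ∧
      (Module.FinitePresentation R N → P.IsFinite) := by
  classical
  obtain ⟨s, hs⟩ := (Module.Finite.fg_top : (⊤ : Submodule R N).FG)
  by_cases hfp : Module.FinitePresentation R N
  · have hk : (LinearMap.ker (Finsupp.linearCombination R ((↑) : ((s : Set N)) → N))).FG := by
      refine Module.FinitePresentation.fg_ker _ ?_
      rw [← LinearMap.range_eq_top, Finsupp.range_linearCombination]
      simpa using hs
    obtain ⟨t, ht⟩ := hk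
    refine ⟨presentationTilde N (s : Set N) hs t ht, s.finite_toSet.to_subtype, fun _ => ?_⟩
    exact ⟨⟨s.finite_toSet.to_subtype⟩, ⟨t.finite_toSet.to_subtype⟩⟩
  · exact ⟨presentationTilde N (s : Set N) hs _ (Submodule.span_eq _), s.finite_toSet.to_subtype,
      fun h => absurd h hfp⟩

end Spec

theorem presOfIso_isFinite {M N : X.Modules} (e : M ≅ N) (P : M.Presentation) (hP : P.IsFinite) :
    (presOfIso e P).IsFinite :=
  ⟨⟨hP.isFiniteType_generators.finite⟩, ⟨hP.isFiniteType_relations.finite⟩⟩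

/-- Quasi-coherent modules with finitely generated sections on an affine cover are of finite type;
if these are finitely presented, of finite presentation. -/
theorem isFT_isFP_of_affineCover (M : X.Modules) [M.IsQuasicoherent] {I : Type u} (U : I → X.Opens)
    (hU : IsOpenCover U) (hA : ∀ i, IsAffineOpen (U i))
    (h : ∀ i, Module.Finite Γ(X, U i) Γ(M, U i)) :
    CohB1.IsFT M ∧ ((∀ i, IsNoetherianRing Γ(X, U i)) → CohB1.IsFP M) := by
  classical
  have hq := fun i => Scheme.Modules.isQuasicoherent_restrictFunctor (hA i).fromSpec M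
  have htop : ∀ i, (hA i).fromSpec ''ᵁ ⊤ = U i := fun i => by
    rw [Scheme.Hom.image_top_eq_opensRange, (hA i).opensRange_fromSpec]
  have hfin : ∀ i, Module.Finite Γ(X, U i) ((ΓSpec Γ(X, U i)).obj (M.restrict (hA i).fromSpec)) :=
    fun i => @finite_ΓSpec _ _ ((finite_restrict_iff (hA i).fromSpec M ⊤).2
      (finite_of_eq M (htop i).symm (h i)))
  choose P hP1 hP2 using fun i => @exists_finite_presentation_tilde _ _ (hfin i)
  let e i := @tildeIso _ (M.restrict (hA i).fromSpec) (hq i)
  let Q i := presentationOver M (U i) (presOfIso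
    ((Scheme.Modules.restrictFunctorComp (hA i).isoSpec.hom (hA i).fromSpec).symm.app M ≪≫
      (Scheme.Modules.restrictFunctorCongr (hA i).isoSpec_hom_fromSpec).app M)
    (Scheme.Modules.presentationRestrict (hA i).isoSpec.hom (presOfIso (e i) (P i))))
  let σ : SheafOfModules.QuasicoherentData (R := X.ringCatSheaf) M :=
    { I := I
      X := U
      coversTop := (Opens.coversTop_iff _ _).2 hU
      presentation := Q }
  refine ⟨?_, fun hN => ?_⟩
  · have hft : σ.localGeneratorsData.IsFiniteType := by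
      constructor
      intro j
      exact ⟨hP1 j⟩
    exact SheafOfModules.IsFiniteType.mk (R := X.ringCatSheaf) ⟨_, hft⟩
  suffices hσ : σ.IsFinitePresentation by
    exact SheafOfModules.IsFinitePresentation.mk (R := X.ringCatSheaf) ⟨σ, hσ⟩
  constructor
  intro j
  have hfp : Module.FinitePresentation Γ(X, U j)
      ((ΓSpec Γ(X, U j)).obj (M.restrict (hA j).fromSpec)) := by
    have := hN j
    have := hfin j
    exact Module.finitePresentation_of_finite _ _
  exact ⟨⟨(hP2 _ hfp).isFiniteType_generators.finite⟩, ⟨(hP2 _ hfp).isFiniteType_relations.finite⟩⟩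

theorem isCoh_iff_finite_sections (M : X.Modules) :
    Coh.IsCoh M ↔ Coh.IsQCoh M ∧
      ∀ U : X.Opens, IsAffineOpen U → Module.Finite Γ(X, U) Γ(M, U) :=
  ⟨fun h => ⟨h.1, fun U hU => @finite_sections _ M h.1 h.2 U hU⟩,
    fun ⟨hq, h⟩ => ⟨hq, (@isFT_isFP_of_affineCover _ M hq _ (fun U : X.affineOpens => U.1)
      (iSup_affineOpens_eq_top X) (fun U => U.2) fun U => h U.1 U.2).1⟩⟩

theorem isFP_of_isCoh [IsLocallyNoetherian X] (M : X.Modules) (hM : Coh.IsCoh M) :
    CohB1.IsFP M :=
  (@isFT_isFP_of_affineCover _ M hM.1 _ (fun U : X.affineOpens => U.1) (iSup_affineOpens_eq_top X)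
    (fun U => U.2) fun U => @finite_sections _ M hM.1 hM.2 U.1 U.2).2
    fun U => IsLocallyNoetherian.component_noetherian U

theorem isCoh_of_iso {M N : X.Modules} (e : M ≅ N) (hM : Coh.IsCoh M) : Coh.IsCoh N := by
  obtain ⟨hq, h⟩ := (isCoh_iff_finite_sections M).1 hM
  refine (isCoh_iff_finite_sections N).2 ⟨@isQuasicoherent_of_iso _ _ _ e hq, fun U hU => ?_⟩
  have := h U hU
  exact finite_of_semilinear (RingHom.id _) (e.hom.app U).hom (fun a m => e.hom.app_smul a m)
    fun n => ⟨e.inv.app U n, congr($(e.inv_hom_id).app U n)⟩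

theorem isCoh_cokernel {F G : X.Modules} (φ : F ⟶ G) (hF : Coh.IsQCoh F) (hG : Coh.IsCoh G) :
    Coh.IsCoh (cokernel φ) := by
  obtain ⟨hq, h⟩ := (isCoh_iff_finite_sections G).1 hG
  have hc := @isQuasicoherent_cokernel _ _ _ φ hF hq
  refine (isCoh_iff_finite_sections _).2 ⟨hc, fun U hU => ?_⟩
  have := h U hU
  exact finite_of_semilinear (RingHom.id _) ((cokernel.π φ).app U).hom
    (fun a m => (cokernel.π φ).app_smul a m) (@surjective_app_of_epi _ _ _ _ hq hc _ _ hU)

theorem injective_app_of_mono' {F G : X.Modules} (φ : F ⟶ G) [Mono φ] (U : X.Opens) :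
    Function.Injective (φ.app U) :=
  injective_app_of_mono ((shF X).map φ) U

theorem isCoh_of_mono [IsLocallyNoetherian X] {K F : X.Modules} (i : K ⟶ F) [Mono i]
    (hK : Coh.IsQCoh K) (hF : Coh.IsCoh F) : Coh.IsCoh K := by
  refine (isCoh_iff_finite_sections _).2 ⟨hK, fun U hU => ?_⟩
  have := ((isCoh_iff_finite_sections F).1 hF).2 U hU
  have : IsNoetherianRing Γ(X, U) := IsLocallyNoetherian.component_noetherian ⟨U, hU⟩
  let l : Γ(K, U) →ₗ[Γ(X, U)] Γ(F, U) :=
    { toFun := i.app U, map_add' := map_add _, map_smul' := fun a m => i.app_smul a m }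
  exact Module.Finite.of_injective l (injective_app_of_mono' i U)

theorem isCoh_kernel [IsLocallyNoetherian X] {F G : X.Modules} (φ : F ⟶ G) (hF : Coh.IsCoh F)
    (hG : Coh.IsQCoh G) : Coh.IsCoh (kernel φ) :=
  isCoh_of_mono (kernel.ι φ) (@isQuasicoherent_kernel _ _ _ φ hF.1 hG) hF

/-- Sections are left exact. -/
theorem exists_app_eq_of_exact {S : ShortComplex X.Modules} (hS : S.ShortExact) (U : X.Opens)
    (z : Γ(S.X₂, U)) (hz : S.g.app U z = 0) : ∃ y, S.f.app U y = z := by
  have hS' := shortExact_sh hS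
  have := hS'.mono_f
  let φ : Zsh U ⟶ (S.map (shF X)).X₂ := (sect U (sh S.X₂)).symm z
  have hφ : φ ≫ (S.map (shF X)).g = 0 := by
    refine (sect U (sh S.X₃)).injective ((sect_comp φ _).trans ?_)
    refine Eq.trans ?_ (map_zero (sect U (sh S.X₃))).symm
    exact (congrArg _ ((sect U (sh S.X₂)).apply_symm_apply z)).trans hz
  exact ⟨sect U (sh S.X₁) (hS'.exact.lift φ hφ),
    (sect_comp (hS'.exact.lift φ hφ) _).symm.trans
      ((congrArg (sect U (sh S.X₂)) (hS'.exact.lift_f φ hφ)).trans
        ((sect U (sh S.X₂)).apply_symm_apply z))⟩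

theorem isCoh_X₂ {S : ShortComplex X.Modules} (hS : S.ShortExact) (h₁ : Coh.IsCoh S.X₁)
    (h₃ : Coh.IsCoh S.X₃) (h₂ : Coh.IsQCoh S.X₂ := @isQuasicoherent_X₂ _ _ hS h₁.1 h₃.1) :
    Coh.IsCoh S.X₂ := by
  refine (isCoh_iff_finite_sections _).2 ⟨h₂, fun U hU => ?_⟩
  have := ((isCoh_iff_finite_sections _).1 h₁).2 U hU
  have := ((isCoh_iff_finite_sections _).1 h₃).2 U hU
  let f : Γ(S.X₁, U) →ₗ[Γ(X, U)] Γ(S.X₂, U) :=
    { toFun := S.f.app U, map_add' := map_add _, map_smul' := fun a m => S.f.app_smul a m }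
  let g : Γ(S.X₂, U) →ₗ[Γ(X, U)] Γ(S.X₃, U) :=
    { toFun := S.g.app U, map_add' := map_add _, map_smul' := fun a m => S.g.app_smul a m }
  refine Module.Finite.of_exact (f := f) (g := g) (fun y => ⟨exists_app_eq_of_exact hS U y, ?_⟩) ?_
  · rintro ⟨x, rfl⟩
    exact congr($(S.zero).app U x)
  · exact @surjective_app_of_epi _ _ _ _ h₂ h₃.1 hS.epi_g _ hU

end Groth.Agent.H10Coh
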