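import Groth.Agent.H10Coh.BaseChange
import Groth.Prelude.Def_CechOX

/-!
Direct images of quasi-coherent modules along quasi-compact quasi-separated morphisms.
-/

universe u

open CategoryTheory CategoryTheory.Limits AlgebraicGeometry Opposite TopologicalSpace

namespace Groth.Agent.H10Coh

variable {X S : Scheme.{u}}

/-- Sections of a finite biproduct are determined by their components. -/
theorem biproduct_sections_ext {ι : Type} [Fintype ι] (A : ι → X.Modules) (U : X.Opens)
    (s t : Γ(⨁ A, U)) (h : ∀ i, (biproduct.π A i).app U s = (biproduct.π A i).app U t) : s = t := by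
  let ev : ((⨁ A) ⟶ (⨁ A)) →+ Γ(⨁ A, U) := AddMonoidHom.mk' (fun φ => φ.app U s) (fun φ ψ => rfl)
  let ev' : ((⨁ A) ⟶ (⨁ A)) →+ Γ(⨁ A, U) := AddMonoidHom.mk' (fun φ => φ.app U t) (fun φ ψ => rfl)
  have h1 : ev (∑ i, biproduct.π A i ≫ biproduct.ι A i) = ev' (∑ i, biproduct.π A i ≫ biproduct.ι A i) := by
    rw [map_sum, map_sum]
    refine Finset.sum_congr rfl fun i _ => ?_
    change (biproduct.ι A i).app U ((biproduct.π A i).app U s) = _
    rw [h i]
    rfl
  rw [biproduct.total] at h1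
  exact h1

section

variable (f : X ⟶ S)

/-- `f_* j_* (M|_W)`. -/
noncomputable abbrev pushN (M : X.Modules) (W : X.Opens) : S.Modules :=
  (Scheme.Modules.pushforward f).obj ((CechOX.pushRestr W).obj M)

/-- The trace of `W` on `V`. -/
abbrev trace (W V : X.Opens) : X.Opens := W.ι ''ᵁ (W.ι ⁻¹ᵁ V)

theorem trace_eq (W V : X.Opens) : trace W V = W ⊓ V := by
  show W.ι ''ᵁ (W.ι ⁻¹ᵁ V) = _
  rw [Scheme.Hom.image_preimage_eq_opensRange_inf, Scheme.Opens.opensRange_ι]

theorem trace_le (W V : X.Opens) : trace W V ≤ V := Scheme.Hom.image_preimage_le W.ι V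

theorem trace_mono {W W' : X.Opens} (h : W' ≤ W) (V : X.Opens) : trace W' V ≤ trace W V :=
  CechOX.image_preimage_mono h V

variable (M : X.Modules) {ι κ : Type} [Fintype ι] [Fintype κ] (U : ι → X.Opens) (W : κ → X.Opens)
  (a b : κ → ι) (ha : ∀ t, W t ≤ U (a t)) (hb : ∀ t, W t ≤ U (b t))

/-- The restriction `f_*j_*(M|_V) ⟶ f_*j_*(M|_{V'})`. -/
noncomputable abbrev pushNMap {V V' : X.Opens} (h : V' ≤ V) : pushN f M V ⟶ pushN f M V' :=
  (Scheme.Modules.pushforward f).map ((CechOX.pushRestrMap h).app M)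

/-- The unit `f_* M ⟶ f_*j_*(M|_V)`. -/
noncomputable abbrev pushNUnit (V : X.Opens) : (Scheme.Modules.pushforward f).obj M ⟶ pushN f M V :=
  (Scheme.Modules.pushforward f).map ((Scheme.Modules.restrictAdjunction V.ι).unit.app M)

theorem pushNMap_app {V V' : X.Opens} (h : V' ≤ V) (O : S.Opens) (x : Γ(M, trace V (f ⁻¹ᵁ O))) :
    (pushNMap f M h).app O x = M.presheaf.map (homOfLE (trace_mono h (f ⁻¹ᵁ O))).op x := rfl

theorem pushNUnit_app (V : X.Opens) (O : S.Opens) (x : Γ(M, f ⁻¹ᵁ O)) :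
    (pushNUnit f M V).app O x = M.presheaf.map (homOfLE (trace_le V (f ⁻¹ᵁ O))).op x := rfl

/-- The difference map. -/
noncomputable def dMap : (⨁ fun i => pushN f M (U i)) ⟶ ⨁ fun t => pushN f M (W t) :=
  biproduct.lift fun t =>
    biproduct.π (fun i => pushN f M (U i)) (a t) ≫ pushNMap f M (ha t) -
      biproduct.π (fun i => pushN f M (U i)) (b t) ≫ pushNMap f M (hb t)

/-- The augmentation. -/
noncomputable def eMap : (Scheme.Modules.pushforward f).obj M ⟶ ⨁ fun i => pushN f M (U i) :=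
  biproduct.lift fun i => pushNUnit f M (U i)

theorem π_eMap_app (i : ι) (O : S.Opens) (x : Γ((Scheme.Modules.pushforward f).obj M, O)) :
    (biproduct.π (fun i => pushN f M (U i)) i).app O ((eMap f M U).app O x) =
      (pushNUnit f M (U i)).app O x := by
  rw [← ConcreteCategory.comp_apply, ← Scheme.Modules.Hom.comp_app, eMap, biproduct.lift_π]

theorem π_dMap_app (t : κ) (O : S.Opens) (z : Γ(⨁ fun i => pushN f M (U i), O)) :
    (biproduct.π (fun t => pushN f M (W t)) t).app O ((dMap f M U W a b ha hb).app O z) =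
      (pushNMap f M (ha t)).app O ((biproduct.π (fun i => pushN f M (U i)) (a t)).app O z) -
      (pushNMap f M (hb t)).app O ((biproduct.π (fun i => pushN f M (U i)) (b t)).app O z) := by
  rw [← ConcreteCategory.comp_apply, ← Scheme.Modules.Hom.comp_app, dMap, biproduct.lift_π,
    Scheme.Modules.Hom.sub_app, Scheme.Modules.Hom.comp_app, Scheme.Modules.Hom.comp_app]
  rfl

theorem unit_app_app_eq (V O : X.Opens) :
    ((Scheme.Modules.restrictAdjunction V.ι).unit.app M).app O =
      M.presheaf.map (homOfLE (trace_le V O)).op := rfl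

theorem pushRestrMap_app_app {V V' : X.Opens} (h : V' ≤ V) (O : X.Opens) :
    ((CechOX.pushRestrMap h).app M).app O = M.presheaf.map (homOfLE (trace_mono h O)).op :=
  CechOX.pushRestrMapApp_app h M O

theorem unit_pushRestrMap {V V' : X.Opens} (h : V' ≤ V) :
    (Scheme.Modules.restrictAdjunction V.ι).unit.app M ≫ (CechOX.pushRestrMap h).app M =
      (Scheme.Modules.restrictAdjunction V'.ι).unit.app M := by
  apply Scheme.Modules.hom_ext
  intro O
  rw [Scheme.Modules.Hom.comp_app, unit_app_app_eq, pushRestrMap_app_app, unit_app_app_eq]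
  exact ((M.presheaf.map_comp (homOfLE (trace_le V O)).op (homOfLE (trace_mono h O)).op).symm).trans
    (congrArg (fun i => M.presheaf.map i) (Subsingleton.elim _ _))

theorem pushNUnit_pushNMap {V V' : X.Opens} (h : V' ≤ V) :
    pushNUnit f M V ≫ pushNMap f M h = pushNUnit f M V' := by
  rw [← Functor.map_comp, unit_pushRestrMap]

theorem eMap_dMap : eMap f M U ≫ dMap f M U W a b ha hb = 0 := by
  refine biproduct.hom_ext _ _ fun t => ?_
  rw [Category.assoc, dMap, biproduct.lift_π, eMap, Preadditive.comp_sub, biproduct.lift_π_assoc,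
    biproduct.lift_π_assoc, zero_comp, pushNUnit_pushNMap, pushNUnit_pushNMap, sub_self]

theorem isIso_lift_eMap (hU : ∀ x : X, ∃ i, x ∈ U i)
    (hW : ∀ i j, ∀ x ∈ U i ⊓ U j, ∃ t, x ∈ W t ∧ a t = i ∧ b t = j) :
    IsIso (kernel.lift (dMap f M U W a b ha hb) (eMap f M U) (eMap_dMap f M U W a b ha hb)) := by
  refine Scheme.Modules.Hom.isIso_iff_isIso_app.2 fun O => ?_
  rw [ConcreteCategory.isIso_iff_bijective]
  have hι : Function.Injective ((kernel.ι (dMap f M U W a b ha hb)).app O) := by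
    rw [← AddCommGrpCat.mono_iff_injective]
    have : Mono ((Scheme.Modules.toPresheaf S).map (kernel.ι (dMap f M U W a b ha hb))) :=
      Functor.map_mono _ _
    exact (NatTrans.mono_iff_mono_app _).1 this (op O)
  have hfac : ∀ x, (kernel.ι (dMap f M U W a b ha hb)).app O ((kernel.lift (dMap f M U W a b ha hb)
      (eMap f M U) (eMap_dMap f M U W a b ha hb)).app O x) = (eMap f M U).app O x := fun x => by
    rw [← ConcreteCategory.comp_apply, ← Scheme.Modules.Hom.comp_app, kernel.lift_ι]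
  have hcov : f ⁻¹ᵁ O ≤ ⨆ i, trace (U i) (f ⁻¹ᵁ O) := fun x hx => by
    obtain ⟨i, hi⟩ := hU x
    exact Opens.mem_iSup.2 ⟨i, (trace_eq (U i) _).ge ⟨hi, hx⟩⟩
  constructor
  · intro x y hxy
    refine TopCat.Sheaf.eq_of_locally_eq' ⟨M.presheaf, M.isSheaf⟩ (fun i => trace (U i) (f ⁻¹ᵁ O))
      (f ⁻¹ᵁ O) (fun i => homOfLE (trace_le (U i) _)) hcov x y fun i => ?_
    have h := (π_eMap_app f M U i O x).symm.trans
      ((congrArg _ ((hfac x).symm.trans ((congrArg _ hxy).trans (hfac y)))).trans (π_eMap_app f M U i O y))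
    exact h
  · intro z
    let c : ∀ i, Γ(M, trace (U i) (f ⁻¹ᵁ O)) := fun i =>
      (biproduct.π (fun i => pushN f M (U i)) i).app O ((kernel.ι (dMap f M U W a b ha hb)).app O z)
    have h0 : (dMap f M U W a b ha hb).app O ((kernel.ι (dMap f M U W a b ha hb)).app O z) = 0 := by
      rw [← ConcreteCategory.comp_apply, ← Scheme.Modules.Hom.comp_app, kernel.condition]
      rfl
    have hz : ∀ t : κ, M.presheaf.map (homOfLE (trace_mono (ha t) (f ⁻¹ᵁ O))).op (c (a t)) =
        M.presheaf.map (homOfLE (trace_mono (hb t) (f ⁻¹ᵁ O))).op (c (b t)) := fun t =>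
      sub_eq_zero.1 ((π_dMap_app f M U W a b ha hb t O _).symm.trans
        ((congrArg _ h0).trans (map_zero _)))
    have hc : TopCat.Presheaf.IsCompatible M.presheaf (fun i => trace (U i) (f ⁻¹ᵁ O)) c := by
      intro i j
      refine TopCat.Sheaf.eq_of_locally_eq' ⟨M.presheaf, M.isSheaf⟩
        (fun t : {t // a t = i ∧ b t = j} => trace (W t.1) (f ⁻¹ᵁ O)) _
        (fun t => homOfLE (le_inf
          ((trace_mono (ha t.1) (f ⁻¹ᵁ O)).trans_eq (by rw [t.2.1]))
          ((trace_mono (hb t.1) (f ⁻¹ᵁ O)).trans_eq (by rw [t.2.2])))) ?_ _ _ ?_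
      · intro x hx
        have h1 := (trace_eq (U i) _).le hx.1
        have h2 := (trace_eq (U j) _).le hx.2
        obtain ⟨t, ht, hta, htb⟩ := hW i j x ⟨h1.1, h2.1⟩
        exact Opens.mem_iSup.2 ⟨⟨t, hta, htb⟩, (trace_eq _ _).ge ⟨ht, h1.2⟩⟩
      · rintro ⟨t, rfl, rfl⟩
        rw [← ConcreteCategory.comp_apply, ← ConcreteCategory.comp_apply]
        dsimp only
        rw [← Functor.map_comp, ← Functor.map_comp]
        exact hz t
    obtain ⟨x, hx, -⟩ := TopCat.Sheaf.existsUnique_gluing' ⟨M.presheaf, M.isSheaf⟩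
      (fun i => trace (U i) (f ⁻¹ᵁ O)) (f ⁻¹ᵁ O) (fun i => homOfLE (trace_le (U i) _)) hcov c hc
    refine ⟨x, hι (biproduct_sections_ext _ O _ _ fun i => ?_)⟩
    refine (congrArg _ (hfac x)).trans ((π_eMap_app f M U i O x).trans ?_)
    exact hx i

theorem isQuasicoherent_pushN [IsAffine S] (M : X.Modules) [M.IsQuasicoherent] {W : X.Opens}
    (hW : IsAffineOpen W) : (pushN f M W).IsQuasicoherent := by
  have : IsAffine W := hW
  have hq : ((Scheme.Modules.pushforward (W.ι ≫ f)).obj (M.restrict W.ι)).IsQuasicoherent :=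
    @isQuasicoherent_pushforward_of_isAffineHom _ _ (W.ι ≫ f) _ _
      (Scheme.Modules.isQuasicoherent_restrictFunctor W.ι M)
  exact @isQuasicoherent_of_iso _ _ _
    ((Scheme.Modules.pushforwardComp W.ι f).app (M.restrict W.ι)).symm hq

theorem isQuasicoherent_pushforward_affine [IsAffine S] [CompactSpace X] [QuasiSeparatedSpace X]
    (M : X.Modules) [M.IsQuasicoherent] :
    ((Scheme.Modules.pushforward f).obj M).IsQuasicoherent := by
  classical
  obtain ⟨s, hs, hcov⟩ := isCompact_iff_finite_and_eq_biUnion_affineOpens.mp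
    (show IsCompact ((⊤ : X.Opens) : Set X) from isCompact_univ)
  have : Fintype s := hs.fintype
  let U : Fin (Fintype.card s) → X.Opens := fun i => ((Fintype.equivFin s).symm i).1.1
  have hU : ∀ i, IsAffineOpen (U i) := fun i => ((Fintype.equivFin s).symm i).1.2
  have hUtop : ∀ x : X, ∃ i, x ∈ U i := fun x => by
    obtain ⟨a, ha⟩ := Opens.mem_iSup.1 ((le_of_eq hcov) (Opens.mem_top x))
    obtain ⟨has, hxa⟩ := Opens.mem_iSup.1 ha
    exact ⟨Fintype.equivFin s ⟨a, has⟩, by simpa [U] using hxa⟩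
  have hint : ∀ i j, ∃ (m : ℕ) (V : Fin m → X.Opens), (∀ k, IsAffineOpen (V k)) ∧
      (∀ k, V k ≤ U i ⊓ U j) ∧ U i ⊓ U j ≤ ⨆ k, V k := by
    intro i j
    obtain ⟨t, ht, e⟩ := isCompact_iff_finite_and_eq_biUnion_affineOpens.mp
      (show IsCompact ((U i ⊓ U j : X.Opens) : Set X) from QuasiSeparatedSpace.inter_isCompact _ _
        (U i).2 (hU i).isCompact (U j).2 (hU j).isCompact)
    have : Fintype t := ht.fintype
    refine ⟨_, fun k => ((Fintype.equivFin t).symm k).1.1, fun k => ((Fintype.equivFin t).symm k).1.2,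
      fun k => ?_, fun x hx => ?_⟩
    · exact e ▸ le_iSup₂ (f := fun (a : X.affineOpens) (_ : a ∈ t) => a.1)
        ((Fintype.equivFin t).symm k).1 ((Fintype.equivFin t).symm k).2
    · obtain ⟨a, ha⟩ := Opens.mem_iSup.1 ((le_of_eq e) hx)
      obtain ⟨hat, hxa⟩ := Opens.mem_iSup.1 ha
      exact Opens.mem_iSup.2 ⟨Fintype.equivFin t ⟨a, hat⟩, by simpa using hxa⟩
  choose m V hV hVle hVcov using hint
  have := fun i => isQuasicoherent_pushN f M (hU i)
  have := fun t : Σ i, Σ j, Fin (m i j) => isQuasicoherent_pushN f M (hV t.1 t.2.1 t.2.2)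
  have hA := isQuasicoherent_biproduct (fun i => pushN f M (U i))
  have hB := isQuasicoherent_biproduct
    (fun t : Σ i, Σ j, Fin (m i j) => pushN f M (V t.1 t.2.1 t.2.2))
  let d := dMap f M U (fun t : Σ i, Σ j, Fin (m i j) => V t.1 t.2.1 t.2.2)
    (fun t => t.1) (fun t => t.2.1) (fun t => (hVle _ _ _).trans inf_le_left)
    (fun t => (hVle _ _ _).trans inf_le_right)
  have hk := isIso_lift_eMap f M U (fun t : Σ i, Σ j, Fin (m i j) => V t.1 t.2.1 t.2.2)
    (fun t => t.1) (fun t => t.2.1) (fun t => (hVle _ _ _).trans inf_le_left)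
    (fun t => (hVle _ _ _).trans inf_le_right) hUtop
    (fun i j x hx => by
      obtain ⟨k, hk⟩ := Opens.mem_iSup.1 (hVcov i j hx)
      exact ⟨⟨i, j, k⟩, hk, rfl, rfl⟩)
  have hker := isQuasicoherent_kernel d
  exact @isQuasicoherent_of_iso _ _ _ (@asIso _ _ _ _ _ hk).symm hker

end

theorem isQuasicoherent_pushforward (f : X ⟶ S) [QuasiCompact f] [QuasiSeparated f]
    (M : X.Modules) [M.IsQuasicoherent] :
    ((Scheme.Modules.pushforward f).obj M).IsQuasicoherent := by
  refine isQuasicoherent_of_forall_affine _ fun U hU => ?_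
  have H : IsPullback (pullback.snd f hU.fromSpec) (pullback.fst f hU.fromSpec) hU.fromSpec f :=
    (IsPullback.of_hasPullback f hU.fromSpec).flip
  have : CompactSpace ↑(pullback f hU.fromSpec) := inferInstance
  have : QuasiSeparatedSpace ↑(pullback f hU.fromSpec) :=
    quasiSeparatedSpace_of_quasiSeparated (pullback.snd f hU.fromSpec)
  have hq := @isQuasicoherent_pushforward_affine _ _ (pullback.snd f hU.fromSpec) _ _ _
    (M.restrict (pullback.fst f hU.fromSpec))
    (Scheme.Modules.isQuasicoherent_restrictFunctor (pullback.fst f hU.fromSpec) M)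
  exact @isQuasicoherent_of_iso _ _ _ (pushRestrictIso H M).symm hq

end Groth.Agent.H10Coh
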