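import Groth.Agent.H10Coh.QCohExt

/-!
# Quasi-coherent submodules: images, small subobject lattices, largest quasi-coherent submodule
-/

universe u

open CategoryTheory CategoryTheory.Limits AlgebraicGeometry Opposite TopologicalSpace

namespace Groth.Agent.H10Coh

attribute [local instance 10000] hasSheafifyAb hasWeakSheafifyAb hasExtAb enoughInjAb

variable {X : Scheme.{u}}

/-- The coimage of a map from a quasi-coherent module to a submodule of a quasi-coherent one. -/
theorem isQuasicoherent_coimage {M G F : X.Modules} [M.IsQuasicoherent] [F.IsQuasicoherent]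
    (φ : M ⟶ G) (j : G ⟶ F) [Mono j] : (Abelian.coimage φ).IsQuasicoherent := by
  haveI : (kernel φ).IsQuasicoherent :=
    @isQuasicoherent_of_iso _ _ _ (kernelCompMono φ j) (isQuasicoherent_kernel (φ ≫ j))
  exact isQuasicoherent_cokernel (kernel.ι φ)

theorem isQuasicoherent_coproduct {ι : Type u} (M : ι → X.Modules) [HasCoproduct M]
    (hM : ∀ i, (M i).IsQuasicoherent) : (∐ M).IsQuasicoherent :=
  isQuasicoherent_colimit (Discrete.functor M) fun j => hM j.as

theorem subobject_le_of_range_subset {G : X.Modules} {P Q : Subobject G}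
    (h : ∀ U : X.Opens, Set.range (P.arrow.app U) ⊆ Set.range (Q.arrow.app U)) : P ≤ Q := by
  have hzero : P.arrow ≫ cokernel.π Q.arrow = 0 := by
    ext U x
    obtain ⟨y, hy⟩ := h U ⟨x, rfl⟩
    have hz : (Q.arrow ≫ cokernel.π Q.arrow).app U y = 0 := by rw [cokernel.condition]; rfl
    rw [Scheme.Modules.Hom.comp_app] at hz ⊢
    simp only [ConcreteCategory.comp_apply] at hz ⊢
    rw [← hy]
    exact hz
  exact Subobject.le_of_comm (Abelian.monoLift Q.arrow P.arrow hzero) (Abelian.monoLift_comp _ _ _)

theorem small_subobject (G : X.Modules) : Small.{u} (Subobject G) := by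
  refine small_of_injective (f := fun (P : Subobject G) (U : X.Opens) =>
    Set.range (P.arrow.app U)) fun P Q h => ?_
  exact le_antisymm (subobject_le_of_range_subset fun U => (congrFun h U).le)
    (subobject_le_of_range_subset fun U => (congrFun h U).ge)

/-- The largest quasi-coherent submodule of a submodule of a quasi-coherent module. -/
theorem exists_largest_qcoh_submodule {F G : X.Modules} [F.IsQuasicoherent] (j : G ⟶ F) [Mono j] :
    ∃ (G' : X.Modules) (k : G' ⟶ G), G'.IsQuasicoherent ∧ Mono k ∧
      ∀ H : X.Modules, H.IsQuasicoherent → Function.Bijective (fun φ : H ⟶ G' => φ ≫ k) := by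
  have := small_subobject G
  let I := Shrink.{u} {P : Subobject G // (P : X.Modules).IsQuasicoherent}
  let P : I → Subobject G := fun i => ((equivShrink _).symm i).1
  let c : (∐ fun i => (P i : X.Modules)) ⟶ G := Sigma.desc fun i => (P i).arrow
  have := isQuasicoherent_coproduct (fun i => (P i : X.Modules)) fun i =>
    ((equivShrink _).symm i).2
  refine ⟨Abelian.coimage c, Abelian.factorThruCoimage c, isQuasicoherent_coimage c j,
    inferInstance, fun H hH => ⟨fun a b h => (cancel_mono (Abelian.factorThruCoimage c)).1 h,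
      fun φ => ?_⟩⟩
  have hQ : ((Subobject.mk (Abelian.factorThruCoimage φ) : Subobject G) : X.Modules).IsQuasicoherent :=
    @isQuasicoherent_of_iso _ _ _ (Subobject.underlyingIso (Abelian.factorThruCoimage φ)).symm
      (isQuasicoherent_coimage φ j)
  let i : I := equivShrink _ ⟨_, hQ⟩
  have hi : P i = Subobject.mk (Abelian.factorThruCoimage φ) := by simp [P, i]
  refine ⟨Abelian.coimage.π φ ≫ (Subobject.underlyingIso (Abelian.factorThruCoimage φ)).inv ≫
    eqToHom (by rw [hi]) ≫ Sigma.ι (fun i => (P i : X.Modules)) i ≫ Abelian.coimage.π c, ?_⟩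
  simp only [Category.assoc, Abelian.coimage.fac]
  rw [show Sigma.ι (fun i => (P i : X.Modules)) i ≫ c = (P i).arrow from Sigma.ι_desc _ _]
  rw [Subobject.arrow_congr _ _ hi.symm, Subobject.underlyingIso_arrow, Abelian.coimage.fac]

end Groth.Agent.H10Coh
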