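import Groth.Agent.H10Coh.QCohOps
import Groth.Agent.H10Coh.QcqsPush
import Groth.Agent.H10Coh.SubMod
import Groth.Agent.H29Blow.QCohLoc

/-!
# Quasi-coherent modules of finite type / finite presentation: the affine criterion
-/

universe u

open CategoryTheory CategoryTheory.Limits AlgebraicGeometry Opposite TopologicalSpace

namespace Groth.Agent.H10Coh

variable {X : Scheme.{u}}

/-- A semilinear surjection carries finiteness. -/
theorem finite_of_semilinear {A B M N : Type*} [CommRing A] [CommRing B] [AddCommGroup M]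
    [AddCommGroup N] [Module A M] [Module B N] (σ : A →+* B) (e : M →+ N)
    (he : ∀ (a : A) (m : M), e (a • m) = σ a • e m) (hs : Function.Surjective e)
    [Module.Finite A M] : Module.Finite B N := by
  classical
  obtain ⟨S, hS⟩ := (Module.Finite.fg_top : (⊤ : Submodule A M).FG)
  refine ⟨⟨S.image e, Submodule.eq_top_iff'.2 fun n => ?_⟩⟩
  obtain ⟨m, rfl⟩ := hs n
  have hm : m ∈ Submodule.span A (S : Set M) := by rw [hS]; trivial
  induction hm using Submodule.span_induction with
  | mem x hx => exact Submodule.subset_span (by simpa using ⟨x, hx, rfl⟩)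
  | zero => simp
  | add x y _ _ hx hy => rw [map_add]; exact Submodule.add_mem _ hx hy
  | smul a x _ hx => rw [he]; exact Submodule.smul_mem _ _ hx

theorem app_sum_apply {M N : X.Modules} {ι : Type*} [Fintype ι] (φ : ι → (M ⟶ N)) (W : X.Opens)
    (z : Γ(M, W)) : (∑ i, φ i).app W z = ∑ i, (φ i).app W z := by
  let a : (M ⟶ N) →+ Γ(N, W) := AddMonoidHom.mk' (fun φ => φ.app W z) fun _ _ => rfl
  exact map_sum a φ Finset.univ

/-- The unit section of the structure module. -/
abbrev oneSec (W : X.Opens) : Γ(Coh.structureModule X, W) := (1 : Γ(X, W))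

theorem unit_app_eq_smul {N : X.Modules} (φ : Coh.structureModule X ⟶ N) (W : X.Opens)
    (a : Γ(Coh.structureModule X, W)) :
    φ.app W a = (show Γ(X, W) from a) • φ.app W (oneSec W) := by
  rw [← Scheme.Modules.Hom.app_smul]
  exact congrArg (φ.app W) (mul_one (show Γ(X, W) from a)).symm

theorem mres_mres (M : X.Modules) {U V W : X.Opens} (h : V ≤ U) (h' : W ≤ V) (x : Γ(M, U)) :
    M.presheaf.map (homOfLE h').op (M.presheaf.map (homOfLE h).op x) =
      M.presheaf.map (homOfLE (h'.trans h)).op x := by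
  rw [← ConcreteCategory.comp_apply, ← Functor.map_comp]
  rfl

theorem rres_rres {U V W : X.Opens} (h : V ≤ U) (h' : W ≤ V) (x : Γ(X, U)) :
    X.presheaf.map (homOfLE h').op (X.presheaf.map (homOfLE h).op x) =
      X.presheaf.map (homOfLE (h'.trans h)).op x := by
  rw [← ConcreteCategory.comp_apply, ← Functor.map_comp]
  rfl

theorem mres_self (M : X.Modules) {U : X.Opens} (h : U ≤ U) (x : Γ(M, U)) :
    M.presheaf.map (homOfLE h).op x = x := by
  rw [Subsingleton.elim (homOfLE h).op (𝟙 _), CategoryTheory.Functor.map_id]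
  rfl

section transfer

variable {Y : Scheme.{u}} (f : X ⟶ Y) [IsOpenImmersion f] (M : Y.Modules)

theorem finite_restrict_iff (W : X.Opens) :
    Module.Finite Γ(X, W) Γ(M.restrict f, W) ↔
      Module.Finite Γ(Y, f ''ᵁ W) Γ(M, f ''ᵁ W) := by
  constructor <;> intro h
  · exact finite_of_semilinear (f.appIso W).inv.hom
      (M.restrictAppIso f W).hom.hom (fun a m => rfl) fun n => ⟨n, rfl⟩
  · refine finite_of_semilinear (f.appIso W).hom.hom (M.restrictAppIso f W).inv.hom
      (fun a m => ?_) fun n => ⟨n, rfl⟩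
    exact Scheme.Modules.smul_restrictAppIso_inv_apply f M W a m

theorem finite_of_eq (M : X.Modules) {U V : X.Opens} (h : U = V)
    (hf : Module.Finite Γ(X, U) Γ(M, U)) : Module.Finite Γ(X, V) Γ(M, V) := by
  subst h; exact hf

end transfer

/-- Sections over `D(t)` of a quasi-coherent module on an affine open have denominators `t ^ n`. -/
theorem exists_pow_smul_eq_res_Spec {R : CommRingCat.{u}} (M : (Spec R).Modules)
    [M.IsQuasicoherent] (t : R) (s' : Γ(M, D t)) :
    ∃ (n : ℕ) (s : Γ(M, ⊤)),
      M.presheaf.map (homOfLE (le_top : D t ≤ ⊤)).op s = (t ^ n : R) • s' := by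
  have hloc := (isIso_fromTildeΓ_iff_isLocalizing M).mp
    ((isQuasicoherent_iff_isIso_fromTildeΓ M).mp inferInstance) t
  let g := ((modulesSpecToSheaf.obj M).obj.map (D t).leTop.op).hom
  have hg : IsLocalizedModule (Submonoid.powers t) g := hloc
  obtain ⟨⟨s, ⟨_, n, rfl⟩⟩, hn⟩ := IsLocalizedModule.surj (Submonoid.powers t) g s'
  exact ⟨n, s, hn.symm⟩

/-- Sections of a quasi-coherent module over a basic open of an affine open have denominators. -/
theorem exists_pow_smul_eq_res (F : X.Modules) [F.IsQuasicoherent] {U : X.Opens}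
    (hU : IsAffineOpen U) (t : Γ(X, U)) (s' : Γ(F, X.basicOpen t)) :
    ∃ (n : ℕ) (s : Γ(F, U)), F.presheaf.map (homOfLE (X.basicOpen_le t)).op s =
      X.presheaf.map (homOfLE (X.basicOpen_le t)).op (t ^ n) • s' := by
  let f := hU.fromSpec
  have htop : f ''ᵁ ⊤ = U := by
    rw [Scheme.Hom.image_top_eq_opensRange, hU.opensRange_fromSpec]
  have hD : f ''ᵁ D t = X.basicOpen t := hU.fromSpec_image_basicOpen t
  have := Scheme.Modules.isQuasicoherent_restrictFunctor f F
  obtain ⟨n, s, hs⟩ := exists_pow_smul_eq_res_Spec (F.restrict f) t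
    ((F.restrictAppIso f _).inv (F.presheaf.map (homOfLE hD.le).op s'))
  refine ⟨n, F.presheaf.map (homOfLE htop.ge).op ((F.restrictAppIso f ⊤).hom s), ?_⟩
  have h2 : F.presheaf.map (homOfLE (Scheme.Hom.image_mono f (le_top : D t ≤ ⊤))).op
      ((F.restrictAppIso f ⊤).hom s) =
      ((f.appIso (D t)).inv
        ((Spec Γ(X, U)).presheaf.map (homOfLE (le_top : D t ≤ ⊤)).op
          ((Scheme.ΓSpecIso Γ(X, U)).inv (t ^ n)))) • F.presheaf.map (homOfLE hD.le).op s' := by
    rw [Scheme.Modules.smul_Spec_def] at hs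
    exact hs
  have hnat : (f.appIso (D t)).inv
        ((Spec Γ(X, U)).presheaf.map (homOfLE (le_top : D t ≤ ⊤)).op
          ((Scheme.ΓSpecIso Γ(X, U)).inv (t ^ n))) =
      X.presheaf.map (homOfLE (hD.le.trans (X.basicOpen_le t))).op (t ^ n) := by
    rw [← ConcreteCategory.comp_apply, Scheme.Hom.appIso_inv_naturality, ConcreteCategory.comp_apply,
      ← ConcreteCategory.comp_apply (Scheme.ΓSpecIso Γ(X, U)).inv, H29Blow.res_eq_appIso_inv hU htop.le,
      ← ConcreteCategory.comp_apply, ← Functor.map_comp]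
    exact congr(X.presheaf.map $(Subsingleton.elim _ _) (t ^ n))
  rw [hnat] at h2
  have h3 := congrArg (F.presheaf.map (homOfLE hD.ge).op) h2
  rw [Scheme.Modules.map_smul] at h3
  refine (mres_mres F _ _ _).trans ((mres_mres F _ _ _).symm.trans (h3.trans ?_))
  rw [mres_mres, mres_self, rres_rres]

/-- Finiteness of sections over an affine open is local on basic opens. -/
theorem finite_sections_of_cover (M : X.Modules) [M.IsQuasicoherent] {U : X.Opens}
    (hU : IsAffineOpen U) (T : Finset Γ(X, U)) (hT : Ideal.span (T : Set Γ(X, U)) = ⊤)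
    (hfin : ∀ t ∈ T, Module.Finite Γ(X, X.basicOpen t) Γ(M, X.basicOpen t)) :
    Module.Finite Γ(X, U) Γ(M, U) := by
  classical
  have key : ∀ t : T, ∃ S : Finset Γ(M, U), Submodule.span Γ(X, X.basicOpen t.1)
      (M.presheaf.map (homOfLE (X.basicOpen_le t.1)).op '' S) = ⊤ := by
    intro t
    obtain ⟨S', hS'⟩ := ((hfin t.1 t.2).fg_top : (⊤ : Submodule _ _).FG)
    choose n s hs using fun y => exists_pow_smul_eq_res M hU t.1 y
    refine ⟨S'.image s, eq_top_iff.2 (hS' ▸ Submodule.span_le.2 fun y hy => ?_)⟩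
    have hu : IsUnit (X.presheaf.map (homOfLE (X.basicOpen_le t.1)).op (t.1 ^ n y)) := by
      rw [map_pow]
      exact (RingedSpace.isUnit_res_basicOpen _ t.1).pow _
    rw [SetLike.mem_coe, ← Submodule.smul_mem_iff_of_isUnit _ hu, ← hs y]
    exact Submodule.subset_span ⟨s y, by simpa using ⟨y, hy, rfl⟩, rfl⟩
  choose S hS using key
  refine ⟨⟨T.attach.biUnion S, Submodule.eq_top_iff'.2 fun m => ?_⟩⟩
  refine Submodule.mem_of_span_eq_top_of_smul_pow_mem _ _ hT m fun t => ?_
  let res := (X.presheaf.map (homOfLE (X.basicOpen_le t.1)).op).hom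
  let P := Submodule.span Γ(X, U) ((T.attach.biUnion S : Finset Γ(M, U)) : Set Γ(M, U))
  have hm : ∃ (N : ℕ) (m' : Γ(M, U)), m' ∈ P ∧ M.presheaf.map (homOfLE (X.basicOpen_le t.1)).op m' =
      res (t.1 ^ N) • M.presheaf.map (homOfLE (X.basicOpen_le t.1)).op m := by
    have := (hS t).ge (Submodule.mem_top (x := M.presheaf.map (homOfLE (X.basicOpen_le t.1)).op m))
    revert this
    generalize M.presheaf.map (homOfLE (X.basicOpen_le t.1)).op m = z
    intro hz
    induction hz using Submodule.span_induction with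
    | mem y hy =>
      obtain ⟨x, hx, rfl⟩ := hy
      exact ⟨0, x, Submodule.subset_span (Finset.mem_biUnion.2 ⟨t, T.mem_attach t, hx⟩),
        by rw [pow_zero, map_one, one_smul]⟩
    | zero => exact ⟨0, 0, P.zero_mem, by simp⟩
    | add y z _ _ hy hz =>
      obtain ⟨a, u, hu, hu'⟩ := hy
      obtain ⟨b, v, hv, hv'⟩ := hz
      refine ⟨a + b, t.1 ^ b • u + t.1 ^ a • v, P.add_mem (P.smul_mem _ hu) (P.smul_mem _ hv), ?_⟩
      rw [map_add, Scheme.Modules.map_smul, Scheme.Modules.map_smul, hu', hv', smul_smul, smul_smul,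
        ← res.map_mul, ← res.map_mul, ← pow_add, ← pow_add, add_comm b a, ← smul_add]
    | smul c y _ hy =>
      obtain ⟨a, u, hu, hu'⟩ := hy
      have := hU.isLocalization_basicOpen t.1
      obtain ⟨k, d, hd⟩ := IsLocalization.Away.surj t.1 c
      refine ⟨a + k, d • u, P.smul_mem _ hu, ?_⟩
      rw [Scheme.Modules.map_smul, hu', smul_smul, smul_smul, pow_add, map_mul, map_pow res t.1 k]
      congr 1
      change algebraMap _ _ d * _ = _ * algebraMap _ _ t.1 ^ k * _
      rw [← hd]
      ring!
  obtain ⟨N, m', hm', heq⟩ := hm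
  obtain ⟨k, hk⟩ := H29Blow.exists_pow_smul_eq_zero M ‹_› hU t.1 (t.1 ^ N • m - m')
    (by rw [map_sub, Scheme.Modules.map_smul, heq]; exact sub_self _)
  refine ⟨k + N, ?_⟩
  rw [pow_add, mul_smul, ← sub_add_cancel (t.1 ^ N • m) m', smul_add, hk, zero_add]
  exact Submodule.smul_mem _ _ hm'

theorem isQuasicoherent_coproduct' (I : Type u) :
    (SheafOfModules.free (R := X.ringCatSheaf) I).IsQuasicoherent := by
  have := isQuasicoherent_unit (X := X)
  exact isQuasicoherent_coproduct (fun _ : I => Coh.structureModule X) fun _ => this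

/-- The free module, typed as an object of `X.Modules`. -/
noncomputable def freeMod (X : Scheme.{u}) (I : Type u) : X.Modules :=
  SheafOfModules.free (R := X.ringCatSheaf) I

/-- The `i`-th coproduct inclusion of a free module, as a map of `X.Modules`. -/
noncomputable abbrev freeIncl (I : Type u) (i : I) :
    Coh.structureModule X ⟶ freeMod X I :=
  SheafOfModules.ιFree i

theorem free_hom_ext {I : Type u} {N : X.Modules} (a b : freeMod X I ⟶ N)
    (h : ∀ j, freeIncl I j ≫ a = freeIncl I j ≫ b) : a = b :=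
  Cofan.IsColimit.hom_ext (SheafOfModules.isColimitFreeCofan (R := X.ringCatSheaf) I) _ _ h

theorem exists_free_desc {I : Type u} {N : X.Modules} (g : I → (Coh.structureModule X ⟶ N)) :
    ∃ a : freeMod X I ⟶ N, ∀ j, freeIncl I j ≫ a = g j :=
  ⟨Cofan.IsColimit.desc (SheafOfModules.isColimitFreeCofan (R := X.ringCatSheaf) I) g,
    fun j => Cofan.IsColimit.fac (SheafOfModules.isColimitFreeCofan (R := X.ringCatSheaf) I) g j⟩

theorem free_sections_span (I : Type u) [Fintype I] (W : X.Opens)
    (z : Γ(freeMod X I, W)) :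
    z ∈ Submodule.span Γ(X, W) (Set.range fun i =>
      (freeIncl I i).app W (oneSec W)) := by
  classical
  let F : X.Modules := freeMod X I
  have hex := fun i : I => exists_free_desc (X := X) (N := Coh.structureModule X)
    fun j => if j = i then 𝟙 _ else 0
  choose p hp using hex
  have hid : ∑ i, p i ≫ freeIncl I i = 𝟙 (freeMod X I) := by
    refine free_hom_ext _ _ fun j => ?_
    rw [Category.comp_id, Preadditive.comp_sum, Finset.sum_eq_single j]
    · rw [← Category.assoc, hp, if_pos rfl]
      exact Category.id_comp _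
    · intro i _ hi
      rw [← Category.assoc, hp, if_neg hi.symm, zero_comp]
    · simp
  have happ : z = ∑ i, (p i ≫ freeIncl I i).app W z :=
    (congrArg (fun φ : F ⟶ F => φ.app W z) hid).symm.trans (app_sum_apply _ W z)
  rw [happ]
  refine Submodule.sum_mem _ fun i _ => ?_
  rw [Scheme.Modules.Hom.comp_app, ConcreteCategory.comp_apply, unit_app_eq_smul]
  exact Submodule.smul_mem _ _ (Submodule.subset_span ⟨i, rfl⟩)

/-- A module generated by finitely many global sections has finitely generated sections on affines. -/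
theorem finite_sections_of_generators (M : X.Modules) [M.IsQuasicoherent]
    (G : M.GeneratingSections) [Finite G.I] {W : X.Opens} (hW : IsAffineOpen W) :
    Module.Finite Γ(X, W) Γ(M, W) := by
  classical
  have := Fintype.ofFinite G.I
  have hfree : (SheafOfModules.free (R := X.ringCatSheaf) G.I).IsQuasicoherent :=
    isQuasicoherent_coproduct' G.I
  let π' : freeMod X G.I ⟶ M := G.π
  have hs : Function.Surjective (π'.app W) := @surjective_app_of_epi _ _ _ π' hfree ‹_› G.epi _ hW
  let e : G.I → Γ(freeMod X G.I, W) := fun i => (freeIncl G.I i).app W (oneSec W)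
  refine ⟨⟨Finset.univ.image fun i => π'.app W (e i), Submodule.eq_top_iff'.2 fun m => ?_⟩⟩
  obtain ⟨z, rfl⟩ := hs m
  have hz : z ∈ Submodule.span Γ(X, W) (Set.range e) := free_sections_span G.I W z
  induction hz using Submodule.span_induction with
  | mem x hx =>
    obtain ⟨i, rfl⟩ := hx
    exact Submodule.subset_span (by simp)
  | zero => simp
  | add x y _ _ hx hy => rw [map_add]; exact Submodule.add_mem _ hx hy
  | smul a x _ hx => rw [Scheme.Modules.Hom.app_smul]; exact Submodule.smul_mem _ _ hx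

end Groth.Agent.H10Coh
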