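import Groth.Prelude.Def_Coh
import Mathlib.Algebra.Category.ModuleCat.Presheaf.Sheafification
import Mathlib.Algebra.Category.ModuleCat.Presheaf.Colimits
import Mathlib.Algebra.Category.ModuleCat.Sheaf.Colimits

/-!
The forgetful functor from sheaves of modules to abelian sheaves is exact.
-/

universe u v w

open CategoryTheory CategoryTheory.Limits AlgebraicGeometry

namespace Groth.Agent.H10Coh

section general

variable {C : Type u} [SmallCategory C] {J : GrothendieckTopology C} (R : Sheaf J RingCat.{u})
  [HasSheafify J AddCommGrpCat.{u}] [J.WEqualsLocallyBijective AddCommGrpCat.{u}]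

theorem preservesColimitsOfShape_toSheaf (K : Type v) [SmallCategory K]
    [HasColimitsOfShape K AddCommGrpCat.{u}] :
    PreservesColimitsOfShape K (SheafOfModules.toSheaf.{u} R) := by
  refine ⟨fun {D} => ?_⟩
  let L := PresheafOfModules.sheafification.{u, u, u, u} (R := R) (𝟙 R.obj)
  let adj := PresheafOfModules.sheafificationAdjunction (R := R) (𝟙 R.obj)
  let P := D ⋙ SheafOfModules.forget.{u} R ⋙ PresheafOfModules.restrictScalars (𝟙 R.obj)
  have hL : PreservesColimit P L := adj.leftAdjoint_preservesColimits.preservesColimitsOfShape.preservesColimit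
  have hS : PreservesColimit P (L ⋙ SheafOfModules.toSheaf.{u} R) := by
    have : PreservesColimit P (PresheafOfModules.toPresheaf R.obj ⋙ presheafToSheaf J AddCommGrpCat.{u}) :=
      inferInstance
    exact preservesColimit_of_natIso _ (PresheafOfModules.sheafificationCompToSheaf (R := R) (𝟙 R.obj)).symm
  have : PreservesColimit (P ⋙ L) (SheafOfModules.toSheaf.{u} R) :=
    preservesColimit_of_preserves_colimit_cocone (isColimitOfPreserves L (colimit.isColimit P))
      (isColimitOfPreserves (L ⋙ SheafOfModules.toSheaf.{u} R) (colimit.isColimit P))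
  exact preservesColimit_of_iso_diagram _
    (Functor.isoWhiskerLeft D (asIso adj.counit) ≪≫ D.rightUnitor : P ⋙ L ≅ D)

theorem preservesFiniteColimits_toSheaf :
    PreservesFiniteColimits (SheafOfModules.toSheaf.{u} R) :=
  ⟨fun K _ _ => preservesColimitsOfShape_toSheaf R K⟩

end general

instance preservesFiniteColimits_toSheaf_scheme (X : Scheme.{u}) :
    PreservesFiniteColimits (SheafOfModules.toSheaf.{u} X.ringCatSheaf) :=
  preservesFiniteColimits_toSheaf _

instance hasFiniteBiproducts_modules (X : Scheme.{u}) : HasFiniteBiproducts X.Modules :=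
  Abelian.hasFiniteBiproducts

end Groth.Agent.H10Coh
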