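import Mathlib.Algebra.Homology.DerivedCategory.Ext.Map
import Mathlib.Algebra.Homology.DerivedCategory.Ext.EnoughInjectives
import Mathlib.Algebra.Homology.DerivedCategory.Ext.ExactSequences
import Mathlib.CategoryTheory.Preadditive.Injective.Basic
import Mathlib.CategoryTheory.Limits.Preserves.Finite

/-!
Comparison of Ext groups along an exact functor `G : C ⥤ D` and a morphism `e : A' ⟶ G A`.
-/

universe w w' v v' u u'

open CategoryTheory CategoryTheory.Limits Abelian

namespace Groth.Agent.H10Coh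

section general

variable {C : Type u} [Category.{v} C] [Abelian C] [HasExt.{w} C]

/-- The short exact sequence `F ⟶ J ⟶ J/F` for an injective envelope map of `F`. -/
noncomputable abbrev injSeq [EnoughInjectives C] (F : C) : ShortComplex C :=
  ShortComplex.mk (Injective.ι F) (cokernel.π _) (cokernel.condition _)

omit [HasExt.{w} C] in
theorem injSeq_shortExact [EnoughInjectives C] (F : C) : (injSeq F).ShortExact where
  exact := ShortComplex.exact_of_g_is_cokernel _ (cokernelIsCokernel _)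
  mono_f := by dsimp [injSeq]; infer_instance
  epi_g := by dsimp [injSeq]; infer_instance

instance injSeq_injective [EnoughInjectives C] (F : C) : Injective (injSeq F).X₂ := by
  dsimp [injSeq]; infer_instance

/-- If `Ext^{n+1}(A, S.X₂)` vanishes, every class in `Ext^{n+1}(A, S.X₁)` comes from `Ext^n(A, S.X₃)`. -/
theorem exists_extClass_lift {A : C} {S : ShortComplex C} (hS : S.ShortExact) {n : ℕ}
    [Subsingleton (Ext A S.X₂ (n + 1))] (x : Ext A S.X₁ (n + 1)) :
    ∃ q : Ext A S.X₃ n, q.comp hS.extClass rfl = x :=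
  Ext.covariant_sequence_exact₁ A hS x (Subsingleton.elim _ _) rfl

theorem comp_extClass_injective {A : C} {S : ShortComplex C} (hS : S.ShortExact) {n : ℕ}
    [Subsingleton (Ext A S.X₂ n)] {q : Ext A S.X₃ n} (hq : q.comp hS.extClass rfl = 0) : q = 0 := by
  obtain ⟨j, hj⟩ := Ext.covariant_sequence_exact₃ A hS q rfl hq
  rw [← hj, Subsingleton.elim j 0, Ext.zero_comp]

theorem subsingleton_ext_X₁ {A : C} {S : ShortComplex C} (hS : S.ShortExact) {n : ℕ}
    [Subsingleton (Ext A S.X₂ (n + 1))] (h : Subsingleton (Ext A S.X₃ n)) :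
    Subsingleton (Ext A S.X₁ (n + 1)) := by
  refine subsingleton_of_forall_eq 0 fun x => ?_
  obtain ⟨q, rfl⟩ := exists_extClass_lift hS x
  rw [h.elim q 0, Ext.zero_comp]

theorem subsingleton_ext_one {A : C} {S : ShortComplex C} (hS : S.ShortExact)
    [Subsingleton (Ext A S.X₂ 1)] (h : Function.Surjective fun φ : A ⟶ S.X₂ => φ ≫ S.g) :
    Subsingleton (Ext A S.X₁ 1) := by
  refine subsingleton_of_forall_eq 0 fun x => ?_
  obtain ⟨q, rfl⟩ := exists_extClass_lift hS x
  obtain ⟨q, rfl⟩ := (Ext.mk₀_bijective _ _).2 q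
  obtain ⟨φ, rfl⟩ := h q
  rw [← Ext.mk₀_comp_mk₀, Ext.comp_assoc_of_second_deg_zero, hS.comp_extClass, Ext.comp_zero]

end general

section map

variable {C : Type u} [Category.{v} C] [Abelian C] [HasExt.{w} C]
variable {D : Type u'} [Category.{v'} D] [Abelian D] [HasExt.{w'} D]
variable (G : C ⥤ D) [G.Additive] [PreservesFiniteLimits G] [PreservesFiniteColimits G]
variable {A : C} {A' : D} (e : A' ⟶ G.obj A)

/-- `Ext^n(A, F) ⟶ Ext^n(A', G F)`. -/
noncomputable def extMap (F : C) (n : ℕ) : Ext.{w} A F n →+ Ext.{w'} A' (G.obj F) n :=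
  ((Ext.mk₀ e).precomp (G.obj F) (zero_add n)).comp (G.mapExtAddHom A F n)

theorem extMap_apply (F : C) (n : ℕ) (x : Ext.{w} A F n) :
    extMap G e F n x = (Ext.mk₀ e).comp (x.mapExactFunctor G) (zero_add n) := rfl

theorem extMap_mk₀ (F : C) (φ : A ⟶ F) : extMap G e F 0 (Ext.mk₀ φ) = Ext.mk₀ (e ≫ G.map φ) := by
  rw [extMap_apply, Ext.mapExactFunctor_mk₀, Ext.mk₀_comp_mk₀]

theorem extMap_comp {F F' : C} {a b c : ℕ} (x : Ext.{w} A F a) (y : Ext.{w} F F' b) (h : a + b = c) :
    extMap G e F' c (x.comp y h) = (extMap G e F a x).comp (y.mapExactFunctor G) h := by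
  rw [extMap_apply, extMap_apply, Ext.mapExactFunctor_comp,
    Ext.comp_assoc _ _ _ (zero_add a) h (show 0 + a + b = c by omega)]

theorem extMap_naturality {F F' : C} (φ : F ⟶ F') (n : ℕ) (x : Ext.{w} A F n) :
    extMap G e F' n (x.comp (Ext.mk₀ φ) (add_zero n)) =
      (extMap G e F n x).comp (Ext.mk₀ (G.map φ)) (add_zero n) := by
  rw [extMap_comp, Ext.mapExactFunctor_mk₀]

theorem extMap_extClass {S : ShortComplex C} (hS : S.ShortExact) (n : ℕ) (x : Ext.{w} A S.X₃ n) :
    extMap G e S.X₁ (n + 1) (x.comp hS.extClass rfl) =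
      (extMap G e S.X₃ n x).comp (hS.map_of_exact G).extClass rfl := by
  rw [extMap_comp, Ext.mapExactFunctor_extClass]
  rfl

theorem extMap_precomp {A₂ : C} {A₂' : D} (e₂ : A₂' ⟶ G.obj A₂) (l : A₂ ⟶ A) (k : A₂' ⟶ A')
    (h : k ≫ e = e₂ ≫ G.map l) (F : C) (n : ℕ) (x : Ext.{w} A F n) :
    extMap G e₂ F n ((Ext.mk₀ l).comp x (zero_add n)) =
      (Ext.mk₀ k).comp (extMap G e F n x) (zero_add n) := by
  rw [extMap_apply, extMap_apply, Ext.mapExactFunctor_comp, Ext.mapExactFunctor_mk₀,
    Ext.mk₀_comp_mk₀_assoc, Ext.mk₀_comp_mk₀_assoc, h]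

/-- If the comparison is bijective in degree zero and `G J` is acyclic for injective `J`, then it is
bijective in all degrees. -/
theorem extMap_bijective [EnoughInjectives C]
    (h0 : ∀ F : C, Function.Bijective fun φ : A ⟶ F => e ≫ G.map φ)
    (hJ : ∀ (J : C) [Injective J] (n : ℕ), Subsingleton (Ext.{w'} A' (G.obj J) (n + 1)))
    (n : ℕ) (F : C) : Function.Bijective (extMap G e F n) := by
  induction n generalizing F with
  | zero =>
    have : ⇑(extMap G e F 0) ∘ Ext.mk₀ = Ext.mk₀ ∘ fun φ : A ⟶ F => e ≫ G.map φ := by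
      ext φ
      exact extMap_mk₀ G e F φ
    exact (Function.Bijective.of_comp_iff _ (Ext.mk₀_bijective A F)).1
      (this ▸ (Ext.mk₀_bijective _ _).comp (h0 F))
  | succ n ih =>
    have hS := injSeq_shortExact F
    have hS' := hS.map_of_exact G
    have := hJ (injSeq F).X₂ n
    have : Subsingleton (Ext.{w'} A' ((injSeq F).map G).X₂ (n + 1)) := this
    constructor
    · rw [injective_iff_map_eq_zero]
      intro x hx
      obtain ⟨q, rfl⟩ : ∃ q : Ext A (injSeq F).X₃ n, q.comp hS.extClass rfl = x :=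
        Ext.covariant_sequence_exact₁ A hS x (Ext.eq_zero_of_injective _) rfl
      have hx' : (extMap G e _ n q).comp hS'.extClass rfl = 0 := by
        rw [← extMap_extClass]; exact hx
      obtain ⟨j, hj⟩ := Ext.covariant_sequence_exact₃ A' hS' _ rfl hx'
      obtain ⟨j₀, hj₀⟩ := (ih (injSeq F).X₂).2 j
      have : q = j₀.comp (Ext.mk₀ (injSeq F).g) (add_zero n) := by
        apply (ih _).1
        rw [extMap_naturality]
        exact hj.symm.trans (by rw [hj₀]; rfl)
      rw [this, Ext.comp_assoc_of_second_deg_zero, hS.comp_extClass, Ext.comp_zero]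
    · intro y
      obtain ⟨q', hq'⟩ : ∃ q', (q' : Ext A' ((injSeq F).map G).X₃ n).comp hS'.extClass rfl = y :=
        exists_extClass_lift hS' y
      obtain ⟨q, hq⟩ := (ih (injSeq F).X₃).2 q'
      refine ⟨q.comp hS.extClass rfl, ?_⟩
      rw [← hq', ← hq]
      exact extMap_extClass G e hS n q

/-- The comparison isomorphism. -/
noncomputable def extMapEquiv [EnoughInjectives C]
    (h0 : ∀ F : C, Function.Bijective fun φ : A ⟶ F => e ≫ G.map φ)
    (hJ : ∀ (J : C) [Injective J] (n : ℕ), Subsingleton (Ext.{w'} A' (G.obj J) (n + 1)))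
    (n : ℕ) (F : C) : Ext.{w} A F n ≃+ Ext.{w'} A' (G.obj F) n :=
  AddEquiv.ofBijective (extMap G e F n) (extMap_bijective G e h0 hJ n F)

theorem extMapEquiv_apply [EnoughInjectives C]
    (h0 : ∀ F : C, Function.Bijective fun φ : A ⟶ F => e ≫ G.map φ)
    (hJ : ∀ (J : C) [Injective J] (n : ℕ), Subsingleton (Ext.{w'} A' (G.obj J) (n + 1)))
    (n : ℕ) (F : C) (x : Ext.{w} A F n) : extMapEquiv G e h0 hJ n F x = extMap G e F n x := rfl

end map

end Groth.Agent.H10Coh
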