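import Groth.Agent.H10Coh.ToSheaf
import Mathlib.Algebra.Category.ModuleCat.Presheaf.Generator
import Mathlib.CategoryTheory.Abelian.GrothendieckCategory.EnoughInjectives
import Mathlib.CategoryTheory.Sites.Limits

/-!
Sheaves of modules on a small site form a Grothendieck abelian category.
-/

universe u

open CategoryTheory CategoryTheory.Limits

namespace Groth.Agent.H10Coh

variable {C : Type u} [SmallCategory C] {J : GrothendieckTopology C}

theorem isSeparating_image {A B : Type*} [Category A] [Category B] {F : A ⥤ B} {G : B ⥤ A}
    (adj : F ⊣ G) [G.Faithful] {ι : Type*} {f : ι → A}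
    (hP : ObjectProperty.IsSeparating (.ofObj f)) :
    ObjectProperty.IsSeparating (.ofObj fun i => F.obj (f i)) := by
  intro X Y g g' h
  refine G.map_injective (hP _ _ fun K hK a => ?_)
  obtain ⟨i⟩ := hK
  have := h _ (ObjectProperty.ofObj_apply _ i) ((adj.homEquiv (f i) X).symm a)
  have h2 := congrArg (adj.homEquiv (f i) Y) this
  rwa [adj.homEquiv_naturality_right, adj.homEquiv_naturality_right, Equiv.apply_symm_apply] at h2

theorem isGrothendieckAbelian_sheafOfModules (R : Sheaf J RingCat.{u}) :
    IsGrothendieckAbelian.{u} (SheafOfModules.{u} R) := by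
  have hsep : HasSeparator (SheafOfModules.{u} R) := by
    have h := isSeparating_image
      (PresheafOfModules.sheafificationAdjunction.{u, u, u, u} (R := R) (𝟙 R.obj))
      (PresheafOfModules.freeYoneda.isSeparating R.obj)
    exact ⟨_, h.isSeparator_coproduct⟩
  refine { hasSeparator := hsep, ab5OfSize := ⟨fun K _ _ => ?_⟩ }
  have := preservesColimitsOfShape_toSheaf R K
  have : PreservesFiniteLimits (SheafOfModules.toSheaf.{u} R) := inferInstance
  have : ReflectsFiniteLimits (SheafOfModules.toSheaf.{u} R) :=
    ⟨fun _ _ _ => reflectsLimitsOfShape_of_reflectsIsomorphisms⟩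
  exact HasExactColimitsOfShape.domain_of_functor K (SheafOfModules.toSheaf.{u} R)

theorem enoughInjectives_sheafOfModules (R : Sheaf J RingCat.{u}) :
    EnoughInjectives (SheafOfModules.{u} R) :=
  have := isGrothendieckAbelian_sheafOfModules R
  inferInstance

end Groth.Agent.H10Coh
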