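import Groth.Agent.H10Coh.Kill
import Groth.Agent.H10Coh.ToSheaf

/-!
Cohomology of modules on schemes over opens.
-/

universe u

open CategoryTheory CategoryTheory.Limits Opposite TopologicalSpace Abelian Topology AlgebraicGeometry

namespace Groth.Agent.H10Coh

attribute [local instance 10000] hasSheafifyAb hasWeakSheafifyAb hasExtAb enoughInjAb

variable {X Y : Scheme.{u}}

/-- The underlying abelian sheaf functor. -/
noncomputable abbrev shF (X : Scheme.{u}) : X.Modules ⥤ CohTop.Ab X.toTopCat :=
  SheafOfModules.toSheaf X.ringCatSheaf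

/-- The underlying abelian sheaf. -/
noncomputable abbrev sh (M : X.Modules) : CohTop.Ab X.toTopCat := (shF X).obj M

instance : (shF X).Additive := inferInstanceAs (SheafOfModules.toSheaf X.ringCatSheaf).Additive

instance : PreservesFiniteLimits (shF X) :=
  inferInstanceAs (PreservesFiniteLimits (SheafOfModules.toSheaf.{u} X.ringCatSheaf))

instance : PreservesFiniteColimits (shF X) :=
  preservesFiniteColimits_toSheaf_scheme X

instance : (shF X).Faithful := inferInstanceAs (SheafOfModules.toSheaf.{u} X.ringCatSheaf).Faithful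

/-- `H^n(U, M)` on a scheme. -/
noncomputable abbrev HnM (M : X.Modules) (n : ℕ) (U : X.Opens) : Type u := Hn (sh M) n U

theorem im_eq (f : X ⟶ Y) [IsOpenImmersion f] (V : X.Opens) : im f.isOpenEmbedding V = f ''ᵁ V := rfl

/-- `H^n(f''V, M) ≃ H^n(V, M|)`. -/
noncomputable def restrEquivM (f : X ⟶ Y) [IsOpenImmersion f] (M : Y.Modules) (n : ℕ) (V : X.Opens) :
    HnM M n (f ''ᵁ V) ≃+ HnM (M.restrict f) n V :=
  restrEquiv f.isOpenEmbedding (sh M) n V

theorem subsingleton_HnM_image (f : X ⟶ Y) [IsOpenImmersion f] (M : Y.Modules) (n : ℕ) (V : X.Opens)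
    (U : Y.Opens) (hU : f ''ᵁ V = U) (h : Subsingleton (HnM (M.restrict f) n V)) :
    Subsingleton (HnM M n U) := by
  subst hU
  exact (restrEquivM f M n V).toEquiv.subsingleton

/-- A short exact sequence of modules gives one of abelian sheaves. -/
theorem shortExact_sh {S : ShortComplex X.Modules} (hS : S.ShortExact) :
    (S.map (shF X)).ShortExact :=
  hS.map_of_exact _

end Groth.Agent.H10Coh
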