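import Groth.Agent.H10Coh.FinType2

/-!
# Local surjectivity, supports of finite type modules
-/

universe u

open CategoryTheory CategoryTheory.Limits AlgebraicGeometry Opposite TopologicalSpace

namespace Groth.Agent.H10Coh

attribute [local instance 10000] hasSheafifyAb hasWeakSheafifyAb hasExtAb enoughInjAb

variable {X : Scheme.{u}}

/-- An epimorphism of modules is locally surjective on sections. -/
theorem exists_nhds_lift_of_epi {M N : X.Modules} (φ : M ⟶ N) [Epi φ] (U : X.Opens) (t : Γ(N, U))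
    (x : X) (hx : x ∈ U) : ∃ (V : X.Opens) (hV : V ≤ U) (_ : x ∈ V) (s : Γ(M, V)),
      φ.app V s = N.presheaf.map (homOfLE hV).op t := by
  have h : TopCat.Presheaf.IsLocallySurjective ((shF X).map φ).hom :=
    (TopCat.Sheaf.isLocallySurjective_iff_epi _).2 ((shF X).map_epi φ)
  obtain ⟨V, hV, ⟨s, hs⟩, hxV⟩ := (TopCat.Presheaf.isLocallySurjective_iff _).1 h U t x hx
  exact ⟨V, hV, hxV, s, hs⟩

theorem germ_app {M N : X.Modules} (φ : M ⟶ N) (U : X.Opens) (x : X) (hx : x ∈ U) (s : Γ(M, U)) :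
    (TopCat.Presheaf.stalkFunctor AddCommGrpCat.{u} x).map φ.mapPresheaf (M.presheaf.germ U x hx s) =
      N.presheaf.germ U x hx (φ.app U s) :=
  TopCat.Presheaf.stalkFunctor_map_germ_apply U x hx φ.mapPresheaf s

/-- Sections of a restricted module, as sections. -/
theorem restrict_subsingleton (M : X.Modules) {U : X.Opens}
    (h : ∀ y ∈ U, ∀ (O : X.Opens) (hy : y ∈ O) (s : Γ(M, O)), M.presheaf.germ O y hy s = 0) :
    IsZero (M.restrict U.ι) := by
  rw [IsZero.iff_id_eq_zero]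
  ext W s
  refine TopCat.Presheaf.section_ext (sh M) (U.ι ''ᵁ W) s 0 fun y hy => ?_
  rw [map_zero]
  have hle : U.ι ''ᵁ W ≤ U := (Scheme.Hom.image_mono U.ι (le_top : W ≤ ⊤)).trans
    (by rw [Scheme.Hom.image_top_eq_opensRange, Scheme.Opens.opensRange_ι])
  exact h y (hle hy) _ hy s

theorem finset_inf_mem {Y : Type*} [TopologicalSpace Y] {ι : Type*} (s : Finset ι)
    (V : ι → Opens Y) {x : Y} (h : ∀ i ∈ s, x ∈ V i) : x ∈ s.inf V := by
  classical
  induction s using Finset.induction_on with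
  | empty => exact trivial
  | insert i s _ ih =>
    rw [Finset.inf_insert]
    exact ⟨h i (Finset.mem_insert_self _ _), ih fun j hj => h j (Finset.mem_insert_of_mem hj)⟩

theorem germ_eq_zero_of_le (M : X.Modules) {O O' : X.Opens} (h : O' ≤ O) {y : X} (hy : y ∈ O')
    (s : Γ(M, O)) (hs : M.presheaf.map (homOfLE h).op s = 0) :
    M.presheaf.germ O y (h hy) s = 0 := by
  rw [← TopCat.Presheaf.germ_res_apply M.presheaf (homOfLE h) y hy, hs, map_zero]

/-- For a finite type module, vanishing of the stalk propagates to a neighbourhood. -/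
theorem exists_nhd_germ_eq_zero (M : X.Modules) (hM : CohB1.IsFT M) (x : X)
    (hx : Subsingleton (M.presheaf.stalk x)) :
    ∃ U : X.Opens, x ∈ U ∧ ∀ y ∈ U, ∀ (O : X.Opens) (hy : y ∈ O) (s : Γ(M, O)),
      M.presheaf.germ O y hy s = 0 := by
  classical
  obtain ⟨W, hxW, G, hG⟩ := exists_generators_nhd M hM x
  have := Fintype.ofFinite G.I
  let π' : freeMod W.toScheme G.I ⟶ M.restrict W.ι := G.π
  haveI : Epi π' := G.epi
  let e (i : G.I) : Γ(M.restrict W.ι, ⊤) := π'.app ⊤ ((freeIncl G.I i).app ⊤ (oneSec ⊤))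
  let m (i : G.I) : Γ(M, W.ι ''ᵁ ⊤) := e i
  have hxtop : x ∈ W.ι ''ᵁ ⊤ := by
    rw [Scheme.Hom.image_top_eq_opensRange, Scheme.Opens.opensRange_ι]; exact hxW
  have hV : ∀ i, ∃ (V : X.Opens) (h : V ≤ W.ι ''ᵁ ⊤), x ∈ V ∧ M.presheaf.map (homOfLE h).op (m i) = 0 := by
    intro i
    obtain ⟨V, hxV, iV, iV', h⟩ := TopCat.Presheaf.germ_eq M.presheaf x hxtop hxtop (m i) 0
      (@Subsingleton.elim _ hx _ _)
    exact ⟨V, iV.le, hxV, h.trans (map_zero _)⟩
  choose V hVle hxV hVm using hV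
  refine ⟨W ⊓ Finset.univ.inf V, ⟨hxW, ?_⟩, ?_⟩
  · exact finset_inf_mem _ V fun i _ => hxV i
  rintro y ⟨hyW, hyV⟩ O hy s
  let U := O ⊓ (W ⊓ Finset.univ.inf V)
  have hle : W.ι ''ᵁ (W.ι ⁻¹ᵁ U) ≤ O :=
    (Scheme.Hom.image_preimage_le W.ι U).trans inf_le_left
  obtain ⟨V', hV', hyV', z, hz⟩ := exists_nhds_lift_of_epi π' (W.ι ⁻¹ᵁ U)
    (M.presheaf.map (homOfLE hle).op s : Γ(M, W.ι ''ᵁ (W.ι ⁻¹ᵁ U))) ⟨y, hyW⟩ ⟨hy, hyW, hyV⟩
  have hz0 : π'.app V' z = 0 := by
    clear hz
    have hzs := free_sections_span G.I V' z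
    induction hzs using Submodule.span_induction with
    | mem a ha =>
      obtain ⟨i, rfl⟩ := ha
      have hle' : W.ι ''ᵁ V' ≤ V i := ((Scheme.Hom.image_mono W.ι hV').trans
        (Scheme.Hom.image_preimage_le W.ι U)).trans
        ((inf_le_right.trans inf_le_right).trans (Finset.inf_le (Finset.mem_univ i)))
      have hnat : π'.app V' ((freeIncl G.I i).app V' (oneSec V')) =
          (M.restrict W.ι).presheaf.map (homOfLE (le_top : V' ≤ ⊤)).op (e i) := by
        have h1 : oneSec V' = (Coh.structureModule W.toScheme).presheaf.map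
            (homOfLE (le_top : V' ≤ ⊤)).op (oneSec ⊤) :=
          (map_one (W.toScheme.presheaf.map (homOfLE (le_top : V' ≤ ⊤)).op).hom).symm
        rw [h1]
        exact congr($((freeIncl G.I i ≫ π').mapPresheaf.naturality
          (homOfLE (le_top : V' ≤ ⊤)).op) (oneSec ⊤))
      rw [hnat]
      refine Eq.trans ?_ ((congrArg (M.presheaf.map (homOfLE hle').op) (hVm i)).trans (map_zero _))
      exact (mres_mres M (hVle i) hle' (m i)).symm
    | zero => simp
    | add a b _ _ ha hb => rw [map_add, ha, hb, add_zero]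
    | smul r a _ ha => rw [Scheme.Modules.Hom.app_smul, ha, smul_zero]
  have hle2 : W.ι ''ᵁ V' ≤ O := (Scheme.Hom.image_mono W.ι hV').trans hle
  refine germ_eq_zero_of_le M hle2 (O' := W.ι ''ᵁ V') (y := y) ⟨_, hyV', rfl⟩ s ?_
  rw [hz0] at hz
  exact (mres_mres M hle (Scheme.Hom.image_mono W.ι hV') s).symm.trans hz.symm

theorem isClosed_support (M : X.Modules) (hM : CohB1.IsFT M) : IsClosed (CohB1.support M) := by
  rw [← isOpen_compl_iff, isOpen_iff_forall_mem_open]
  intro x hx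
  obtain ⟨U, hxU, hU⟩ := exists_nhd_germ_eq_zero M hM x (not_not.1 hx)
  refine ⟨U, fun y hy => not_not.2 ⟨fun a b => ?_⟩, U.2, hxU⟩
  obtain ⟨O, hO, s, rfl⟩ := TopCat.Presheaf.exists_germ_eq M.presheaf a
  obtain ⟨O', hO', s', rfl⟩ := TopCat.Presheaf.exists_germ_eq M.presheaf b
  rw [hU y hy O hO s, hU y hy O' hO' s']

/-- A finite type module with vanishing stalk vanishes near the point. -/
theorem exists_nhd_isZero (M : X.Modules) (hM : CohB1.IsFT M) (x : X)
    (hx : Subsingleton (M.presheaf.stalk x)) :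
    ∃ U : X.Opens, x ∈ U ∧ IsZero (M.restrict U.ι) := by
  obtain ⟨U, hxU, hU⟩ := exists_nhd_germ_eq_zero M hM x hx
  exact ⟨U, hxU, restrict_subsingleton M hU⟩

theorem subsingleton_stalk_kernel {F G : X.Modules} (φ : G ⟶ F) (x : X)
    (h : Function.Injective ((TopCat.Presheaf.stalkFunctor AddCommGrpCat.{u} x).map φ.mapPresheaf)) :
    Subsingleton ((kernel φ).presheaf.stalk x) := by
  refine subsingleton_of_forall_eq 0 fun a => ?_
  obtain ⟨O, hO, s, rfl⟩ := TopCat.Presheaf.exists_germ_eq (kernel φ).presheaf a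
  apply TopCat.Presheaf.stalkFunctor_map_injective_of_app_injective
    (f := (kernel.ι φ).mapPresheaf) (fun U => injective_app_of_mono' (kernel.ι φ) U) x
  refine (germ_app _ O x hO s).trans ?_
  refine Eq.trans ?_ (map_zero _).symm
  apply h
  rw [germ_app, map_zero]
  rw [show φ.app O ((kernel.ι φ).app O s) = 0 from congr($(kernel.condition φ).app O s)]
  exact map_zero _

theorem subsingleton_stalk_cokernel {F G : X.Modules} (φ : G ⟶ F) (x : X)
    (h : Function.Surjective ((TopCat.Presheaf.stalkFunctor AddCommGrpCat.{u} x).map φ.mapPresheaf)) :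
    Subsingleton ((cokernel φ).presheaf.stalk x) := by
  refine subsingleton_of_forall_eq 0 fun a => ?_
  obtain ⟨O, hO, t, rfl⟩ := TopCat.Presheaf.exists_germ_eq (cokernel φ).presheaf a
  obtain ⟨V, hV, hxV, s, hs⟩ := exists_nhds_lift_of_epi (cokernel.π φ) O t x hO
  rw [← TopCat.Presheaf.germ_res_apply (cokernel φ).presheaf (homOfLE hV) x hxV, ← hs, ← germ_app]
  obtain ⟨g, hg⟩ := h (F.presheaf.germ V x hxV s)
  obtain ⟨O', hO', g', rfl⟩ := TopCat.Presheaf.exists_germ_eq G.presheaf g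
  rw [← hg, germ_app, germ_app,
    show (cokernel.π φ).app O' (φ.app O' g') = 0 from congr($(cokernel.condition φ).app O' g'),
    map_zero]

theorem mono_restrict_of_isZero_kernel {F G : X.Modules} (φ : G ⟶ F) (U : X.Opens)
    (h : IsZero ((kernel φ).restrict U.ι)) :
    Mono ((Scheme.Modules.restrictFunctor U.ι).map φ) :=
  Preadditive.mono_of_kernel_zero
    ((h.of_iso (PreservesKernel.iso (Scheme.Modules.restrictFunctor U.ι) φ).symm).eq_of_src _ _)

theorem epi_restrict_of_isZero_cokernel {F G : X.Modules} (φ : G ⟶ F) (U : X.Opens)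
    (h : IsZero ((cokernel φ).restrict U.ι)) :
    Epi ((Scheme.Modules.restrictFunctor U.ι).map φ) :=
  Preadditive.epi_of_cokernel_zero
    ((h.of_iso (PreservesCokernel.iso (Scheme.Modules.restrictFunctor U.ι) φ).symm).eq_of_tgt _ _)

end Groth.Agent.H10Coh
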