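import Mathlib.AlgebraicGeometry.Morphisms.QuasiSeparated
import Mathlib.AlgebraicGeometry.Morphisms.QuasiCompact

/-!
The induction principle for quasi-compact opens of a quasi-separated scheme.
-/

universe u

open CategoryTheory AlgebraicGeometry TopologicalSpace

namespace Groth.Agent.H10Coh

theorem qcqs_induction {X : Scheme.{u}} [QuasiSeparatedSpace X] (P : X.Opens → Prop)
    (h₁ : ∀ U : X.Opens, IsAffineOpen U → P U)
    (h₂ : ∀ U V : X.Opens, IsCompact (U : Set X) → IsAffineOpen V → P U → P V → P (U ⊓ V) →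
      P (U ⊔ V))
    (U : X.Opens) (hU : IsCompact (U : Set X)) : P U := by
  have key : ∀ A : X.Opens, IsAffineOpen A → ∀ s : Finset Γ(X, A), ∀ h : Γ(X, A),
      IsCompact ((s.sup fun f => X.basicOpen (f * h) : X.Opens) : Set X) ∧
        P (s.sup fun f => X.basicOpen (f * h)) := by
    intro A hA s
    classical
    induction s using Finset.induction with
    | empty => intro h; simp only [Finset.sup_empty]; exact ⟨by simp, h₁ ⊥ (isAffineOpen_bot X)⟩
    | @insert g s _ ih =>
      intro h
      rw [Finset.sup_insert, sup_comm]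
      have hg : IsAffineOpen (X.basicOpen (g * h)) := hA.basicOpen _
      refine ⟨by simpa using (ih h).1.union hg.isCompact, h₂ _ _ (ih h).1 hg (ih h).2 (h₁ _ hg) ?_⟩
      convert! (ih (h * (g * h))).2 using 1
      rw [Finset.sup_inf_distrib_right]
      exact Finset.sup_congr rfl fun f _ => by rw [← Scheme.basicOpen_mul, mul_assoc]
  have sep : ∀ A : X.Opens, IsAffineOpen A → ∀ V : X.Opens, IsCompact (V : Set X) → V ≤ A → P V := by
    intro A hA V hV hVA
    have hcov : ∀ x : V, ∃ f : Γ(X, A), x.1 ∈ X.basicOpen f ∧ X.basicOpen f ≤ V := fun x => by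
      obtain ⟨f, hle, hf⟩ := hA.exists_basicOpen_le x (hVA x.2)
      exact ⟨f, hf, hle⟩
    choose f hf hle using hcov
    obtain ⟨t, ht⟩ := hV.elim_finite_subcover (fun x : V => (X.basicOpen (f x) : Set X))
      (fun x => (X.basicOpen (f x)).2) fun x hx => Set.mem_iUnion.2 ⟨⟨x, hx⟩, hf _⟩
    classical
    have h := (key A hA (t.image f) 1).2
    convert h using 1
    simp only [mul_one, Finset.sup_image, Function.comp_def]
    refine le_antisymm (fun x hx => ?_) (Finset.sup_le fun x _ => hle x)
    obtain ⟨y, hy, hxy⟩ := Set.mem_iUnion₂.1 (ht hx)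
    exact (Finset.le_sup (f := fun x => X.basicOpen (f x)) hy) hxy
  refine compact_open_induction_on (P := P) U hU (h₁ ⊥ (isAffineOpen_bot X)) fun S hS A hP => ?_
  refine h₂ S A hS A.2 hP (h₁ A A.2) (sep A A.2 _ ?_ inf_le_right)
  simpa using QuasiSeparatedSpace.inter_isCompact S.1 A.1 S.2 hS A.1.2 A.2.isCompact

end Groth.Agent.H10Coh
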