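import Groth.Agent.H10Coh.ModRes
import Groth.Agent.H10Coh.Induction
import Groth.Agent.H10Coh.FinType2
import Groth.Agent.H10Coh.Affine

/-!
# Mayer–Vietoris and localisation for cohomology, at the level of cocycles
-/

universe u

open CategoryTheory CategoryTheory.Limits AlgebraicGeometry Opposite TopologicalSpace

namespace Groth.Agent.H10Coh

attribute [local instance 10000] hasSheafifyAb hasWeakSheafifyAb hasExtAb enoughInjAb

variable {X : Scheme.{u}}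

/-- Restriction of sections of a module. -/
noncomputable def rs (N : X.Modules) {U V : X.Opens} (h : V ≤ U) : Γ(N, U) →+ Γ(N, V) :=
  (N.presheaf.map (homOfLE h).op).hom

theorem rs_rs (N : X.Modules) {U V W : X.Opens} (h : V ≤ U) (h' : W ≤ V) (x : Γ(N, U)) :
    rs N h' (rs N h x) = rs N (h'.trans h) x :=
  mres_mres N h h' x

theorem rs_self (N : X.Modules) {U : X.Opens} (h : U ≤ U) (x : Γ(N, U)) : rs N h x = x :=
  mres_self N h x

/-- A global function on an open. -/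
noncomputable def gres (r : Γ(X, ⊤)) (U : X.Opens) : Γ(X, U) :=
  X.presheaf.map (homOfLE (le_top : U ≤ ⊤)).op r

theorem gres_res (r : Γ(X, ⊤)) {U V : X.Opens} (h : V ≤ U) :
    X.presheaf.map (homOfLE h).op (gres r U) = gres r V :=
  rres_rres _ h r

theorem rs_smul (N : X.Modules) {U V : X.Opens} (h : V ≤ U) (r : Γ(X, ⊤)) (k : ℕ) (x : Γ(N, U)) :
    rs N h (gres r U ^ k • x) = gres r V ^ k • rs N h x := by
  refine (Scheme.Modules.map_smul N (homOfLE h) _ x).trans ?_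
  rw [map_pow, gres_res]
  rfl

/-- The differential `I^n ⟶ Z^{n+1}` on sections. -/
noncomputable def pA (R : MRes X) (n : ℕ) (U : X.Opens) : Γ(R.I n, U) →+ Γ(R.Z (n + 1), U) :=
  ((R.p n).app U).hom

/-- The inclusion `Z^n ⟶ I^n` on sections. -/
noncomputable def iA (R : MRes X) (n : ℕ) (U : X.Opens) : Γ(R.Z n, U) →+ Γ(R.I n, U) :=
  ((R.i n).app U).hom

theorem pA_rs (R : MRes X) (n : ℕ) {U V : X.Opens} (h : V ≤ U) (x : Γ(R.I n, U)) :
    pA R n V (rs _ h x) = rs _ h (pA R n U x) :=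
  ConcreteCategory.congr_hom ((R.p n).mapPresheaf.naturality (homOfLE h).op) x

theorem iA_rs (R : MRes X) (n : ℕ) {U V : X.Opens} (h : V ≤ U) (x : Γ(R.Z n, U)) :
    iA R n V (rs _ h x) = rs _ h (iA R n U x) :=
  ConcreteCategory.congr_hom ((R.i n).mapPresheaf.naturality (homOfLE h).op) x

theorem pA_smul (R : MRes X) (n : ℕ) (U : X.Opens) (c : Γ(X, U)) (x : Γ(R.I n, U)) :
    pA R n U (c • x) = c • pA R n U x := (R.p n).app_smul c x

theorem iA_smul (R : MRes X) (n : ℕ) (U : X.Opens) (c : Γ(X, U)) (x : Γ(R.Z n, U)) :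
    iA R n U (c • x) = c • iA R n U x := (R.i n).app_smul c x

theorem pA_iA (R : MRes X) (n : ℕ) (U : X.Opens) (c : Γ(R.Z n, U)) :
    pA R n U (iA R n U c) = 0 := mp_mi_app R n U c

theorem exists_iA_eq (R : MRes X) (n : ℕ) (U : X.Opens) (w : Γ(R.I n, U))
    (hw : pA R n U w = 0) : ∃ c, iA R n U c = w := exists_mi_eq R n U w hw

theorem iA_injective (R : MRes X) (n : ℕ) (U : X.Opens) : Function.Injective (iA R n U) :=
  @injective_app_of_mono' _ _ _ (R.i n) (R.se n).mono_f U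

theorem exists_rs_eq (R : MRes X) (n : ℕ) {U V : X.Opens} (h : V ≤ U) (w : Γ(R.I n, V)) :
    ∃ w' : Γ(R.I n, U), rs _ h w' = w := exists_mI_res R n h w

/-- Gluing two sections. -/
theorem glue_two (N : X.Modules) {U V : X.Opens} (a : Γ(N, U)) (b : Γ(N, V))
    (h : rs N (inf_le_left : U ⊓ V ≤ U) a = rs N (inf_le_right : U ⊓ V ≤ V) b) :
    ∃ w : Γ(N, U ⊔ V), rs N le_sup_left w = a ∧ rs N le_sup_right w = b := by
  let W : ULift.{u} Bool → X.Opens := fun i => bif i.down then U else V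
  let s : ∀ i, Γ(N, W i) := fun i => by
    rcases i with ⟨⟨⟩⟩
    · exact b
    · exact a
  have hle : ∀ i, W i ≤ U ⊔ V := by rintro ⟨⟨⟩⟩ <;> simp [W]
  obtain ⟨w, hw, -⟩ := TopCat.Sheaf.existsUnique_gluing' (sheafOf N) W (U ⊔ V)
    (fun i => homOfLE (hle i)) (sup_le (le_iSup W ⟨true⟩) (le_iSup W ⟨false⟩)) s (by
    rintro ⟨⟨⟩⟩ ⟨⟨⟩⟩
    · rfl
    · have h' := congrArg (rs N (le_inf inf_le_right inf_le_left : V ⊓ U ≤ U ⊓ V)) h
      rw [rs_rs, rs_rs] at h'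
      exact h'.symm
    · exact h
    · rfl)
  exact ⟨w, hw ⟨true⟩, hw ⟨false⟩⟩

theorem eq_of_two (N : X.Modules) {U V W : X.Opens} (hU : U ≤ W) (hV : V ≤ W) (hW : W ≤ U ⊔ V)
    (a b : Γ(N, W)) (h₁ : rs N hU a = rs N hU b) (h₂ : rs N hV a = rs N hV b) : a = b := by
  let Ws : ULift.{u} Bool → X.Opens := fun i => bif i.down then U else V
  refine TopCat.Sheaf.eq_of_locally_eq' (sheafOf N) Ws W
    (fun i => homOfLE (by rcases i with ⟨⟨⟩⟩ <;> assumption))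
    (hW.trans (sup_le (le_iSup Ws ⟨true⟩) (le_iSup Ws ⟨false⟩))) a b ?_
  rintro ⟨⟨⟩⟩
  · exact h₂
  · exact h₁

variable (R : MRes X)

/-- Coboundaries. -/
def Bd : ∀ (n : ℕ) {U : X.Opens}, Γ(R.Z n, U) → Prop
  | 0, _, z => z = 0
  | n + 1, U, z => ∃ d, pA R n U d = z

theorem Bd.zero (n : ℕ) (U : X.Opens) : Bd R n (0 : Γ(R.Z n, U)) := by
  cases n with
  | zero => rfl
  | succ n => exact ⟨0, map_zero _⟩

theorem Bd.add (n : ℕ) {U : X.Opens} {a b : Γ(R.Z n, U)} (ha : Bd R n a) (hb : Bd R n b) :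
    Bd R n (a + b) := by
  cases n with
  | zero => exact (congrArg₂ (· + ·) (show a = 0 from ha) (show b = 0 from hb)).trans (add_zero 0)
  | succ n =>
    obtain ⟨x, rfl⟩ := ha
    obtain ⟨y, rfl⟩ := hb
    exact ⟨x + y, map_add _ _ _⟩

theorem Bd.neg (n : ℕ) {U : X.Opens} {a : Γ(R.Z n, U)} (ha : Bd R n a) : Bd R n (-a) := by
  cases n with
  | zero => exact (congrArg Neg.neg (show a = 0 from ha)).trans neg_zero
  | succ n =>
    obtain ⟨x, rfl⟩ := ha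
    exact ⟨-x, map_neg _ _⟩

theorem Bd.smul (n : ℕ) {U : X.Opens} (c : Γ(X, U)) {a : Γ(R.Z n, U)} (ha : Bd R n a) :
    Bd R n (c • a) := by
  cases n with
  | zero => exact (congrArg (c • ·) (show a = 0 from ha)).trans (smul_zero c)
  | succ n =>
    obtain ⟨x, rfl⟩ := ha
    exact ⟨c • x, pA_smul R n U c x⟩

theorem Bd.res (n : ℕ) {U V : X.Opens} (h : V ≤ U) {a : Γ(R.Z n, U)} (ha : Bd R n a) :
    Bd R n (rs _ h a) := by
  cases n with
  | zero => exact (congrArg (rs _ h) (show a = 0 from ha)).trans (map_zero _)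
  | succ n =>
    obtain ⟨x, rfl⟩ := ha
    exact ⟨rs _ h x, pA_rs R n h x⟩

theorem Bd.extend (n : ℕ) {U V : X.Opens} (h : V ≤ U) {a : Γ(R.Z n, V)} (ha : Bd R n a) :
    ∃ b : Γ(R.Z n, U), Bd R n b ∧ rs _ h b = a := by
  cases n with
  | zero => exact ⟨0, rfl, (map_zero _).trans (show a = 0 from ha).symm⟩
  | succ n =>
    obtain ⟨x, rfl⟩ := ha
    obtain ⟨y, hy⟩ := exists_rs_eq R n h x
    exact ⟨pA R n U y, ⟨y, rfl⟩, by rw [← pA_rs, hy]⟩

theorem Bd.iff_cls (n : ℕ) {U : X.Opens} (z : Γ(R.Z n, U)) :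
    Bd R n z ↔ FRes.cls n R.toF U z = 0 := by
  cases n with
  | zero => exact (map_eq_zero_iff _ (H0Equiv (sh (R.Z 0)) U).symm.injective).symm
  | succ n => exact (FRes.cls_eq_zero_iff n R.toF U z).symm

theorem subsingleton_iff_Bd (n : ℕ) (U : X.Opens) :
    Subsingleton (HnM (R.Z 0) n U) ↔ ∀ z : Γ(R.Z n, U), Bd R n z := by
  constructor
  · exact fun h z => (Bd.iff_cls R n z).2 (h.elim _ _)
  · intro h
    refine subsingleton_of_forall_eq (0 : Hn (sh (R.Z 0)) n U) fun x => ?_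
    obtain ⟨z, rfl⟩ := FRes.cls_surjective n R.toF U x
    exact (Bd.iff_cls R n z).1 (h z)

/-- Mayer–Vietoris vanishing. -/
theorem subsingleton_sup (n : ℕ) (U V : X.Opens) (hU : Subsingleton (HnM (R.Z 0) (n + 1) U))
    (hV : Subsingleton (HnM (R.Z 0) (n + 1) V)) (hUV : Subsingleton (HnM (R.Z 0) n (U ⊓ V))) :
    Subsingleton (HnM (R.Z 0) (n + 1) (U ⊔ V)) := by
  rw [subsingleton_iff_Bd] at hU hV hUV ⊢
  intro z
  obtain ⟨a, ha⟩ := hU (rs _ le_sup_left z)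
  obtain ⟨b, hb⟩ := hV (rs _ le_sup_right z)
  obtain ⟨c, hc⟩ := exists_iA_eq R n (U ⊓ V) (rs _ inf_le_left a - rs _ inf_le_right b) (by
    simp only [map_sub, pA_rs, ha, hb, rs_rs, sub_self])
  obtain ⟨β, hβ, hβc⟩ := Bd.extend R n (inf_le_right : U ⊓ V ≤ V) (hUV c)
  obtain ⟨w, hwU, hwV⟩ := glue_two (R.I n) a (b + iA R n V β) (by
    rw [map_add, ← iA_rs, hβc, hc, add_sub_cancel])
  refine ⟨w, eq_of_two _ le_sup_left le_sup_right le_rfl _ _ ?_ ?_⟩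
  · rw [← pA_rs, hwU, ha]
  · rw [← pA_rs, hwV, map_add, hb, pA_iA, add_zero]

section localisation

variable (r : Γ(X, ⊤))

/-- Classes dying on `X_r` are killed by a power of `r`. -/
def InjAt (n : ℕ) (W : X.Opens) : Prop :=
  ∀ z : Γ(R.Z n, W), Bd R n (rs _ (inf_le_left : W ⊓ X.basicOpen r ≤ W) z) →
    ∃ N : ℕ, Bd R n (gres r W ^ N • z)

/-- Classes on `X_r` have denominators. -/
def SurjAt (n : ℕ) (W : X.Opens) : Prop :=
  ∀ z : Γ(R.Z n, W ⊓ X.basicOpen r), ∃ (N : ℕ) (z₀ : Γ(R.Z n, W)),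
    Bd R n (rs _ (inf_le_left : W ⊓ X.basicOpen r ≤ W) z₀ - gres r (W ⊓ X.basicOpen r) ^ N • z)

omit R in
theorem basicOpen_gres (W : X.Opens) : X.basicOpen (gres r W) = W ⊓ X.basicOpen r :=
  Scheme.basicOpen_res _ _ _

theorem injAt_zero [(R.Z 0).IsQuasicoherent] {W : X.Opens} (hW : IsCompact (W : Set X)) :
    InjAt R r 0 W := by
  intro z hz
  have h : X.basicOpen (gres r W) ≤ W ⊓ X.basicOpen r := (basicOpen_gres r W).le
  obtain ⟨N, hN⟩ := exists_pow_smul_eq_zero_of_isCompact (R.Z 0) hW (gres r W) z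
    ((rs_rs (R.Z 0) inf_le_left h z).symm.trans ((congrArg (rs (R.Z 0) h) hz).trans (map_zero _)))
  exact ⟨N, hN⟩

theorem surjAt_zero [QuasiSeparatedSpace X] [(R.Z 0).IsQuasicoherent] {W : X.Opens}
    (hW : IsCompact (W : Set X)) : SurjAt R r 0 W := by
  intro z
  have h := basicOpen_gres r W
  obtain ⟨N, s, hs⟩ := exists_pow_smul_eq_res_of_isCompact (R.Z 0) hW (gres r W) (rs (R.Z 0) h.le z)
  refine ⟨N, s, ?_⟩
  have h2 := congrArg (rs (R.Z 0) h.ge) hs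
  rw [map_pow, gres_res] at h2
  have h3 : rs (R.Z 0) (inf_le_left : W ⊓ X.basicOpen r ≤ W) s = gres r (W ⊓ X.basicOpen r) ^ N • z :=
    ((rs_rs (R.Z 0) _ h.ge s).symm.trans h2).trans
      ((rs_smul (R.Z 0) h.ge r N _).trans (congrArg _ ((rs_rs (R.Z 0) h.le h.ge z).trans (rs_self (R.Z 0) _ z))))
  exact sub_eq_zero.2 h3

theorem injAt_affine [(R.Z 0).IsQuasicoherent] (n : ℕ) {W : X.Opens} (hW : IsAffineOpen W) :
    InjAt R r (n + 1) W := by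
  intro z _
  exact ⟨0, (subsingleton_iff_Bd R (n + 1) W).1 (subsingleton_HnM_of_isAffineOpen (R.Z 0) hW n) _⟩

theorem surjAt_affine [(R.Z 0).IsQuasicoherent] (n : ℕ) {W : X.Opens} (hW : IsAffineOpen W) :
    SurjAt R r (n + 1) W := by
  intro z
  refine ⟨0, 0, ?_⟩
  have h : IsAffineOpen (W ⊓ X.basicOpen r) := by
    rw [← basicOpen_gres]; exact hW.basicOpen _
  exact (subsingleton_iff_Bd R (n + 1) _).1 (subsingleton_HnM_of_isAffineOpen (R.Z 0) h n) _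

theorem injAt_sup (n : ℕ) {U V : X.Opens} (hU : InjAt R r (n + 1) U) (hV : InjAt R r (n + 1) V)
    (hsU : SurjAt R r n U) (hsV : SurjAt R r n V) (hUV : InjAt R r n (U ⊓ V)) :
    InjAt R r (n + 1) (U ⊔ V) := by
  intro z hz
  obtain ⟨w, hw⟩ := hz
  have leU : U ⊓ X.basicOpen r ≤ (U ⊔ V) ⊓ X.basicOpen r := inf_le_inf_right _ le_sup_left
  have leV : V ⊓ X.basicOpen r ≤ (U ⊔ V) ⊓ X.basicOpen r := inf_le_inf_right _ le_sup_right
  obtain ⟨a₀, x₀, hx₀⟩ := hU (rs _ le_sup_left z) ⟨rs _ leU w, by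
    simp only [pA_rs, hw, rs_rs]⟩
  obtain ⟨b₀, y₀, hy₀⟩ := hV (rs _ le_sup_right z) ⟨rs _ leV w, by
    simp only [pA_rs, hw, rs_rs]⟩
  obtain ⟨a, x, y, hx, hy⟩ : ∃ (a : ℕ) (x : Γ(R.I n, U)) (y : Γ(R.I n, V)),
      pA R n U x = gres r U ^ a • rs _ le_sup_left z ∧
      pA R n V y = gres r V ^ a • rs _ le_sup_right z :=
    ⟨a₀ + b₀, gres r U ^ b₀ • x₀, gres r V ^ a₀ • y₀,
      by rw [pA_smul, hx₀, smul_smul, ← pow_add, add_comm b₀],
      by rw [pA_smul, hy₀, smul_smul, ← pow_add]⟩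
  obtain ⟨c, hc⟩ := exists_iA_eq R n (U ⊓ V) (rs _ inf_le_left x - rs _ inf_le_right y) (by
    simp only [map_sub, pA_rs, hx, hy, rs_smul, rs_rs, sub_self])
  obtain ⟨c₁, hc₁⟩ := exists_iA_eq R n (U ⊓ X.basicOpen r)
    (rs _ inf_le_left x - gres r (U ⊓ X.basicOpen r) ^ a • rs _ leU w) (by
    simp only [map_sub, pA_rs, pA_smul, hx, hw, rs_smul, rs_rs, sub_self])
  obtain ⟨c₂, hc₂⟩ := exists_iA_eq R n (V ⊓ X.basicOpen r)
    (rs _ inf_le_left y - gres r (V ⊓ X.basicOpen r) ^ a • rs _ leV w) (by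
    simp only [map_sub, pA_rs, pA_smul, hy, hw, rs_smul, rs_rs, sub_self])
  obtain ⟨k₁, c₁', hc₁'⟩ := hsU c₁
  obtain ⟨k₂, c₂', hc₂'⟩ := hsV c₂
  have iU : U ⊓ V ⊓ X.basicOpen r ≤ U ⊓ X.basicOpen r := inf_le_inf_right _ inf_le_left
  have iV : U ⊓ V ⊓ X.basicOpen r ≤ V ⊓ X.basicOpen r := inf_le_inf_right _ inf_le_right
  have hcc : rs _ (inf_le_left : U ⊓ V ⊓ X.basicOpen r ≤ U ⊓ V) c = rs _ iU c₁ - rs _ iV c₂ := by
    apply iA_injective R n _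
    simp only [map_sub, iA_rs, hc, hc₁, hc₂, rs_smul, rs_rs]
    abel
  obtain ⟨l, hl⟩ := hUV (gres r (U ⊓ V) ^ (k₁ + k₂) • c -
      (rs _ inf_le_left (gres r U ^ k₂ • c₁') - rs _ inf_le_right (gres r V ^ k₁ • c₂'))) (by
    have h₁ := Bd.smul R n (gres r (U ⊓ V ⊓ X.basicOpen r) ^ k₂) (Bd.res R n iU hc₁')
    have h₂ := Bd.smul R n (gres r (U ⊓ V ⊓ X.basicOpen r) ^ k₁) (Bd.res R n iV hc₂')
    have h := Bd.add R n (Bd.neg R n h₁) h₂
    convert h using 1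
    simp only [map_sub, rs_smul, rs_rs, hcc, smul_sub, smul_smul, ← pow_add, add_comm k₂ k₁]
    abel)
  obtain ⟨β, hβ, hβc⟩ := Bd.extend R n (inf_le_right : U ⊓ V ≤ V) hl
  obtain ⟨t, htU, htV⟩ := glue_two (R.I n)
    (gres r U ^ (l + (k₁ + k₂)) • x - iA R n U (gres r U ^ l • gres r U ^ k₂ • c₁'))
    (gres r V ^ (l + (k₁ + k₂)) • y - iA R n V (gres r V ^ l • gres r V ^ k₁ • c₂') + iA R n V β) (by
    have hi := congrArg (iA R n (U ⊓ V)) hβc
    simp only [map_sub, iA_smul, iA_rs, hc, rs_smul, rs_rs] at hi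
    simp only [map_sub, map_add, iA_smul, rs_smul, rs_rs, smul_smul, ← pow_add, hi, smul_sub]
    abel)
  refine ⟨l + (k₁ + k₂) + a, t, eq_of_two _ le_sup_left le_sup_right le_rfl _ _ ?_ ?_⟩
  · rw [← pA_rs, htU, map_sub, pA_smul, hx, pA_iA, sub_zero, rs_smul, smul_smul, ← pow_add]
  · rw [← pA_rs, htV, map_add, map_sub, pA_smul, hy, pA_iA, pA_iA, sub_zero, add_zero, rs_smul,
      smul_smul, ← pow_add]

theorem surjAt_sup (n : ℕ) {U V : X.Opens} (hU : SurjAt R r (n + 1) U) (hV : SurjAt R r (n + 1) V)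
    (hiUV : InjAt R r (n + 1) (U ⊓ V)) (hsUV : SurjAt R r n (U ⊓ V)) :
    SurjAt R r (n + 1) (U ⊔ V) := by
  intro z
  have leU : U ⊓ X.basicOpen r ≤ (U ⊔ V) ⊓ X.basicOpen r := inf_le_inf_right _ le_sup_left
  have leV : V ⊓ X.basicOpen r ≤ (U ⊔ V) ⊓ X.basicOpen r := inf_le_inf_right _ le_sup_right
  have iU : U ⊓ V ⊓ X.basicOpen r ≤ U ⊓ X.basicOpen r := inf_le_inf_right _ inf_le_left
  have iV : U ⊓ V ⊓ X.basicOpen r ≤ V ⊓ X.basicOpen r := inf_le_inf_right _ inf_le_right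
  obtain ⟨a₀, zU₀, wU₀, hwU⟩ := hU (rs _ leU z)
  obtain ⟨b₀, zV₀, wV₀, hwV⟩ := hV (rs _ leV z)
  obtain ⟨a, zU, zV, wU, wV, hU₁, hV₁⟩ : ∃ (a : ℕ) (zU : Γ(R.Z (n + 1), U))
      (zV : Γ(R.Z (n + 1), V)) (wU : Γ(R.I n, U ⊓ X.basicOpen r))
      (wV : Γ(R.I n, V ⊓ X.basicOpen r)),
      pA R n _ wU = rs _ inf_le_left zU - gres r (U ⊓ X.basicOpen r) ^ a • rs _ leU z ∧
      pA R n _ wV = rs _ inf_le_left zV - gres r (V ⊓ X.basicOpen r) ^ a • rs _ leV z :=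
    ⟨a₀ + b₀, gres r U ^ b₀ • zU₀, gres r V ^ a₀ • zV₀, gres r (U ⊓ X.basicOpen r) ^ b₀ • wU₀, gres r (V ⊓ X.basicOpen r) ^ a₀ • wV₀,
      by rw [pA_smul, hwU, rs_smul, smul_sub, smul_smul, ← pow_add, add_comm b₀],
      by rw [pA_smul, hwV, rs_smul, smul_sub, smul_smul, ← pow_add]⟩
  obtain ⟨b, d, hd⟩ := hiUV (rs _ inf_le_left zU - rs _ inf_le_right zV)
    ⟨rs _ iU wU - rs _ iV wV, by
      simp only [map_sub, pA_rs, hU₁, hV₁, rs_smul, rs_rs]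
      abel⟩
  obtain ⟨d', hd'⟩ := exists_rs_eq R n (inf_le_right : U ⊓ V ≤ V) d
  obtain ⟨A, zU₂, zV₂, wU₂, wV₂, hU₂, hV₂, hz₂⟩ : ∃ (A : ℕ) (zU₂ : Γ(R.Z (n + 1), U))
      (zV₂ : Γ(R.Z (n + 1), V)) (wU₂ : Γ(R.I n, U ⊓ X.basicOpen r))
      (wV₂ : Γ(R.I n, V ⊓ X.basicOpen r)),
      pA R n _ wU₂ = rs _ inf_le_left zU₂ - gres r (U ⊓ X.basicOpen r) ^ A • rs _ leU z ∧
      pA R n _ wV₂ = rs _ inf_le_left zV₂ - gres r (V ⊓ X.basicOpen r) ^ A • rs _ leV z ∧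
      rs _ (inf_le_left : U ⊓ V ≤ U) zU₂ = rs _ (inf_le_right : U ⊓ V ≤ V) zV₂ := by
    refine ⟨b + a, gres r U ^ b • zU, gres r V ^ b • zV + pA R n V d', gres r (U ⊓ X.basicOpen r) ^ b • wU,
      gres r (V ⊓ X.basicOpen r) ^ b • wV + rs _ inf_le_left d', ?_, ?_, ?_⟩
    · simp only [pA_smul, hU₁, rs_smul, smul_sub, smul_smul, ← pow_add]
    · simp only [map_add, pA_smul, pA_rs, hV₁, rs_smul, smul_sub, smul_smul, ← pow_add]
      abel
    · rw [map_add, ← pA_rs R n (inf_le_right : U ⊓ V ≤ V) d', hd', hd, rs_smul, rs_smul, smul_sub]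
      abel
  obtain ⟨e, he⟩ := exists_iA_eq R n (U ⊓ V ⊓ X.basicOpen r) (rs _ iU wU₂ - rs _ iV wV₂) (by
    have h2 := congrArg (rs _ (inf_le_left : U ⊓ V ⊓ X.basicOpen r ≤ U ⊓ V)) hz₂
    simp only [rs_rs] at h2
    simp only [map_sub, pA_rs, hU₂, hV₂, rs_smul, rs_rs, h2, sub_self])
  obtain ⟨k, e', hβ⟩ := hsUV e
  obtain ⟨β', -, hβ'⟩ := Bd.extend R n iV hβ
  obtain ⟨q, hq⟩ := exists_rs_eq R n (inf_le_right : U ⊓ V ≤ V) (iA R n _ e')
  obtain ⟨z₃, hzU, hzV⟩ := glue_two (R.Z (n + 1)) (gres r U ^ k • zU₂)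
    (gres r V ^ k • zV₂ + pA R n V q) (by
    rw [map_add, ← pA_rs R n (inf_le_right : U ⊓ V ≤ V) q, hq, pA_iA, rs_smul, rs_smul, hz₂, add_zero])
  obtain ⟨w₃, hw₃U, hw₃V⟩ := glue_two (R.I n) (gres r (U ⊓ X.basicOpen r) ^ k • wU₂)
    (gres r (V ⊓ X.basicOpen r) ^ k • wV₂ + rs _ inf_le_left q - iA R n _ β') (by
    have le₁ : U ⊓ X.basicOpen r ⊓ (V ⊓ X.basicOpen r) ≤ U ⊓ V ⊓ X.basicOpen r :=
      le_inf (inf_le_inf inf_le_left inf_le_left) (inf_le_left.trans inf_le_right)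
    have h1 := congrArg (rs _ le₁) (congrArg (iA R n _) hβ')
    have h2 := congrArg (rs _ (le₁.trans inf_le_left)) hq
    have h3 := congrArg (rs _ le₁) he
    simp only [map_sub, iA_smul, iA_rs, rs_smul, rs_rs] at h1 h2 h3
    simp only [map_sub, map_add, rs_smul, rs_rs, h1, h2, h3, smul_sub]
    abel)
  have hsup : (U ⊔ V) ⊓ X.basicOpen r ≤ U ⊓ X.basicOpen r ⊔ V ⊓ X.basicOpen r :=
    (inf_sup_right U V (X.basicOpen r)).le
  refine ⟨k + A, z₃, rs _ hsup w₃, eq_of_two _ leU leV hsup _ _ ?_ ?_⟩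
  · have h1 := congrArg (rs _ (inf_le_left : U ⊓ X.basicOpen r ≤ U)) hzU
    rw [rs_rs] at h1
    rw [← pA_rs, rs_rs, hw₃U, pA_smul, hU₂, map_sub, rs_rs, h1, rs_smul, rs_smul, smul_sub,
      smul_smul, ← pow_add]
  · have h1 := congrArg (rs _ (inf_le_left : V ⊓ X.basicOpen r ≤ V)) hzV
    rw [rs_rs] at h1
    rw [← pA_rs, rs_rs, hw₃V, map_sub, map_add, pA_smul, hV₂, pA_iA, pA_rs, map_sub, rs_rs, h1,
      map_add, rs_smul, rs_smul, smul_sub, smul_smul, ← pow_add]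
    abel

/-- Cohomology of a quasi-compact open commutes with localisation at a global function. -/
theorem injAt_surjAt [QuasiSeparatedSpace X] [(R.Z 0).IsQuasicoherent] (n : ℕ) :
    ∀ W : X.Opens, IsCompact (W : Set X) → InjAt R r n W ∧ SurjAt R r n W := by
  induction n with
  | zero => exact fun W hW => ⟨injAt_zero R r hW, surjAt_zero R r hW⟩
  | succ n ih =>
    intro W hW
    refine (qcqs_induction (fun W => IsCompact (W : Set X) →
      InjAt R r (n + 1) W ∧ SurjAt R r (n + 1) W) (fun U hU _ =>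
        ⟨injAt_affine R r n hU, surjAt_affine R r n hU⟩) (fun U V hU hV pU pV pUV _ => ?_) W hW) hW
    have hc : IsCompact ((U ⊓ V : X.Opens) : Set X) :=
      QuasiSeparatedSpace.inter_isCompact U.1 V.1 U.2 hU V.2 hV.isCompact
    exact ⟨injAt_sup R r n (pU hU).1 (pV hV.isCompact).1 (ih U hU).2 (ih V hV.isCompact).2 (ih _ hc).1,
      surjAt_sup R r n (pU hU).2 (pV hV.isCompact).2 (pUV hc).1 (ih _ hc).2⟩

end localisation

end Groth.Agent.H10Coh
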