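import Groth.Agent.H16Derived.AcyclicLES

/-!
# Dimension shifting for right derived functors
-/

universe v v' u u'

open CategoryTheory CategoryTheory.Limits

namespace Groth.Agent.H10Coh

variable {A : Type u} [Category.{v} A] [Abelian A] [EnoughInjectives A] {B : Type u'}
  [Category.{v'} B] [Abelian B] (F : A ⥤ B) [F.Additive] [PreservesFiniteLimits F]

theorem nonempty_rightDerived_shift {S : ShortComplex A} (hS : S.ShortExact)
    (h : H16Derived.AcyclicLES.IsAcyclic F S.X₂) (m : ℕ) :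
    Nonempty ((F.rightDerived (m + 2)).obj S.X₁ ≅ (F.rightDerived (m + 1)).obj S.X₃) := by
  obtain ⟨T, hT, e₁, e₂, e₃, -⟩ := H16Derived.AcyclicLES.exists_les F S hS
  have hz : ∀ k : ℕ, IsZero (T.X₂.homology ((k + 1 : ℕ) : ℤ)) := fun k =>
    (h (k + 1) (Nat.succ_pos k)).of_iso (e₂ (k + 1)).some.symm
  have hk : ((m + 1 : ℕ) : ℤ) + 1 = ((m + 2 : ℕ) : ℤ) := by lia
  have := hT.isIso_δ ((m + 1 : ℕ) : ℤ) ((m + 2 : ℕ) : ℤ) hk (hz m) (hz (m + 1))
  exact ⟨(e₁ (m + 2)).some ≪≫ (asIso (hT.δ ((m + 1 : ℕ) : ℤ) ((m + 2 : ℕ) : ℤ) hk)).symm ≪≫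
    (e₃ (m + 1)).some.symm⟩

theorem nonempty_rightDerived_one {S : ShortComplex A} (hS : S.ShortExact)
    (h : H16Derived.AcyclicLES.IsAcyclic F S.X₂) :
    Nonempty ((F.rightDerived 1).obj S.X₁ ≅ cokernel (F.map S.g)) := by
  obtain ⟨T, hT, e₁, e₂, e₃, a₂, a₃, ha₂, ha₃, hc⟩ := H16Derived.AcyclicLES.exists_les F S hS
  have hz : IsZero (T.X₂.homology ((1 : ℕ) : ℤ)) := (h 1 one_pos).of_iso (e₂ 1).some.symm
  have : Epi (hT.δ (0 : ℤ) ((1 : ℕ) : ℤ) (by simp)) :=
    (hT.homology_exact₁ (0 : ℤ) ((1 : ℕ) : ℤ) (by simp)).epi_f (hz.eq_of_tgt _ _)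
  have hex := hT.homology_exact₃ (0 : ℤ) ((1 : ℕ) : ℤ) (by simp)
  exact ⟨(e₁ 1).some ≪≫
    ((cokernelIsCokernel _).coconePointUniqueUpToIso hex.gIsCokernel).symm ≪≫
    (cokernel.mapIso (F.map S.g) (HomologicalComplex.homologyMap T.g 0) (asIso a₂) (asIso a₃)
      hc.symm).symm⟩

theorem isZero_rightDerived_of_isAcyclic {X : A} (h : H16Derived.AcyclicLES.IsAcyclic F X) (m : ℕ) :
    IsZero ((F.rightDerived (m + 1)).obj X) := h (m + 1) (Nat.succ_pos m)

/-- Derived functors from a resolution by acyclic objects, cut into short exact sequences. -/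
theorem nonempty_rightDerived_of_chain (n : ℕ) : ∀ (Z I : ℕ → A) (i : ∀ k, Z k ⟶ I k)
    (p : ∀ k, I k ⟶ Z (k + 1)) (w : ∀ k, i k ≫ p k = 0)
    (_ : ∀ k, (ShortComplex.mk (i k) (p k) (w k)).ShortExact)
    (_ : ∀ k, H16Derived.AcyclicLES.IsAcyclic F (I k)),
    Nonempty ((F.rightDerived (n + 1)).obj (Z 0) ≅ cokernel (F.map (p n))) := by
  induction n with
  | zero => exact fun Z I i p w se ac => nonempty_rightDerived_one F (se 0) (ac 0)
  | succ n ih =>
    intro Z I i p w se ac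
    exact ⟨(nonempty_rightDerived_shift F (se 0) (ac 0) n).some ≪≫
      (ih (fun k => Z (k + 1)) (fun k => I (k + 1)) (fun k => i (k + 1)) (fun k => p (k + 1))
        (fun k => w (k + 1)) (fun k => se (k + 1)) fun k => ac (k + 1)).some⟩

/-- An object is acyclic if it embeds with acyclic-type quotients: dimension shifting criterion. -/
theorem isAcyclic_of_class (P : A → Prop)
    (h : ∀ X, P X → ∃ (S : ShortComplex A), S.ShortExact ∧ S.X₁ = X ∧ Injective S.X₂ ∧ P S.X₃ ∧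
      Epi (F.map S.g)) (X : A) (hX : P X) : H16Derived.AcyclicLES.IsAcyclic F X := by
  intro i hi
  obtain ⟨m, rfl⟩ := Nat.exists_eq_succ_of_ne_zero hi.ne'
  induction m generalizing X with
  | zero =>
    obtain ⟨S, hS, rfl, hI, -, he⟩ := h X hX
    exact (isZero_cokernel_of_epi (F.map S.g)).of_iso
      (nonempty_rightDerived_one F hS (H16Derived.AcyclicLES.isAcyclic_of_injective F S.X₂)).some
  | succ m ih =>
    obtain ⟨S, hS, rfl, hI, hP, -⟩ := h X hX
    exact (ih S.X₃ hP (Nat.succ_pos m)).of_iso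
      (nonempty_rightDerived_shift F hS (H16Derived.AcyclicLES.isAcyclic_of_injective F S.X₂) m).some

end Groth.Agent.H10Coh
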