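import Groth.Agent.H10Coh.FRes
import Groth.Agent.H10Coh.DerivedShift

/-!
# Higher direct images of abelian sheaves through flasque resolutions
-/

universe u

open CategoryTheory CategoryTheory.Limits Opposite TopologicalSpace Abelian

namespace Groth.Agent.H10Coh

attribute [local instance 10000] hasSheafifyAb hasWeakSheafifyAb hasExtAb enoughInjAb

variable {X Y : TopCat.{u}} (f : X ⟶ Y)

instance push_preservesFiniteLimits : PreservesFiniteLimits (CohTop.push f) :=
  have : (CohTop.push f).IsRightAdjoint :=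
    (TopCat.Sheaf.pullbackPushforwardAdjunction AddCommGrpCat.{u} f).isRightAdjoint
  inferInstance

/-- Local surjectivity gives an epimorphism. -/
theorem epi_of_locally_surjective {F G : CohTop.Ab X} (φ : F ⟶ G)
    (h : ∀ (U : Opens X) (t : G.obj.obj (op U)) (x : X), x ∈ U →
      ∃ (V : Opens X) (hV : V ≤ U), x ∈ V ∧ ∃ s, φ.hom.app (op V) s = G.obj.map (homOfLE hV).op t) :
    Epi φ :=
  (TopCat.Sheaf.isLocallySurjective_iff_epi φ).1 ((TopCat.Presheaf.isLocallySurjective_iff φ.hom).2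
    fun U t x hx => by
      obtain ⟨V, hV, hxV, s, hs⟩ := h U t x hx
      exact ⟨V, hV, ⟨s, hs⟩, hxV⟩)

theorem locally_surjective_of_epi {F G : CohTop.Ab X} (φ : F ⟶ G) [Epi φ] (U : Opens X)
    (t : G.obj.obj (op U)) (x : X) (hx : x ∈ U) :
    ∃ (V : Opens X) (hV : V ≤ U), x ∈ V ∧ ∃ s, φ.hom.app (op V) s = G.obj.map (homOfLE hV).op t := by
  obtain ⟨V, hV, ⟨s, hs⟩, hxV⟩ := (TopCat.Presheaf.isLocallySurjective_iff φ.hom).1
    ((TopCat.Sheaf.isLocallySurjective_iff_epi φ).2 ‹Epi φ›) U t x hx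
  exact ⟨V, hV, hxV, s, hs⟩

theorem flasque_push {F : CohTop.Ab X} (hF : Flasque F) : Flasque ((CohTop.push f).obj F) :=
  fun _ _ h => hF ((Opens.map f).monotone h)

theorem isAcyclic_of_flasque {F : CohTop.Ab X} (hF : Flasque F) :
    H16Derived.AcyclicLES.IsAcyclic (CohTop.push f) F := by
  refine isAcyclic_of_class (CohTop.push f) Flasque (fun G hG => ?_) F hF
  refine ⟨injSeq G, injSeq_shortExact G, rfl, injSeq_injective G,
    flasque_X₃ (injSeq_shortExact G) hG (@flasque_of_injective _ _ (injSeq_injective G)), ?_⟩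
  refine epi_of_locally_surjective _ fun U t x hx => ⟨U, le_rfl, hx, ?_⟩
  obtain ⟨s, hs⟩ := surjective_sections (injSeq_shortExact G) hG ((Opens.map f).obj U) t
  refine ⟨s, hs.trans ?_⟩
  rw [Subsingleton.elim (homOfLE (le_refl U)).op (𝟙 _), CategoryTheory.Functor.map_id]
  rfl

theorem nonempty_rpush_iso_cokernel (R : FRes X) (n : ℕ) :
    Nonempty ((CohTop.Rpush f (n + 1)).obj (R.Z 0) ≅ cokernel ((CohTop.push f).map (R.p n))) :=
  nonempty_rightDerived_of_chain (CohTop.push f) n R.Z R.I R.i R.p R.w R.se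
    fun k => isAcyclic_of_flasque f (R.fl k)

theorem nonempty_rpush_zero (F : CohTop.Ab X) :
    Nonempty ((CohTop.Rpush f 0).obj F ≅ (CohTop.push f).obj F) :=
  ⟨(CohTop.push f).rightDerivedZeroIsoSelf.app F⟩

/-- `R^{n+1} f_* F = 0` if `H^{n+1}` vanishes on preimages of a basis. -/
theorem isZero_rpush_of_vanishing (F : CohTop.Ab X) (n : ℕ) (B : Set (Opens Y)) (hB : Opens.IsBasis B)
    (h : ∀ W ∈ B, Subsingleton (Hn F (n + 1) ((Opens.map f).obj W))) :
    IsZero ((CohTop.Rpush f (n + 1)).obj F) := by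
  let R := FRes.inj F
  refine IsZero.of_iso ?_ (nonempty_rpush_iso_cokernel f R n).some
  have : Epi ((CohTop.push f).map (R.p n)) := by
    refine epi_of_locally_surjective _ fun U t x hx => ?_
    obtain ⟨W, hW, hxW, hWU⟩ := Opens.isBasis_iff_nbhd.1 hB hx
    exact ⟨W, hWU, hxW, (R.subsingleton_iff n _).1 (h W hW) _⟩
  exact isZero_cokernel_of_epi _

end Groth.Agent.H10Coh
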