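import Groth.Agent.H10Coh.QCohOps
import Groth.Agent.H10Coh.Affine
import Mathlib.Algebra.Homology.ShortComplex.ExactFunctor

/-!
Extensions and colimits of quasi-coherent modules.
-/

universe u

open CategoryTheory CategoryTheory.Limits AlgebraicGeometry Opposite TopologicalSpace Abelian

namespace Groth.Agent.H10Coh

attribute [local instance 10000] hasSheafifyAb hasWeakSheafifyAb hasExtAb enoughInjAb

section Spec

variable {R : CommRingCat.{u}}

/-- Global sections, typed on `(Spec R).Modules`. -/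
noncomputable abbrev ΓSpec (R : CommRingCat.{u}) : (Spec R).Modules ⥤ ModuleCat.{u} R :=
  moduleSpecΓFunctor (R := R)

instance ΓSpec_isRightAdjoint : (ΓSpec R).IsRightAdjoint :=
  (tilde.adjunction (R := R)).isRightAdjoint

instance ΓSpec_additive : (ΓSpec R).Additive :=
  have := Limits.preservesBinaryBiproducts_of_preservesBinaryProducts (ΓSpec R)
  Functor.additive_of_preservesBinaryBiproducts _

instance ΓSpec_preservesFiniteLimits : PreservesFiniteLimits (ΓSpec R) :=
  PreservesLimitsOfSize.preservesFiniteLimits.{u, u} _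

theorem shortExact_Γ_Spec {S : ShortComplex (Spec R).Modules} (hS : S.ShortExact)
    (h : Subsingleton (HnM S.X₁ 1 ⊤)) : (S.map (ΓSpec R)).ShortExact := by
  have h' : ∀ (T : ShortComplex (Spec R).Modules), T.ShortExact →
      (T.map (ΓSpec R)).Exact ∧ Mono ((ΓSpec R).map T.f) :=
    ((Functor.preservesFiniteLimits_tfae (ΓSpec R)).out 0 3 rfl rfl).2 inferInstance
  exact
    { exact := (h' S hS).1
      mono_f := (h' S hS).2
      epi_g := (ModuleCat.epi_iff_surjective _).2
        (surjective_sections_of_subsingleton (shortExact_sh hS) (⊤ : (Spec R).Opens) h) }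

theorem isQuasicoherent_X₂_Spec {S : ShortComplex (Spec R).Modules} (hS : S.ShortExact)
    [S.X₁.IsQuasicoherent] [S.X₃.IsQuasicoherent] : S.X₂.IsQuasicoherent := by
  have hΓ := shortExact_Γ_Spec hS (subsingleton_HnM_Spec 0 R S.X₁ ‹_›)
  have hT := hΓ.map_of_exact (tilde.functor R)
  let φ : (S.map (ΓSpec R)).map (tilde.functor R) ⟶ S :=
    { τ₁ := Scheme.Modules.fromTildeΓ S.X₁
      τ₂ := Scheme.Modules.fromTildeΓ S.X₂
      τ₃ := Scheme.Modules.fromTildeΓ S.X₃
      comm₁₂ := (Scheme.Modules.fromTildeΓNatTrans.naturality S.f).symm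
      comm₂₃ := (Scheme.Modules.fromTildeΓNatTrans.naturality S.g).symm }
  have h1 : IsIso φ.τ₁ := (tildeIso S.X₁).isIso_hom
  have h3 : IsIso φ.τ₃ := (tildeIso S.X₃).isIso_hom
  have h2 : IsIso φ.τ₂ := ShortComplex.isIso₂_of_shortExact_of_isIso₁₃ φ hT hS
  exact isQuasicoherent_of_iso_tilde
    (@asIso _ _ _ _ φ.τ₂ h2 : (tilde.functor R).obj _ ≅ S.X₂)

theorem isQuasicoherent_colimit_Spec {J : Type u} [SmallCategory J] (F : J ⥤ (Spec R).Modules)
    (hF : ∀ j, (F.obj j).IsQuasicoherent) [HasColimit F] : (colimit F).IsQuasicoherent := by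
  let e : (F ⋙ ΓSpec R) ⋙ tilde.functor R ≅ F :=
    NatIso.ofComponents (fun j => @tildeIso R (F.obj j) (hF j))
      fun {i j} φ => Scheme.Modules.fromTildeΓNatTrans.naturality (F.map φ)
  exact isQuasicoherent_of_iso_tilde (N := colimit (F ⋙ ΓSpec R))
    (preservesColimitIso (tilde.functor R) _ ≪≫ HasColimit.isoOfNatIso e)

end Spec

variable {X : Scheme.{u}}

theorem isQuasicoherent_X₂ {S : ShortComplex X.Modules} (hS : S.ShortExact)
    [S.X₁.IsQuasicoherent] [S.X₃.IsQuasicoherent] : S.X₂.IsQuasicoherent := by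
  refine isQuasicoherent_of_forall_affine _ fun U hU => ?_
  have hS' := hS.map_of_exact (Scheme.Modules.restrictFunctor hU.fromSpec)
  exact @isQuasicoherent_X₂_Spec _ _ hS'
    (Scheme.Modules.isQuasicoherent_restrictFunctor hU.fromSpec S.X₁)
    (Scheme.Modules.isQuasicoherent_restrictFunctor hU.fromSpec S.X₃)

theorem isQuasicoherent_colimit {J : Type u} [SmallCategory J] (F : J ⥤ X.Modules)
    (hF : ∀ j, (F.obj j).IsQuasicoherent) [HasColimit F] : (colimit F).IsQuasicoherent := by
  refine isQuasicoherent_of_forall_affine _ fun U hU => ?_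
  let G := Scheme.Modules.restrictFunctor hU.fromSpec
  have hG : HasColimit (F ⋙ G) := ⟨⟨⟨_, isColimitOfPreserves G (colimit.isColimit F)⟩⟩⟩
  have h := isQuasicoherent_colimit_Spec (F ⋙ G)
    fun j => @Scheme.Modules.isQuasicoherent_restrictFunctor _ _ hU.fromSpec _ (F.obj j) (hF j)
  exact @isQuasicoherent_of_iso _ _ _ (preservesColimitIso G F).symm h

end Groth.Agent.H10Coh
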