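import Groth.Agent.H10Coh.Affine
import Groth.Agent.H10Coh.QCohExt
import Groth.Agent.H10Coh.QcqsPush
import Groth.Agent.H10Coh.FinType2
import Groth.Agent.H10Coh.PushAb
import Groth.Agent.H10Coh.CohLocal
import Groth.Prelude.Def_ClSub2
import Groth.Prelude.Def_Formal

/-!
# Serre's criterion for affineness

Main result: `isAffine_of_gamma_exact`: a quasi-compact scheme on which global sections are exact
on short exact sequences of quasi-coherent modules with first term a submodule of `O_X` is affine.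
-/

universe u

open CategoryTheory CategoryTheory.Limits AlgebraicGeometry Opposite TopologicalSpace

namespace Groth.Agent.H10Coh

attribute [local instance 10000] hasSheafifyAb hasWeakSheafifyAb hasExtAb enoughInjAb

variable {X : Scheme.{u}}

/-- Global sections are surjective on short exact sequences of quasi-coherent modules with first
term a submodule of the structure module. -/
def GammaExact (X : Scheme.{u}) : Prop :=
  ∀ (S : ShortComplex X.Modules) (j : S.X₁ ⟶ Coh.structureModule X), S.ShortExact → Mono j →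
    S.X₁.IsQuasicoherent → S.X₂.IsQuasicoherent → S.X₃.IsQuasicoherent →
      Function.Surjective (S.g.app ⊤)

theorem surjective_app_of_subsingleton_HnM {S : ShortComplex X.Modules} (hS : S.ShortExact)
    (U : X.Opens) (h : Subsingleton (HnM S.X₁ 1 U)) : Function.Surjective (S.g.app U) :=
  surjective_sections_of_subsingleton (shortExact_sh hS) U h

theorem gammaExact_of_HH_one
    (h : ∀ (I : X.Modules) (i : I ⟶ Coh.structureModule X), Mono i →
      Coh.IsQCoh I → Subsingleton (Coh.HH X I 1)) : GammaExact X := fun S j hS hj h1 _ _ =>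
  surjective_app_of_subsingleton_HnM hS ⊤
    (@Equiv.subsingleton _ _ (HHEquiv S.X₁ 1).toEquiv.symm (h S.X₁ j hj h1))

theorem isQuasicoherent_biprod (M N : X.Modules) [M.IsQuasicoherent] [N.IsQuasicoherent] :
    (M ⊞ N).IsQuasicoherent :=
  @isQuasicoherent_X₂ X (ShortComplex.mk (biprod.inl : M ⟶ M ⊞ N) biprod.snd biprod.inl_snd)
    (ShortComplex.Splitting.ofHasBinaryBiproduct M N).shortExact ‹_› ‹_›

theorem clopen_of_glue {Z : Scheme.{u}} {W₁ W₂ : Z.Opens} (h' : W₁ ⊔ W₂ = ⊤) (w : Γ(Z, W₁ ⊔ W₂))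
    (e1 : Z.presheaf.map (homOfLE (le_sup_left : W₁ ≤ W₁ ⊔ W₂)).op w = 1)
    (e2 : Z.presheaf.map (homOfLE (le_sup_right : W₂ ≤ W₁ ⊔ W₂)).op w = 0) :
    ∃ e : Γ(Z, ⊤), W₁ ≤ Z.basicOpen e ∧ Z.basicOpen e ⊓ W₂ = ⊥ := by
  refine ⟨Z.presheaf.map (homOfLE h'.ge).op w, ?_, ?_⟩
  · rw [Scheme.basicOpen_res, top_inf_eq]
    have h1 := Z.basicOpen_res w (homOfLE (le_sup_left : W₁ ≤ W₁ ⊔ W₂)).op
    rw [e1, Scheme.basicOpen_of_isUnit _ isUnit_one] at h1
    exact h1.le.trans inf_le_right
  · rw [Scheme.basicOpen_res, top_inf_eq, eq_bot_iff]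
    have h2 := Z.basicOpen_res w (homOfLE (le_sup_right : W₂ ≤ W₁ ⊔ W₂)).op
    rw [e2, Scheme.basicOpen_zero] at h2
    exact (inf_comm _ _).le.trans h2.ge

theorem exists_clopen_function {Z : Scheme.{u}} {W₁ W₂ : Z.Opens} (h : W₁ ⊓ W₂ = ⊥)
    (h' : W₁ ⊔ W₂ = ⊤) :
    ∃ e : Γ(Z, ⊤), W₁ ≤ Z.basicOpen e ∧ Z.basicOpen e ⊓ W₂ = ⊥ := by
  have hsub : Subsingleton Γ(Coh.structureModule Z, W₁ ⊓ W₂) := by
    rw [h]
    exact inferInstanceAs (Subsingleton Γ(Z, ⊥))
  obtain ⟨w, hw₁, hw₂⟩ := glue_two (Coh.structureModule Z) (U := W₁) (V := W₂)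
    (show Γ(Z, W₁) from 1) (show Γ(Z, W₂) from 0) (Subsingleton.elim _ _)
  exact clopen_of_glue h' w hw₁ hw₂

/-- A short exact sequence from a surjection. -/
theorem shortExact_kernel {M N : X.Modules} (φ : M ⟶ N) [Epi φ] :
    (ShortComplex.mk (kernel.ι φ) φ (kernel.condition φ)).ShortExact where
  exact := ShortComplex.exact_kernel φ
  mono_f := inferInstanceAs (Mono (kernel.ι φ))
  epi_g := ‹Epi φ›

theorem epi_toSubscheme (I : X.IdealSheafData) : Epi (ClSub.toSubscheme I) := by
  refine (shF X).epi_of_epi_map (epi_of_locally_surjective _ fun U t x hx => ?_)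
  obtain ⟨V, hV, hxV, hVU⟩ := Opens.isBasis_iff_nbhd.1 X.isBasis_affineOpens hx
  obtain ⟨s, hs⟩ := I.subschemeι_app_surjective ⟨V, hV⟩
    ((I.subscheme.presheaf.map ((Opens.map I.subschemeι.base).map (homOfLE hVU)).op) t)
  exact ⟨V, hVU, hxV, s, hs⟩

/-- Step 1: an affine basic open through a closed point inside a given affine open. -/
theorem exists_basicOpen_affine (H : GammaExact X) {U : X.Opens} (hU : IsAffineOpen U) {x : X}
    (hxU : x ∈ U) (hx : IsClosed ({x} : Set X)) :
    ∃ f : Γ(X, ⊤), x ∈ X.basicOpen f ∧ IsAffineOpen (X.basicOpen f) := by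
  let Z : Closeds X := ⟨(U : Set X)ᶜ ∪ {x}, U.isOpen.isClosed_compl.union hx⟩
  let I := Scheme.IdealSheafData.vanishingIdeal Z
  let i := I.subschemeι
  have hr : Set.range i = (U : Set X)ᶜ ∪ {x} := by
    rw [Scheme.IdealSheafData.range_subschemeι, Scheme.IdealSheafData.coe_support_vanishingIdeal]
    rfl
  let Ux : X.Opens := ⟨{x}ᶜ, hx.isOpen_compl⟩
  have hmem : ∀ z : I.subscheme, i z ∉ U ∨ i z = x := fun z => by
    have := hr ▸ Set.mem_range_self z
    exact this
  have h : i ⁻¹ᵁ U ⊓ i ⁻¹ᵁ Ux = ⊥ := by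
    rw [eq_bot_iff]
    rintro z ⟨h1, h2⟩
    exact ((hmem z).resolve_left (not_not.2 h1) |> h2).elim
  have h' : i ⁻¹ᵁ U ⊔ i ⁻¹ᵁ Ux = ⊤ := by
    rw [eq_top_iff]
    rintro z -
    by_cases hz : i z = x
    · exact Or.inl (show i z ∈ U by rw [hz]; exact hxU)
    · exact Or.inr hz
  obtain ⟨e, he₁, he₂⟩ := exists_clopen_function h h'
  have hq : (ClSub.quotMod I).IsQuasicoherent :=
    @isQuasicoherent_pushforward _ _ i inferInstance inferInstance _ isQuasicoherent_unit
  have hu : (Coh.structureModule X).IsQuasicoherent := isQuasicoherent_unit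
  have := epi_toSubscheme I
  obtain ⟨f, hf⟩ := H (ShortComplex.mk (kernel.ι (ClSub.toSubscheme I)) _ (kernel.condition _))
    (kernel.ι (ClSub.toSubscheme I)) (shortExact_kernel _) inferInstance
    (isQuasicoherent_kernel _) hu hq (show Γ(I.subscheme, ⊤) from e)
  have hpre : i ⁻¹ᵁ X.basicOpen (show Γ(X, ⊤) from f) = I.subscheme.basicOpen e := by
    rw [Scheme.preimage_basicOpen]
    exact congrArg _ hf
  have hle : X.basicOpen (show Γ(X, ⊤) from f) ≤ U := by
    intro y hy
    by_contra hyU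
    obtain ⟨z, rfl⟩ : y ∈ Set.range i := hr ▸ Or.inl hyU
    have hz : z ∈ I.subscheme.basicOpen e ⊓ i ⁻¹ᵁ Ux :=
      ⟨hpre ▸ hy, fun hzx => hyU (hzx.symm ▸ hxU)⟩
    rw [he₂] at hz
    exact hz
  refine ⟨f, ?_, ?_⟩
  · obtain ⟨z, hz⟩ : x ∈ Set.range i := hr ▸ Or.inr rfl
    have h2 : z ∈ i ⁻¹ᵁ X.basicOpen (show Γ(X, ⊤) from f) :=
      hpre ▸ he₁ (show i z ∈ U from hz ▸ hxU)
    exact hz ▸ h2
  · have := hU.basicOpen (gres (show Γ(X, ⊤) from f) U)
    rwa [show X.basicOpen (gres (show Γ(X, ⊤) from f) U) = X.basicOpen (show Γ(X, ⊤) from f) from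
      (Scheme.basicOpen_res _ _ _).trans (inf_eq_right.2 hle)] at this

/-- Multiplication by a global function on the structure module. -/
noncomputable def mulΓ (f : Γ(X, ⊤)) : Coh.structureModule X ⟶ Coh.structureModule X :=
  Formal.smulModΓ _ f

theorem mulΓ_app (f : Γ(X, ⊤)) (U : X.Opens) (a : Γ(X, U)) :
    (mulΓ f).app U (show Γ(Coh.structureModule X, U) from a) =
      (show Γ(Coh.structureModule X, U) from gres f U * a) :=
  rfl

/-- Step 2: the ideal generated by a list of global functions, with sections in their span. -/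
theorem exists_ideal_of_list (H : GammaExact X) (l : List Γ(X, ⊤)) :
    ∃ (J : X.Modules) (j : J ⟶ Coh.structureModule X), Mono j ∧ J.IsQuasicoherent ∧
      (∀ a : Γ(J, ⊤), (show Γ(X, ⊤) from j.app ⊤ a) ∈ Ideal.span {g | g ∈ l}) ∧
      ∀ f ∈ l, ∃ φ, φ ≫ j = mulΓ f := by
  have hu : (Coh.structureModule X).IsQuasicoherent := isQuasicoherent_unit
  induction l with
  | nil =>
    refine ⟨kernel (𝟙 (Coh.structureModule X)), kernel.ι _, inferInstance,
      isQuasicoherent_kernel _, fun a => ?_, fun f hf => (List.not_mem_nil hf).elim⟩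
    have h0 : kernel.ι (𝟙 (Coh.structureModule X)) = 0 := by
      rw [← Category.comp_id (kernel.ι _), kernel.condition]
    rw [h0]
    exact Ideal.zero_mem _
  | cons f l ih =>
    obtain ⟨J, j, hj, hJ, hspan, hfac⟩ := ih
    let φ := biprod.desc j (mulΓ f)
    have hb : (J ⊞ Coh.structureModule X).IsQuasicoherent := isQuasicoherent_biprod _ _
    have hc : (cokernel φ).IsQuasicoherent := isQuasicoherent_cokernel φ
    have hi : (Abelian.image φ).IsQuasicoherent := isQuasicoherent_kernel (cokernel.π φ)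
    refine ⟨Abelian.image φ, Abelian.image.ι φ, inferInstance, hi, fun a => ?_, fun g hg => ?_⟩
    · let e := Abelian.factorThruImage φ
      have hm : Mono (kernel.ι e ≫ biprod.snd) := by
        refine Preadditive.mono_of_cancel_zero _ fun g hg => ?_
        have h0 : g ≫ kernel.ι e ≫ φ = 0 := by
          have h : kernel.ι e ≫ e ≫ Abelian.image.ι φ = 0 := by
            rw [← Category.assoc, kernel.condition, zero_comp]
          rw [show e ≫ Abelian.image.ι φ = φ from Abelian.image.fac φ] at h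
          rw [h, comp_zero]
        replace h0 : g ≫ kernel.ι e ≫ (biprod.fst ≫ j + biprod.snd ≫ mulΓ f) = 0 :=
          (congrArg (fun k => g ≫ kernel.ι e ≫ k) (biprod.desc_eq (f := j) (g := mulΓ f)).symm).trans h0
        rw [Preadditive.comp_add, Preadditive.comp_add] at h0
        rw [← Category.assoc] at hg
        have h1 : ((g ≫ kernel.ι e) ≫ biprod.fst) ≫ j = 0 := by
          have h2 : g ≫ kernel.ι e ≫ biprod.snd ≫ mulΓ f = 0 := by
            rw [← Category.assoc, ← Category.assoc, hg, zero_comp]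
          rw [h2, add_zero] at h0
          simpa using h0
        have h3 := zero_of_comp_mono j h1
        exact zero_of_comp_mono (kernel.ι e) (biprod.hom_ext _ _ (by simpa using h3) (by simpa using hg))
      obtain ⟨b, hb'⟩ := H (ShortComplex.mk (kernel.ι e) e (kernel.condition e))
        (kernel.ι e ≫ biprod.snd) (shortExact_kernel e) hm (isQuasicoherent_kernel e) hb hi a
      have hval : (Abelian.image.ι φ).app ⊤ a =
          j.app ⊤ ((biprod.fst : J ⊞ Coh.structureModule X ⟶ J).app ⊤ b) +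
            (mulΓ f).app ⊤ ((biprod.snd : J ⊞ Coh.structureModule X ⟶ _).app ⊤ b) := by
        rw [← hb']
        exact ((congrArg (fun k => Scheme.Modules.Hom.app k ⊤ b) (Abelian.image.fac φ)).trans
          (congrArg (fun k => Scheme.Modules.Hom.app k ⊤ b) (biprod.desc_eq (f := j) (g := mulΓ f))) :)
      rw [hval]
      refine Ideal.add_mem _ (Ideal.span_mono (fun g hg => List.mem_cons_of_mem _ hg) (hspan _)) ?_
      refine (Ideal.span {g | g ∈ f :: l}).mul_mem_right _ (Ideal.subset_span ?_)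
      refine (List.mem_cons).2 (Or.inl ?_)
      exact (ConcreteCategory.congr_hom (X.presheaf.map_id (op ⊤)) f :)
    · rcases List.mem_cons.1 hg with rfl | hg
      · exact ⟨biprod.inr ≫ Abelian.factorThruImage φ, by
          rw [Category.assoc, Abelian.image.fac, biprod.inr_desc]⟩
      · obtain ⟨ψ, hψ⟩ := hfac g hg
        exact ⟨ψ ≫ biprod.inl ≫ Abelian.factorThruImage φ, by
          rw [Category.assoc, Category.assoc, Abelian.image.fac, biprod.inl_desc, hψ]⟩

theorem span_eq_top_of_cover (H : GammaExact X) (l : List Γ(X, ⊤))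
    (hl : ∀ x : X, ∃ f ∈ l, x ∈ X.basicOpen f) : Ideal.span {g | g ∈ l} = ⊤ := by
  obtain ⟨J, j, hj, -, hspan, hfac⟩ := exists_ideal_of_list H l
  rw [Ideal.eq_top_iff_one]
  let π := cokernel.π j
  choose g hg hgx using hl
  have hz : π.app ⊤ (show Γ(Coh.structureModule X, ⊤) from (1 : Γ(X, ⊤))) = 0 := by
    refine TopCat.Sheaf.eq_of_locally_eq' (sheafOf (cokernel j)) (fun x => X.basicOpen (g x)) ⊤
      (fun x => homOfLE le_top) (fun x _ => Opens.mem_iSup.2 ⟨x, hgx x⟩) _ _ fun x => ?_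
    have hu : IsUnit (gres (g x) (X.basicOpen (g x))) := RingedSpace.isUnit_res_basicOpen _ _
    obtain ⟨c, hc⟩ := hu.exists_right_inv
    obtain ⟨ψ, hψ⟩ := hfac _ (hg x)
    have h1 : (rs (Coh.structureModule X) (le_top : X.basicOpen (g x) ≤ ⊤))
        (show Γ(Coh.structureModule X, ⊤) from (1 : Γ(X, ⊤))) =
        j.app _ (ψ.app _ (show Γ(Coh.structureModule X, _) from c)) := by
      refine (map_one (X.presheaf.map (homOfLE le_top).op).hom).trans ?_
      refine hc.symm.trans ?_
      exact (congrArg (fun k => Scheme.Modules.Hom.app k _ _) hψ.symm :)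
    refine (ConcreteCategory.congr_hom (π.mapPresheaf.naturality (homOfLE le_top).op) _).symm.trans ?_
    refine (congrArg (π.app _) h1).trans ?_
    refine ((congrArg (fun k => Scheme.Modules.Hom.app k _ _) (cokernel.condition j) :)).trans ?_
    exact (map_zero ((sheafOf (cokernel j)).1.map (homOfLE le_top).op).hom).symm
  have hS : (ShortComplex.mk j π (cokernel.condition j)).ShortExact :=
    { exact := ShortComplex.exact_cokernel j, mono_f := hj, epi_g := inferInstanceAs (Epi (cokernel.π j)) }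
  obtain ⟨a, ha⟩ := exists_app_eq_of_exact hS ⊤ _ hz
  have h1 := hspan a
  rw [show j.app ⊤ a = _ from ha] at h1
  exact h1

/-- Serre's criterion. -/
theorem isAffine_of_gammaExact [CompactSpace X] (H : GammaExact X) : IsAffine X := by
  let s : Set Γ(X, ⊤) := {f | IsAffineOpen (X.basicOpen f)}
  have hcov : ∀ x : X, ∃ f ∈ s, x ∈ X.basicOpen f := by
    intro x
    obtain ⟨y, hy, hyc⟩ := (isClosed_closure (s := ({x} : Set X))).exists_closed_singleton
      (by simp)
    obtain ⟨U, hU, hyU, -⟩ := Opens.isBasis_iff_nbhd.1 X.isBasis_affineOpens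
      (show y ∈ (⊤ : X.Opens) from trivial)
    obtain ⟨f, hf, hfa⟩ := exists_basicOpen_affine H hU hyU hyc
    obtain ⟨z, hz, rfl⟩ := mem_closure_iff.1 hy _ (X.basicOpen f).isOpen hf
    exact ⟨f, hfa, hz⟩
  choose g hg hgx using hcov
  obtain ⟨t, ht⟩ := isCompact_univ.elim_finite_subcover (fun x => (X.basicOpen (g x) : Set X))
    (fun x => (X.basicOpen (g x)).isOpen) (fun x _ => Set.mem_iUnion.2 ⟨x, hgx x⟩)
  have hs : Ideal.span {f | f ∈ t.toList.map g} = ⊤ := by
    refine span_eq_top_of_cover H _ fun x => ?_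
    obtain ⟨y, hy, hxy⟩ := Set.mem_iUnion₂.1 (ht (Set.mem_univ x))
    exact ⟨g y, List.mem_map.2 ⟨y, Finset.mem_toList.2 hy, rfl⟩, hxy⟩
  refine isAffine_of_isAffineOpen_basicOpen _ hs fun f hf => ?_
  obtain ⟨y, -, rfl⟩ := List.mem_map.1 hf
  exact hg y

end Groth.Agent.H10Coh
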