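import Groth.Agent.H10Coh.FinH
import Groth.Agent.H10Coh.FinType2
import Groth.Agent.H10Coh.Serre

/-!
# Descending induction for finiteness of cohomology
-/

universe u

open CategoryTheory CategoryTheory.Limits AlgebraicGeometry Opposite TopologicalSpace

namespace Groth.Agent.H10Coh

attribute [local instance 10000] hasSheafifyAb hasWeakSheafifyAb hasExtAb enoughInjAb

variable {X : Scheme.{u}} {A : Type u} [CommRing A] [IsNoetherianRing A] (φ : A →+* Γ(X, ⊤))

theorem finH_sigma {r : ℕ} (P : Fin r → X.Modules) {n : ℕ} {U : X.Opens} (h : ∀ i, FinH φ (P i) n U) :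
    FinH φ (∐ P) n U := by
  have hι : ∀ i, Sigma.ι P i = biproduct.ι P i ≫ (biproduct.isoCoproduct P).hom := fun i => by
    rw [biproduct.isoCoproduct_hom, biproduct.ι_desc]
  refine finH_of_sum_eq_id φ P (fun i => (biproduct.isoCoproduct P).inv ≫ biproduct.π P i) (Sigma.ι P) ?_ h
  simp only [hι, Category.assoc]
  simp only [← Category.assoc (biproduct.π P _)]
  rw [← Preadditive.comp_sum, ← Preadditive.sum_comp, biproduct.total, Category.id_comp, Iso.inv_hom_id]

/-- If every coherent module is a quotient of a module with finite cohomology and cohomology vanishes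
in high degrees, all coherent modules have finite cohomology. -/
theorem finH_of_quotients [IsLocallyNoetherian X] (U : X.Opens) (N : ℕ)
    (hvan : ∀ F : X.Modules, Coh.IsCoh F → ∀ q, N < q → Subsingleton (HnM F q U))
    (hquot : ∀ F : X.Modules, Coh.IsCoh F → ∃ (E : X.Modules) (e : E ⟶ F), Epi e ∧ Coh.IsCoh E ∧
      ∀ q, FinH φ E q U)
    (F : X.Modules) (hF : Coh.IsCoh F) (q : ℕ) : FinH φ F q U := by
  suffices h : ∀ (k : ℕ) (F : X.Modules), Coh.IsCoh F → ∀ q, N + 1 ≤ q + k → FinH φ F q U from
    h (N + 1) F hF q (by omega)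
  intro k
  induction k with
  | zero => exact fun F hF q hq => finH_of_subsingleton φ (hvan F hF q (by omega))
  | succ k ih =>
    intro F hF q hq
    obtain ⟨E, e, he, hE, hfin⟩ := hquot F hF
    have hK : Coh.IsCoh (kernel e) := isCoh_kernel e hE hF.1
    exact finH_X₃ φ (shortExact_kernel e) (hfin q) (ih (kernel e) hK (q + 1) (by omega))

end Groth.Agent.H10Coh
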