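import Groth.Agent.H10Coh.QCohOps

/-!
Direct images commute with restriction to opens; affine direct images of quasi-coherent modules.
-/

universe u

open CategoryTheory CategoryTheory.Limits AlgebraicGeometry Opposite TopologicalSpace

namespace Groth.Agent.H10Coh

variable {X Y X' Y' : Scheme.{u}}

theorem pushforwardCongr_hom_app_app {f g : X ⟶ Y} (h : f = g) (M : X.Modules) (U : Y.Opens) :
    ((Scheme.Modules.pushforwardCongr h).hom.app M).app U =
      M.presheaf.map (eqToHom (show g ⁻¹ᵁ U = f ⁻¹ᵁ U by rw [h])).op := rfl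

variable {f : X ⟶ Y} {g : Y' ⟶ Y} {f' : X' ⟶ Y'} {g' : X' ⟶ X} [IsOpenImmersion g]
  [IsOpenImmersion g']

/-- The comparison map `(f_* M)|_{Y'} ⟶ f'_*(M|_{X'})`. -/
noncomputable def pushRestrictHom (H : IsPullback f' g' g f) (M : X.Modules) :
    ((Scheme.Modules.pushforward f).obj M).restrict g ⟶
      (Scheme.Modules.pushforward f').obj (M.restrict g') :=
  (Scheme.Modules.restrictFunctor g).map
      ((Scheme.Modules.pushforward f).map ((Scheme.Modules.restrictAdjunction g').unit.app M) ≫
        (Scheme.Modules.pushforwardComp g' f).hom.app _ ≫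
        (Scheme.Modules.pushforwardCongr H.w.symm).hom.app _ ≫
        (Scheme.Modules.pushforwardComp f' g).inv.app _) ≫
    (Scheme.Modules.restrictAdjunction g).counit.app _

theorem restrictFunctor_map_app {M N : Y.Modules} (φ : M ⟶ N) (W : Y'.Opens) :
    ((Scheme.Modules.restrictFunctor g).map φ).app W = φ.app (g ''ᵁ W) := rfl

theorem pushRestrictHom_app (H : IsPullback f' g' g f) (M : X.Modules) (W : Y'.Opens) :
    (pushRestrictHom H M).app W =
      M.presheaf.map (eqToHom (IsOpenImmersion.image_preimage_eq_preimage_image_of_isPullback H W)).op := by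
  dsimp only [pushRestrictHom]
  rw [Scheme.Modules.Hom.comp_app, restrictFunctor_map_app, Scheme.Modules.Hom.comp_app,
    Scheme.Modules.Hom.comp_app, Scheme.Modules.Hom.comp_app, Scheme.Modules.pushforward_map_app,
    Scheme.Modules.pushforwardComp_hom_app_app, Scheme.Modules.pushforwardComp_inv_app_app,
    pushforwardCongr_hom_app_app, Scheme.Modules.restrictAdjunction_unit_app_app,
    Scheme.Modules.restrictAdjunction_counit_app_app]
  erw [Category.comp_id]
  erw [← Functor.map_comp, ← Functor.map_comp]
  exact congrArg M.presheaf.map (Subsingleton.elim _ _)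

/-- Direct image commutes with restriction to opens. -/
noncomputable def pushRestrictIso (H : IsPullback f' g' g f) (M : X.Modules) :
    ((Scheme.Modules.pushforward f).obj M).restrict g ≅
      (Scheme.Modules.pushforward f').obj (M.restrict g') :=
  haveI : IsIso (pushRestrictHom H M) := Scheme.Modules.Hom.isIso_iff_isIso_app.2 fun W => by
    rw [pushRestrictHom_app]; exact Functor.map_isIso _ _
  asIso (pushRestrictHom H M)

theorem isQuasicoherent_pushforward_of_isAffineHom (f : X ⟶ Y) [IsAffineHom f] (M : X.Modules)
    [M.IsQuasicoherent] : ((Scheme.Modules.pushforward f).obj M).IsQuasicoherent := by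
  refine isQuasicoherent_of_forall_affine _ fun U hU => ?_
  have hV := hU.preimage f
  let φ : Γ(Y, U) ⟶ Γ(X, f ⁻¹ᵁ U) := f.app U
  have H : IsPullback (Spec.map φ) hV.fromSpec hU.fromSpec f := by
    have h := hU.SpecMap_appLE_fromSpec f hV le_rfl
    rw [Scheme.Hom.appLE_eq_app] at h
    exact IsOpenImmersion.isPullback _ _ _ _ h.symm (by rw [hV.opensRange_fromSpec, hU.opensRange_fromSpec])
  have hq := @isQuasicoherent_pushforward_Spec _ _ φ (M.restrict hV.fromSpec)
    (Scheme.Modules.isQuasicoherent_restrictFunctor hV.fromSpec M)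
  exact @isQuasicoherent_of_iso _ _ _ (pushRestrictIso H M).symm hq

end Groth.Agent.H10Coh
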