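import Groth.Agent.H10Coh.SpecQCoh
import Groth.Agent.H10Coh.SchemeH
import Mathlib.Algebra.Module.LocalizedModule.Basic
import Mathlib.Algebra.Homology.ShortComplex.ExactFunctor

/-!
`M ↦ M~` is exact.
-/

universe u

open CategoryTheory CategoryTheory.Limits AlgebraicGeometry Opposite TopologicalSpace

namespace Groth.Agent.H10Coh

variable {R : CommRingCat.{u}}

theorem injective_tilde_map_basicOpen {M N : ModuleCat.{u} R} (f : M ⟶ N)
    (hf : Function.Injective f) (g : R) :
    Function.Injective ((modulesSpecToSheaf.map (tilde.map f)).hom.app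
      (op (PrimeSpectrum.basicOpen g : (Spec R).Opens))).hom := by
  have h : ((modulesSpecToSheaf.map (tilde.map f)).hom.app
      (op (PrimeSpectrum.basicOpen g : (Spec R).Opens))).hom =
      IsLocalizedModule.map (Submonoid.powers g) (tilde.toOpen M (PrimeSpectrum.basicOpen g)).hom
        (tilde.toOpen N (PrimeSpectrum.basicOpen g)).hom f.hom := by
    apply IsLocalizedModule.linearMap_ext (Submonoid.powers g)
      (tilde.toOpen M (PrimeSpectrum.basicOpen g)).hom (tilde.toOpen N (PrimeSpectrum.basicOpen g)).hom
    rw [IsLocalizedModule.map_comp]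
    exact congrArg ModuleCat.Hom.hom (tilde.toOpen_map_app f (PrimeSpectrum.basicOpen g))
  rw [h]
  exact IsLocalizedModule.map_injective (Submonoid.powers g) _ _ f.hom hf

theorem mono_tilde_map {M N : ModuleCat.{u} R} (f : M ⟶ N) [Mono f] : Mono (tilde.map f) := by
  have hf : Function.Injective f := (ModuleCat.mono_iff_injective f).1 inferInstance
  apply (shF (Spec R)).mono_of_mono_map
  have : ∀ W, Mono (((shF (Spec R)).map (tilde.map f)).hom.app W) := by
    rintro ⟨W⟩
    rw [AddCommGrpCat.mono_iff_injective, injective_iff_map_eq_zero]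
    intro s hs
    refine TopCat.Sheaf.eq_of_locally_eq' (sh (tilde M))
      (fun i : {g : R // (PrimeSpectrum.basicOpen g : (Spec R).Opens) ≤ W} =>
        (PrimeSpectrum.basicOpen i.1 : (Spec R).Opens)) W (fun i => homOfLE i.2) ?_ s 0 fun i => ?_
    · intro x hx
      obtain ⟨_, ⟨_, ⟨g, rfl⟩, rfl⟩, hxg, hgW⟩ :=
        PrimeSpectrum.isBasis_basic_opens.exists_subset_of_mem_open hx W.2
      exact Opens.mem_iSup.2 ⟨⟨g, hgW⟩, hxg⟩
    · apply injective_tilde_map_basicOpen f hf i.1
      have hn := ConcreteCategory.congr_hom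
        (((shF (Spec R)).map (tilde.map f)).hom.naturality (homOfLE i.2).op) s
      replace hn := hn.trans ((congrArg (fun t => (sh (tilde N)).obj.map (homOfLE i.2).op t) hs).trans (map_zero _))
      rw [map_zero]
      exact hn.trans (map_zero _).symm
  have : Mono ((shF (Spec R)).map (tilde.map f)).hom := (NatTrans.mono_iff_mono_app _).2 this
  exact Sheaf.Hom.mono_of_presheaf_mono _ _ _

instance tilde_preservesFiniteColimits : PreservesFiniteColimits (tilde.functor R) :=
  PreservesColimitsOfSize.preservesFiniteColimits.{u, u} (tilde.functor R)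

instance tilde_preservesFiniteLimits : PreservesFiniteLimits (tilde.functor R) := by
  refine ((Functor.preservesFiniteLimits_tfae (tilde.functor R)).out 0 3 rfl rfl).1 fun S hS => ?_
  have hepi : ∀ S : ShortComplex (ModuleCat.{u} R), S.ShortExact →
      (S.map (tilde.functor R)).Exact ∧ Epi ((tilde.functor R).map S.g) :=
    ((Functor.preservesFiniteColimits_tfae (tilde.functor R)).out 0 3 rfl rfl).2 inferInstance
  have : Mono S.f := hS.mono_f
  exact ⟨(hepi S hS).1, mono_tilde_map S.f⟩

theorem isQuasicoherent_kernel_Spec {M N : (Spec R).Modules} (f : M ⟶ N) [M.IsQuasicoherent]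
    [N.IsQuasicoherent] : (kernel f).IsQuasicoherent := by
  let g := (tilde.functor R).preimage ((tildeIso M).hom ≫ f ≫ (tildeIso N).inv)
  exact isQuasicoherent_of_iso_tilde (N := kernel g)
    (PreservesKernel.iso (tilde.functor R) g ≪≫
      kernel.mapIso _ _ (tildeIso M) (tildeIso N) (by
        rw [Functor.map_preimage, Category.assoc, Category.assoc, Iso.inv_hom_id, Category.comp_id]))

end Groth.Agent.H10Coh
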