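import Groth.Agent.H10Coh.QCohLocal
import Groth.Agent.H10Coh.TildeExact

/-!
Exactness of restriction and closure properties of quasi-coherent modules on schemes.
-/

universe u

open CategoryTheory CategoryTheory.Limits AlgebraicGeometry Opposite TopologicalSpace Topology

namespace Groth.Agent.H10Coh

attribute [local instance 10000] hasSheafifyAb hasWeakSheafifyAb hasExtAb enoughInjAb

variable {X Y : Scheme.{u}}

section restrict

variable (f : X ⟶ Y) [IsOpenImmersion f]

instance restrictFunctor_additive : (Scheme.Modules.restrictFunctor f).Additive := ⟨rfl⟩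

instance shF_reflectsIsomorphisms (X : Scheme.{u}) : (shF X).ReflectsIsomorphisms :=
  inferInstanceAs (SheafOfModules.toSheaf.{u} X.ringCatSheaf).ReflectsIsomorphisms

instance restrictFunctor_preservesFiniteLimits :
    PreservesFiniteLimits (Scheme.Modules.restrictFunctor f) := by
  have : PreservesFiniteLimits (Scheme.Modules.restrictFunctor f ⋙ shF X) := by
    change PreservesFiniteLimits (shF Y ⋙ Rf f.isOpenEmbedding)
    exact comp_preservesFiniteLimits _ _
  exact preservesFiniteLimits_of_reflects_of_preserves _ (shF X)

instance restrictFunctor_preservesFiniteColimits :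
    PreservesFiniteColimits (Scheme.Modules.restrictFunctor f) :=
  PreservesColimitsOfSize.preservesFiniteColimits.{u, u} _

end restrict

theorem isQuasicoherent_of_iso {M N : X.Modules} (e : M ≅ N) [M.IsQuasicoherent] :
    N.IsQuasicoherent :=
  (SheafOfModules.isQuasicoherent X.ringCatSheaf).prop_of_iso e ‹_›

theorem isQuasicoherent_cokernel {M N : X.Modules} (φ : M ⟶ N) [M.IsQuasicoherent]
    [N.IsQuasicoherent] : (cokernel φ).IsQuasicoherent := by
  refine isQuasicoherent_of_forall_affine _ fun U hU => ?_
  let F := Scheme.Modules.restrictFunctor hU.fromSpec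
  have h : (cokernel (F.map φ)).IsQuasicoherent :=
    @isQuasicoherent_cokernel_Spec _ _ _ (F.map φ)
      (Scheme.Modules.isQuasicoherent_restrictFunctor _ M)
      (Scheme.Modules.isQuasicoherent_restrictFunctor _ N)
  exact isQuasicoherent_of_iso (PreservesCokernel.iso F φ).symm

theorem isQuasicoherent_kernel {M N : X.Modules} (φ : M ⟶ N) [M.IsQuasicoherent]
    [N.IsQuasicoherent] : (kernel φ).IsQuasicoherent := by
  refine isQuasicoherent_of_forall_affine _ fun U hU => ?_
  let F := Scheme.Modules.restrictFunctor hU.fromSpec
  have h : (kernel (F.map φ)).IsQuasicoherent :=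
    @isQuasicoherent_kernel_Spec _ _ _ (F.map φ)
      (Scheme.Modules.isQuasicoherent_restrictFunctor _ M)
      (Scheme.Modules.isQuasicoherent_restrictFunctor _ N)
  exact isQuasicoherent_of_iso (PreservesKernel.iso F φ).symm

theorem isQuasicoherent_biproduct {ι : Type} [Finite ι] (M : ι → X.Modules)
    [∀ i, (M i).IsQuasicoherent] : (⨁ M).IsQuasicoherent := by
  refine isQuasicoherent_of_forall_affine _ fun U hU => ?_
  let F := Scheme.Modules.restrictFunctor hU.fromSpec
  have := Functor.preservesFiniteBiproductsOfAdditive F
  have h : (⨁ fun i => F.obj (M i)).IsQuasicoherent :=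
    @isQuasicoherent_biproduct_Spec _ _ _ (fun i => F.obj (M i))
      (fun i => Scheme.Modules.isQuasicoherent_restrictFunctor _ (M i))
  exact @isQuasicoherent_of_iso _ _ _ (F.mapBiproduct M).symm h

theorem isQuasicoherent_unit : (Coh.structureModule X).IsQuasicoherent := by
  refine isQuasicoherent_of_forall_affine _ fun U hU => ?_
  have h : (tilde (ModuleCat.of Γ(X, U) Γ(X, U))).IsQuasicoherent := inferInstance
  exact isQuasicoherent_of_iso (tildeSelf ≪≫ (Scheme.Modules.restrictUnitIso hU.fromSpec).symm)

theorem isQuasicoherent_zero (M : X.Modules) (h : IsZero M) : M.IsQuasicoherent := by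
  have := isQuasicoherent_unit (X := X)
  have := isQuasicoherent_kernel (𝟙 (Coh.structureModule X))
  exact isQuasicoherent_of_iso ((isZero_kernel_of_mono (𝟙 (Coh.structureModule X))).iso h)

/-- An epimorphism of quasi-coherent modules is surjective on sections over affine opens. -/
theorem surjective_app_of_epi {M N : X.Modules} (φ : M ⟶ N) [M.IsQuasicoherent] [N.IsQuasicoherent]
    [Epi φ] {U : X.Opens} (hU : IsAffineOpen U) : Function.Surjective (φ.app U) := by
  let F := Scheme.Modules.restrictFunctor hU.fromSpec
  have hM := Scheme.Modules.isQuasicoherent_restrictFunctor hU.fromSpec M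
  have hN := Scheme.Modules.isQuasicoherent_restrictFunctor hU.fromSpec N
  have h := @epi_sections_Spec _ _ _ (F.map φ) hM hN (F.map_epi φ)
  have hUe : hU.fromSpec ''ᵁ ⊤ = U := by
    rw [Scheme.Hom.image_top_eq_opensRange, hU.opensRange_fromSpec]
  rw [← hUe]
  exact h

end Groth.Agent.H10Coh
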