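import Groth.Agent.H10Coh.TwistExact
import Groth.Agent.H10Coh.Proj.Projective
import Groth.Agent.H11Ample.VeryAmple
import Groth.Agent.H11Ample.RelComp
import Groth.Agent.H11Ample.Converse
import Groth.Agent.H15Site.ModAssoc

/-!
# Serre vanishing for ample modules on proper schemes over Noetherian rings
-/

set_option autoImplicit false
set_option linter.style.haveILetI false

noncomputable section

universe u

open CategoryTheory CategoryTheory.Limits AlgebraicGeometry Opposite TopologicalSpace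
open Groth.Agent.H11Tilde Groth.Agent.H11Ample

namespace Groth.Agent.H10Coh.Tw

attribute [local instance 10000] hasSheafifyAb hasWeakSheafifyAb hasExtAb enoughInjAb

section top

variable {T : TopCat.{u}}

theorem subsingleton_of_sum_eq_id {F : CohTop.Ab T} {ι : Type} [Fintype ι] {P : ι → CohTop.Ab T}
    (p : ∀ i, F ⟶ P i) (j : ∀ i, P i ⟶ F) (hid : ∑ i, p i ≫ j i = 𝟙 F) {n : ℕ} {U : Opens T}
    (h : ∀ i, Subsingleton (Hn (P i) n U)) : Subsingleton (Hn F n U) := by
  refine ⟨fun a b => ?_⟩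
  have key : ∀ x : Hn F n U, x = 0 := fun x => by
    rw [← postH_id n U x, ← hid, postH_sum]
    refine Finset.sum_eq_zero fun i _ => ?_
    rw [postH_comp, Subsingleton.elim (postH (p i) n U x) 0, map_zero]
  rw [key a, key b]

theorem subsingleton_X₃ {S : ShortComplex (CohTop.Ab T)} (hS : S.ShortExact) {n : ℕ} {U : Opens T}
    (h₂ : Subsingleton (Hn S.X₂ n U)) (h₁ : Subsingleton (Hn S.X₁ (n + 1) U)) :
    Subsingleton (Hn S.X₃ n U) :=
  ⟨fun a b => by
    have key : ∀ x : Hn S.X₃ n U, x = 0 := fun x => by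
      obtain ⟨y, hy⟩ := Abelian.Ext.covariant_sequence_exact₃ _ hS x rfl (Subsingleton.elim _ _)
      rw [← hy, Subsingleton.elim y 0, Abelian.Ext.zero_comp]
    rw [key a, key b]⟩

end top

variable {X : Scheme.{u}}

/-- Associativity of the tensor product. -/
def assoc (M A B : X.Modules) :
    CohB1.tensorMod (CohB1.tensorMod M A) B ≅ CohB1.tensorMod M (CohB1.tensorMod A B) :=
  H15Site.ModTensor.assocApp (O := X.sheaf) M A B

theorem subsingleton_of_iso {M N : X.Modules} (e : M ≅ N) {n : ℕ} {U : X.Opens}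
    (h : Subsingleton (HnM M n U)) : Subsingleton (HnM N n U) :=
  subsingleton_of_sum_eq_id (ι := Unit) (P := fun _ => sh M) (fun _ => (shF X).map e.inv)
    (fun _ => (shF X).map e.hom) (by simp [← Functor.map_comp]) fun _ => h

theorem tensorModMap_add {M N : X.Modules} {L : X.Modules} (hL : PicF.IsInvertible L) (f g : M ⟶ N) :
    LimSh.tensorModMap (f + g) L = LimSh.tensorModMap f L + LimSh.tensorModMap g L := by
  refine Scheme.Modules.hom_ext _ _ fun W => ?_
  ext t
  refine eq_of_locally _ _ fun x hx => ?_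
  obtain ⟨V, hV, e, m, hxV, he, hm⟩ := exists_eq_tm hL t hx
  refine ⟨V, hV, hxV, ?_⟩
  rw [← app_map_apply, ← app_map_apply, hm]
  change (LimSh.tensorModMap (f + g) L).app V (tm m e) =
    (LimSh.tensorModMap f L).app V (tm m e) + (LimSh.tensorModMap g L).app V (tm m e)
  rw [map_tm, map_tm, map_tm]
  exact tm_add_left _ _ _

/-- Twisting as an additive map on morphisms. -/
def mapHom (M N : X.Modules) {L : X.Modules} (hL : PicF.IsInvertible L) :
    (M ⟶ N) →+ (CohB1.tensorMod M L ⟶ CohB1.tensorMod N L) :=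
  AddMonoidHom.mk' (fun f => LimSh.tensorModMap f L) (tensorModMap_add hL)

theorem subsingleton_sigma_tensor {r : ℕ} (P : Fin r → X.Modules) {L : X.Modules} (hL : PicF.IsInvertible L)
    {n : ℕ} {U : X.Opens} (h : ∀ i, Subsingleton (HnM (CohB1.tensorMod (P i) L) n U)) :
    Subsingleton (HnM (CohB1.tensorMod (∐ P) L) n U) := by
  have hι : ∀ i, Sigma.ι P i = biproduct.ι P i ≫ (biproduct.isoCoproduct P).hom := fun i => by
    rw [biproduct.isoCoproduct_hom, biproduct.ι_desc]
  have hid : ∑ i, ((biproduct.isoCoproduct P).inv ≫ biproduct.π P i) ≫ Sigma.ι P i = 𝟙 (∐ P) := by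
    simp only [hι, Category.assoc]
    simp only [← Category.assoc (biproduct.π P _)]
    rw [← Preadditive.comp_sum, ← Preadditive.sum_comp, biproduct.total, Category.id_comp, Iso.inv_hom_id]
  let q : ∀ i, ∐ P ⟶ P i := fun i => (biproduct.isoCoproduct P).inv ≫ biproduct.π P i
  refine subsingleton_of_sum_eq_id (fun i => (shF X).map (LimSh.tensorModMap (q i) L))
    (fun i => (shF X).map (LimSh.tensorModMap (Sigma.ι P i) L)) ?_ h
  have e : ∀ i, (shF X).map (LimSh.tensorModMap (q i) L) ≫ (shF X).map (LimSh.tensorModMap (Sigma.ι P i) L) =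
      ((Functor.mapAddHom (shF X)).comp (mapHom (∐ P) (∐ P) hL)) (q i ≫ Sigma.ι P i) := fun i =>
    ((shF X).map_comp _ _).symm.trans (congrArg (shF X).map (LimSh.tensorModMap_comp _ _ L).symm)
  refine ((Finset.sum_congr rfl fun i _ => e i).trans
    (map_sum ((Functor.mapAddHom (shF X)).comp (mapHom (∐ P) (∐ P) hL)) (fun i => q i ≫ Sigma.ι P i)
      Finset.univ).symm).trans ?_
  rw [hid]
  exact (congrArg (shF X).map (LimSh.tensorModMap_id (∐ P) L)).trans ((shF X).map_id _)

/-- The projection formula for an invertible module. -/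
theorem nonempty_push_tensor_iso {S : Scheme.{u}} (f : X ⟶ S) (G : X.Modules) {N : S.Modules}
    (hN : PicF.IsInvertible N) :
    Nonempty (CohB1.tensorMod ((Coh.push f).obj G) N ≅
      (Coh.push f).obj (CohB1.tensorMod G ((Scheme.Modules.pullback f).obj N))) := by
  let β : Pairing ((Coh.push f).obj G) N ((Coh.push f).obj (CohB1.tensorMod G ((Scheme.Modules.pullback f).obj N))) :=
    { toFun := fun U g n => tm (show Γ(G, f ⁻¹ᵁ U) from g) (OmegaSh.pullSect f N U n)
      add_left := fun U g g' n => tm_add_left _ _ _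
      smul_left := fun U r g n => tm_smul_left (f.app U r) _ _
      add_right := fun U g n n' => by
        change tm _ (OmegaSh.pullSect f N U (n + n')) = tm _ _ + tm _ _
        exact (congrArg (tm _) (map_add _ _ _)).trans (tm_add_right _ _ _)
      smul_right := fun U r g n => by
        change tm _ (OmegaSh.pullSect f N U (r • n)) = f.app U r • tm _ _
        exact (congrArg (tm _) (OmegaSh.pullSect_smul f N U r n)).trans (tm_smul_right _ _ _)
      res := fun U V h g n => by
        refine (tm_res (f.preimage_mono h) _ _).trans ?_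
        exact congrArg (tm _) (H11Tilde.pullSect_res f N h n).symm }
  refine nonempty_tensorMod_iso β fun x => ?_
  obtain ⟨U, e, hx, he⟩ := exists_gen hN x
  refine ⟨U, hx, e, fun V hV => ⟨he.bijective hV, ?_⟩⟩
  have h := bijective_tm (F := G) (IsGen.pullSect f he) (f.preimage_mono hV)
  rw [← H11Tilde.pullSect_res f N hV e] at h
  exact h

theorem subsingleton_quot_tensor {r : ℕ} {P : Fin r → X.Modules} {G L : X.Modules} (ψ : (∐ P) ⟶ G) [Epi ψ]
    (hL : PicF.IsInvertible L) (p : ℕ) {U : X.Opens}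
    (hP : ∀ i, Subsingleton (HnM (CohB1.tensorMod (P i) L) p U))
    (hK : Subsingleton (HnM (CohB1.tensorMod (kernel ψ) L) (p + 1) U)) :
    Subsingleton (HnM (CohB1.tensorMod G L) p U) :=
  subsingleton_X₃ (shortExact_sh (shortExact_seq (shortExact_kernel ψ) hL)) (subsingleton_sigma_tensor P hL hP) hK

/-- Coherent modules on projective space have no higher cohomology after large twists. -/
theorem exists_vanishing_proj {R : Type u} [CommRing R] [IsNoetherianRing R] (n : ℕ)
    (G : (Proj (Pn.Gr n R)).Modules) (hG : Coh.IsCoh G) :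
    ∃ k₀ : ℕ, ∀ k : ℕ, k₀ ≤ k → ∀ p, 0 < p →
      Subsingleton (HnM (CohB1.tensorMod G (Pn.Od n R (k : ℤ))) p ⊤) := by
  haveI : IsNoetherianRing (MvPolynomial (Fin (n + 1)) R) := inferInstance
  haveI : IsNoetherian (Proj (Pn.Gr n R)) := ProjQ.isNoetherian_proj (Pn.Gr n R)
  have h1 : ∀ x : Proj (Pn.Gr n R), ∃ f ∈ Pn.Gr n R 1, f ∉ x.asHomogeneousIdeal := fun x => by
    obtain ⟨i, hi⟩ := exists_mem_basicOpen_X (n := n) (R := R) x
    exact ⟨_, X_mem i, hi⟩
  have h2 : ∀ m : ℤ, PicF.IsInvertible (Pn.Od n R m) := fun m => isInvertible_twist (Pn.Gr n R) h1 m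
  have h3 : ∀ a b : ℤ, Nonempty (CohB1.tensorMod (Pn.Od n R a) (Pn.Od n R b) ≅ Pn.Od n R (a + b)) := fun a b =>
    nonempty_tilde_tensor_iso (Pn.Gr n R) (Pn.Gr n R) rfl (cover_of_degOne (Pn.Gr n R) h1 b)
  suffices h : ∀ (j : ℕ) (G : (Proj (Pn.Gr n R)).Modules), Coh.IsCoh G → ∃ k₀ : ℕ, ∀ k : ℕ, k₀ ≤ k →
      ∀ p, 0 < p → n + 1 ≤ p + j → Subsingleton (HnM (CohB1.tensorMod G (Pn.Od n R (k : ℤ))) p ⊤) by
    obtain ⟨k₀, hk⟩ := h (n + 1) G hG
    exact ⟨k₀, fun k hk' p hp => hk k hk' p hp (by omega)⟩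
  intro j
  induction j with
  | zero =>
    refine fun G hG => ⟨0, fun k _ p hp hpn => ?_⟩
    haveI : (CohB1.tensorMod G (Pn.Od n R (k : ℤ))).IsQuasicoherent := isQCoh_tensor hG.1 (h2 k)
    exact Pn.subsingleton_HnM_proj _ (by omega)
  | succ j ih =>
    intro G hG
    obtain ⟨r, d, ψ, hψ⟩ := ProjQ.exists_epi_twists (Pn.Gr n R) (IsNoetherian.noetherian _) G hG
    haveI := hψ
    have hE : Coh.IsCoh (∐ fun i => GrMod.tilde (Pn.Gr n R) (Pn.Gr n R) (d i)) :=
      isCoh_sigma _ fun i => ProjQ.isCoh_tilde_twist (Pn.Gr n R) (d i)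
    obtain ⟨k₁, hk₁⟩ := ih (kernel ψ) (isCoh_kernel ψ hE hG.1)
    refine ⟨max k₁ (∑ i, (d i).natAbs), fun k hk p hp hpj => ?_⟩
    have hk' : k₁ ≤ k := (le_max_left _ _).trans hk
    refine subsingleton_quot_tensor ψ (h2 (k : ℤ)) p (fun i => ?_) (hk₁ k hk' (p + 1) (by omega) (by omega))
    obtain ⟨e⟩ := h3 (d i) k
    refine subsingleton_of_iso e.symm ?_
    have hd : 0 ≤ d i + k := by
      have h4 : (d i).natAbs ≤ k :=
        (Finset.single_le_sum (fun i _ => Nat.zero_le (d i).natAbs) (Finset.mem_univ i)).trans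
          ((le_max_right _ _).trans hk)
      omega
    exact @Equiv.subsingleton _ _ (HHEquiv _ p).toEquiv.symm
      (Pn.subsingleton_HH_Od (R := R) (d := d i + k) p (by omega) (by omega))

end Groth.Agent.H10Coh.Tw
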