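import Groth.Agent.H10Coh.HigherDirect
import Groth.Agent.H10Coh.QcqsPush

/-!
# Consequences of quasi-coherence of higher direct images
-/

universe u

open CategoryTheory CategoryTheory.Limits AlgebraicGeometry Opposite TopologicalSpace

namespace Groth.Agent.H10Coh

attribute [local instance 10000] hasSheafifyAb hasWeakSheafifyAb hasExtAb enoughInjAb
attribute [local instance] enoughInjMod

variable {X S : Scheme.{u}} (f : X ⟶ S)

theorem nonempty_rpush_iso_hdir [HasInjectiveResolutions X.Modules] (M : X.Modules) (n : ℕ) :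
    Nonempty ((Coh.Rpush f (n + 1)).obj M ≅ hdir f (MRes.inj M) n) := by
  have : (Scheme.Modules.pushforward f).IsRightAdjoint :=
    (Scheme.Modules.pullbackPushforwardAdjunction f).isRightAdjoint
  have : PreservesFiniteLimits (Scheme.Modules.pushforward f) := inferInstance
  have hac : ∀ k, H16Derived.AcyclicLES.IsAcyclic (Scheme.Modules.pushforward f) (mI M k) :=
    fun k => @H16Derived.AcyclicLES.isAcyclic_of_injective _ _ _ _ _ _ (Scheme.Modules.pushforward f)
      _ _ _ (mI M k) (injective_mI M k)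
  exact nonempty_rightDerived_of_chain (Scheme.Modules.pushforward f) n (mZ M) (mI M)
    (mi M) (mp M) (mi_mp M) (shortExact_mZ M) hac

theorem isQuasicoherent_rpush [QuasiCompact f] [QuasiSeparated f] [HasInjectiveResolutions X.Modules]
    (M : X.Modules) [M.IsQuasicoherent] (p : ℕ) : ((Coh.Rpush f p).obj M).IsQuasicoherent := by
  cases p with
  | zero =>
    have := isQuasicoherent_pushforward f M
    have : (Scheme.Modules.pushforward f).IsRightAdjoint :=
      (Scheme.Modules.pullbackPushforwardAdjunction f).isRightAdjoint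
    have : PreservesFiniteLimits (Scheme.Modules.pushforward f) := inferInstance
    exact isQuasicoherent_of_iso ((Scheme.Modules.pushforward f).rightDerivedZeroIsoSelf.app M).symm
  | succ n =>
    have := @isQuasicoherent_hdir _ _ f (MRes.inj M) n _ _ ‹M.IsQuasicoherent›
    exact isQuasicoherent_of_iso (nonempty_rpush_iso_hdir f M n).some.symm

/-- An isomorphism of abelian sheaves gives bijections on sections. -/
noncomputable def sectIso {Y : TopCat.{u}} {F G : CohTop.Ab Y} (e : F ≅ G) (U : Opens Y) :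
    F.obj.obj (op U) ≃+ G.obj.obj (op U) :=
  Iso.addCommGroupIsoToAddEquiv (((sheafToPresheaf _ _).mapIso e).app (op U))

theorem nonempty_rpushAb_iso_hdir (M : X.Modules) (n : ℕ) :
    Nonempty (sh (hdir f (MRes.inj M) n) ≅ (Coh.RpushAb f (n + 1)).obj (Coh.toAb M)) :=
  ⟨PreservesCokernel.iso (shF S) ((Coh.push f).map (mp M n)) ≪≫
    (nonempty_rpush_iso_cokernel f.base (MRes.inj M).toF n).some.symm⟩

/-- Over an affine open of the base, sections of higher direct images are cohomology groups. -/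
theorem nonempty_sections_rpushAb [QuasiCompact f] [QuasiSeparated f] (M : X.Modules)
    [M.IsQuasicoherent] {W : S.Opens} (hW : IsAffineOpen W) (q : ℕ) :
    Nonempty (HnM M q (f ⁻¹ᵁ W) ≃+ ↑(((Coh.RpushAb f q).obj (Coh.toAb M)).obj.obj (op W))) := by
  cases q with
  | zero =>
    exact ⟨(H0Equiv (sh M) (f ⁻¹ᵁ W)).trans
      (sectIso (nonempty_rpush_zero f.base (Coh.toAb M)).some.symm W)⟩
  | succ n =>
    exact ⟨(@hdirEquiv _ _ f (MRes.inj M) n _ _ ‹M.IsQuasicoherent› _ hW).trans
      (sectIso (nonempty_rpushAb_iso_hdir f M n).some W)⟩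

/-- The comparison `coker (g_* f_* p) ⟶ g_* coker (f_* p)`. -/
noncomputable def pushCoker {Z : Scheme.{u}} (g : S ⟶ Z) (R : MRes X) (n : ℕ) :
    cokernel ((Coh.push g).map ((Coh.push f).map (R.p n))) ⟶ (Coh.push g).obj (hdir f R n) :=
  cokernelComparison ((Coh.push f).map (R.p n)) (Coh.push g)

theorem cokernelComparison_app {Z : Scheme.{u}} (g : S ⟶ Z) {A B : S.Modules} (ψ : A ⟶ B)
    (V : Z.Opens) (z : Γ((Coh.push g).obj B, V)) :
    (cokernelComparison ψ (Coh.push g)).app V ((cokernel.π ((Coh.push g).map ψ)).app V z) =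
      (cokernel.π ψ).app (g ⁻¹ᵁ V) z := by
  rw [← ConcreteCategory.comp_apply, ← Scheme.Modules.Hom.comp_app, π_comp_cokernelComparison]
  rfl

theorem pushCoker_app {Z : Scheme.{u}} (g : S ⟶ Z) (R : MRes X) (n : ℕ) (V : Z.Opens)
    (z : Γ((Coh.push g).obj ((Coh.push f).obj (R.Z (n + 1))), V)) :
    (pushCoker f g R n).app V ((cokernel.π ((Coh.push g).map ((Coh.push f).map (R.p n)))).app V z) =
      piA f R n (g ⁻¹ᵁ V) z :=
  cokernelComparison_app g ((Coh.push f).map (R.p n)) V z

/-- `R^p (g ∘ f)_* = g_* R^p f_*` for affine `g`. -/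
theorem isIso_push_cokernel {Z : Scheme.{u}} (g : S ⟶ Z) [IsAffineHom g] [QuasiCompact f]
    [QuasiSeparated f] (R : MRes X) [(R.Z 0).IsQuasicoherent] (n : ℕ) :
    IsIso (pushCoker f g R n) := by
  let φ := (Coh.push g).map ((Coh.push f).map (R.p n))
  let c := pushCoker f g R n
  have hfac := pushCoker_app f g R n
  have hepi : Epi c := by
    apply (shF Z).epi_of_epi_map
    refine epi_of_locally_surjective _ fun U t x hx => ?_
    obtain ⟨V, hV, hxV, hVU⟩ := Opens.isBasis_iff_nbhd.1 Z.isBasis_affineOpens hx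
    obtain ⟨z, hz⟩ := piA_surjective f R n (IsAffineOpen.preimage hV g) (rs _ hVU t)
    exact ⟨V, hVU, hxV, (cokernel.π φ).app V z, (hfac V z).trans hz⟩
  have hinj : ∀ U : Z.Opens, Function.Injective (c.app U) := by
    intro U
    rw [injective_iff_map_eq_zero]
    intro s hs
    have h : ∀ x : U, ∃ (V : Z.Opens) (hV : V ≤ U), x.1 ∈ V ∧ rs _ hV s = 0 := by
      rintro ⟨x, hx⟩
      obtain ⟨V₀, hV₀, hxV₀, z, hz⟩ := exists_nhds_lift_of_epi (cokernel.π φ) U s x hx
      obtain ⟨V, hV, hxV, hVV₀⟩ := Opens.isBasis_iff_nbhd.1 Z.isBasis_affineOpens hxV₀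
      refine ⟨V, hVV₀.trans hV₀, hxV, ?_⟩
      have h1 : (cokernel.π φ).app V (rs _ hVV₀ z) = rs _ (hVV₀.trans hV₀) s :=
        ((app_rs (cokernel.π φ) hVV₀ z).trans (congrArg (rs _ hVV₀) hz)).trans (rs_rs _ _ _ s)
      have h2 : piA f R n (g ⁻¹ᵁ V) (rs ((Coh.push g).obj ((Coh.push f).obj (R.Z (n + 1)))) hVV₀ z) = 0 := by
        refine (hfac V _).symm.trans ((congrArg (c.app V) h1).trans ?_)
        exact (app_rs c (hVV₀.trans hV₀) s).trans ((congrArg _ hs).trans (map_zero _))
      obtain ⟨d, hd⟩ := Bd_of_piA_eq_zero f R n (IsAffineOpen.preimage hV g) _ h2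
      refine h1.symm.trans ?_
      exact (congrArg ((cokernel.π φ).app V) hd.symm).trans congr($(cokernel.condition φ).app V d)
    choose V hV hxV hz using h
    exact TopCat.Sheaf.eq_of_locally_eq' (sheafOf (cokernel φ)) V U (fun x => homOfLE (hV x))
      (fun x hx => Opens.mem_iSup.2 ⟨⟨x, hx⟩, hxV _⟩) _ _ fun x => (hz x).trans (map_zero _).symm
  have hmono : Mono c := by
    apply (shF Z).mono_of_mono_map
    apply (sheafToPresheaf _ _).mono_of_mono_map
    refine @NatTrans.mono_of_mono_app _ _ _ _ _ _ _ fun V => ?_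
    rw [AddCommGrpCat.mono_iff_injective]
    exact hinj V.unop
  exact isIso_of_mono_of_epi c

theorem nonempty_rpushAb_comp_affine {Z : Scheme.{u}} (g : S ⟶ Z) [IsAffineHom g] [QuasiCompact f]
    [QuasiSeparated f] (M : X.Modules) [M.IsQuasicoherent] (p : ℕ) :
    Nonempty ((Coh.RpushAb (f ≫ g) p).obj (Coh.toAb M) ≅
      (Coh.pushAb g).obj ((Coh.RpushAb f p).obj (Coh.toAb M))) := by
  cases p with
  | zero =>
    exact ⟨(nonempty_rpush_zero (f ≫ g).base (Coh.toAb M)).some ≪≫
      (Coh.pushAb g).mapIso (nonempty_rpush_zero f.base (Coh.toAb M)).some.symm⟩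
  | succ n =>
    have := @isIso_push_cokernel _ _ f _ g _ _ _ (MRes.inj M) ‹M.IsQuasicoherent› n
    exact ⟨(nonempty_rpush_iso_cokernel (f ≫ g).base (MRes.inj M).toF n).some ≪≫
      (PreservesCokernel.iso (shF Z) ((Coh.push g).map ((Coh.push f).map (mp M n)))).symm ≪≫
      (shF Z).mapIso (@asIso _ _ _ _ (pushCoker f g (MRes.inj M) n) this) ≪≫
      (Coh.pushAb g).mapIso (nonempty_rpushAb_iso_hdir f M n).some⟩

end Groth.Agent.H10Coh
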