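import Groth.Agent.H10Coh.SerreVanishing

/-!
# Serre vanishing for ample modules on proper schemes over Noetherian rings
-/

set_option autoImplicit false
set_option linter.style.haveILetI false

noncomputable section

universe u

open CategoryTheory CategoryTheory.Limits AlgebraicGeometry Opposite TopologicalSpace
open Groth.Agent.H11Tilde Groth.Agent.H11Ample

namespace Groth.Agent.H10Coh.Tw

attribute [local instance 10000] hasSheafifyAb hasWeakSheafifyAb hasExtAb enoughInjAb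

variable {X : Scheme.{u}} {A : Type u} [CommRing A]

/-- An ample module on a proper scheme gives a finite morphism to projective space. -/
theorem exists_finite_toPn_ample (q : X ⟶ Spec (CommRingCat.of A)) [IsProper q] {L : X.Modules}
    (hA : CohB1.IsAmple L) :
    ∃ (m n : ℕ) (r : X ⟶ CohB1.ProjSpace n A), 0 < m ∧ IsFinite r ∧
      Nonempty ((Scheme.Modules.pullback r).obj (Twist.twistProjSpace n A 1) ≅ CohB1.tensorPow L m) := by
  haveI : CompactSpace X := (isAmple_iff.1 hA).2.1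
  haveI : QuasiSeparatedSpace X := quasiSeparatedSpace_of_isAmple hA
  obtain ⟨n₀, hn₀⟩ := eventually_isRelVeryAmplePn q hA
  obtain ⟨n, i, hi, hiq, ⟨τ⟩⟩ := hn₀ (n₀ + 1) n₀.le_succ
  let t := specULiftZIsTerminal.from (Spec (CommRingCat.of A))
  let p₁ : CohB1.ProjSpaceOver n (Spec (CommRingCat.of A)) ⟶ CohB1.ProjSpace n (ULift.{u} ℤ) :=
    pullback.fst (CohB1.ProjSpace.toSpec n (ULift.{u} ℤ)) t
  haveI ht : IsAffineHom t := inferInstance
  haveI hp₁ : IsAffineHom p₁ := MorphismProperty.pullback_fst _ _ ht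
  haveI := hi
  haveI : IsSeparated (CohB1.ProjSpace.toSpec n (ULift.{u} ℤ)) := isSeparated_toSpec n
  haveI hsnd : IsSeparated (pullback.snd (CohB1.ProjSpace.toSpec n (ULift.{u} ℤ)) t) :=
    MorphismProperty.pullback_snd _ _ ‹IsSeparated (CohB1.ProjSpace.toSpec n (ULift.{u} ℤ))›
  haveI : IsProper (i ≫ pullback.snd (CohB1.ProjSpace.toSpec n (ULift.{u} ℤ)) t) := hiq ▸ ‹IsProper q›
  haveI : IsProper i := @IsProper.of_comp _ _ _ i _ ‹_› hsnd
  haveI : IsClosedImmersion i := IsClosedImmersion.of_isPreimmersion i i.isClosedMap.isClosed_range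
  let g : X ⟶ CohB1.ProjSpace n (ULift.{u} ℤ) := i ≫ p₁
  haveI : IsAffineHom g := inferInstance
  let N := (Scheme.Modules.pullback g).obj (Twist.twistProjSpace n (ULift.{u} ℤ) 1)
  let v : Fin (n + 1) → Γ(N, ⊤) := fun l =>
    pullTop g (L := Twist.twistProjSpace n (ULift.{u} ℤ) 1) (ProjUP.coord n (ULift.{u} ℤ) l)
  have hgen : ∀ l, gen N (v l) = g ⁻¹ᵁ Proj.basicOpen (CohB1.polyGrading n (ULift.{u} ℤ)) (MvPolynomial.X l) :=
    fun l => by
      have := gen_smul_pullSect g (isInvertible_twist (n := n) (R := ULift.{u} ℤ)) (ProjUP.coord n _ l)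
        (isUnit_one (M := Γ(X, ⊤)))
      rw [one_smul, gen_coord] at this
      exact this
  have hv : ∀ x, ∃ l, x ∈ gen N (v l) := fun x => by
    obtain ⟨l, hl⟩ := exists_mem_basicOpen_X (g x)
    exact ⟨l, by rw [hgen]; exact hl⟩
  obtain ⟨r, hr, ⟨σ⟩, hpre, -⟩ := exists_toPn q (isInvertible_pullback g isInvertible_twist) v hv
  haveI : IsSeparated (CohB1.ProjSpace.toSpec n A) := isSeparated_toSpec n
  haveI : IsProper (r ≫ CohB1.ProjSpace.toSpec n A) := hr ▸ ‹IsProper q›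
  haveI hp : IsProper r := IsProper.of_comp r (CohB1.ProjSpace.toSpec n A)
  have ha : IsAffineHom r := by
    refine isAffineHom_of_forall_exists_isAffineOpen r fun y => ?_
    obtain ⟨l, hl⟩ := exists_mem_basicOpen_X y
    refine ⟨_, hl, Proj.isAffineOpen_basicOpen (CohB1.polyGrading n A) _ (X_mem l) one_pos, ?_⟩
    rw [hpre l, hgen l]
    exact IsAffineHom.isAffine_preimage _
      (Proj.isAffineOpen_basicOpen (CohB1.polyGrading n (ULift.{u} ℤ)) _ (X_mem l) one_pos)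
  exact ⟨n₀ + 1, n, r, n₀.succ_pos, IsFinite.iff_isProper_and_isAffineHom.2 ⟨hp, ha⟩,
    ⟨σ ≪≫ ((Scheme.Modules.pullbackComp i p₁).app _).symm ≪≫ τ.symm⟩⟩

/-- Tensor powers of isomorphic modules. -/
def tensorPowIso {M N : X.Modules} (e : M ≅ N) : ∀ k : ℕ, CohB1.tensorPow M k ≅ CohB1.tensorPow N k
  | 0 => Iso.refl _
  | k + 1 => PicGrp.tensorModIso (tensorPowIso e k) e

theorem twistProjSpace_eq (n : ℕ) (R : Type u) [CommRing R] (d : ℤ) :
    Twist.twistProjSpace n R d = Pn.Od n R d := rfl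

/-- Serre vanishing. -/
theorem exists_vanishing_ample [IsNoetherianRing A] (q : X ⟶ Spec (CommRingCat.of A)) [IsProper q]
    {L : X.Modules} (hA : CohB1.IsAmple L) (M : X.Modules) (hM : Coh.IsCoh M) :
    ∃ k₀ : ℕ, ∀ k : ℕ, k₀ ≤ k → ∀ p, 0 < p →
      Subsingleton (HnM (CohB1.tensorMod M (CohB1.tensorPow L k)) p ⊤) := by
  obtain ⟨hL, -, -⟩ := isAmple_iff.1 hA
  obtain ⟨m, n, r, hm, hr, ⟨σ⟩⟩ := exists_finite_toPn_ample q hA
  haveI := hr
  have h1 : ∀ x : Proj (Pn.Gr n A), ∃ f ∈ Pn.Gr n A 1, f ∉ x.asHomogeneousIdeal := fun x => by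
    obtain ⟨i, hi⟩ := exists_mem_basicOpen_X (n := n) (R := A) x
    exact ⟨_, X_mem i, hi⟩
  have hO1 : PicF.IsInvertible (Twist.twistProjSpace n A 1) := isInvertible_twist
  let G : ℕ → X.Modules := fun s => CohB1.tensorMod M (CohB1.tensorPow L s)
  have hG : ∀ s, Coh.IsCoh (G s) := fun s => isCoh_tensor hM (isInvertible_tensorPow hL s)
  choose K hK using fun s =>
    exists_vanishing_proj n ((Coh.push r).obj (G s)) (isCoh_push_of_isFinite r _ (hG s))
  refine ⟨m * (∑ s ∈ Finset.range m, K s) + m, fun k hk p hp => ?_⟩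
  obtain ⟨j, s, hs, rfl⟩ : ∃ j s, s < m ∧ k = s + m * j :=
    ⟨k / m, k % m, Nat.mod_lt _ hm, (Nat.mod_add_div k m).symm⟩
  have hj : K s ≤ j := by
    refine le_trans (Finset.single_le_sum (fun i _ => Nat.zero_le (K i)) (Finset.mem_range.2 hs)) ?_
    by_contra hlt
    have : m * (j + 1) ≤ m * ∑ s ∈ Finset.range m, K s := Nat.mul_le_mul_left m (by omega)
    rw [Nat.mul_add, mul_one] at this
    omega
  have hv := hK s j hj p hp
  obtain ⟨e₁⟩ : Nonempty (Pn.Od n A (j : ℤ) ≅ CohB1.tensorPow (Twist.twistProjSpace n A 1) j) :=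
    nonempty_twist_iso_tensorPow (Pn.Gr n A) h1 j
  have hOj : PicF.IsInvertible (CohB1.tensorPow (Twist.twistProjSpace n A 1) j) := isInvertible_tensorPow hO1 j
  obtain ⟨e₂⟩ := nonempty_push_tensor_iso r (G s) hOj
  have hv₂ := subsingleton_of_iso (PicGrp.tensorModIso (Iso.refl _) e₁ ≪≫ e₂) hv
  haveI : (CohB1.tensorMod (G s) ((Scheme.Modules.pullback r).obj
      (CohB1.tensorPow (Twist.twistProjSpace n A 1) j))).IsQuasicoherent :=
    isQCoh_tensor (hG s).1 (isInvertible_pullback r hOj)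
  have hv₃ := @Equiv.subsingleton _ _ (affineLerayEquiv r (CohB1.tensorMod (G s) ((Scheme.Modules.pullback r).obj
      (CohB1.tensorPow (Twist.twistProjSpace n A 1) j))) p ⊤).symm.toEquiv hv₂
  obtain ⟨e₃⟩ := exists_iso_pullback_tensorPow r hO1 j
  obtain ⟨e₄, -⟩ := exists_iso_mul hL m j
  obtain ⟨e₅, -⟩ := exists_iso_add hL s (m * j)
  refine subsingleton_of_iso ?_ hv₃
  exact PicGrp.tensorModIso (Iso.refl _) (e₃ ≪≫ tensorPowIso σ j ≪≫ e₄) ≪≫ assoc _ _ _ ≪≫
    PicGrp.tensorModIso (Iso.refl M) e₅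

end Groth.Agent.H10Coh.Tw
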