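import Groth.Agent.H10Coh.SerreVanishing
import Groth.Agent.H11Ample.Tensor
import Groth.Agent.H10Coh.SerreVanishing2

/-!
# Symmetry and units for the tensor product of modules, inverse powers
-/

set_option autoImplicit false

noncomputable section

universe u

open CategoryTheory CategoryTheory.Limits AlgebraicGeometry Opposite TopologicalSpace MonoidalCategory
open Groth.Agent.H11Ample

namespace Groth.Agent.H10Coh.Tw

variable {X : Scheme.{u}}

/-- Symmetry. -/
def commIso (A B : X.Modules) : CohB1.tensorMod A B ≅ CohB1.tensorMod B A :=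
  (CohB1.sheafifyMod X).mapIso
    (show (CohB1.tensorPre A B : X.PresheafOfModules) ≅ (CohB1.tensorPre B A : X.PresheafOfModules) from
      (β_ (CohB1.toPMod A) (CohB1.toPMod B)))

/-- The left unit. -/
def leftUnitIso (M : X.Modules) : CohB1.tensorMod (Coh.structureModule X) M ≅ M :=
  (CohB1.sheafifyMod X).mapIso
    (show (CohB1.tensorPre (Coh.structureModule X) M : X.PresheafOfModules) ≅
        (CohB1.toPMod M : X.PresheafOfModules) from (λ_ (CohB1.toPMod M))) ≪≫
    (asIso (PresheafOfModules.sheafificationAdjunction (𝟙 X.ringCatSheaf.obj)).counit).app M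

/-- The right unit. -/
def rightUnitIso (M : X.Modules) : CohB1.tensorMod M (Coh.structureModule X) ≅ M :=
  commIso _ _ ≪≫ leftUnitIso M

/-- Powers of the structure module. -/
def powUnitIso : ∀ k : ℕ, CohB1.tensorPow (Coh.structureModule X) k ≅ Coh.structureModule X
  | 0 => Iso.refl _
  | k + 1 => commIso _ _ ≪≫ leftUnitIso _ ≪≫ powUnitIso k

theorem nonempty_tensorPow_inverse {L L' : X.Modules} (e : CohB1.tensorMod L L' ≅ Coh.structureModule X)
    (hL : PicF.IsInvertible L) (hL' : PicF.IsInvertible L') (k : ℕ) :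
    Nonempty (CohB1.tensorMod (CohB1.tensorPow L k) (CohB1.tensorPow L' k) ≅ Coh.structureModule X) := by
  obtain ⟨φ⟩ := exists_iso_tensorPow_tensor hL hL' k
  exact ⟨φ ≪≫ tensorPowIso e k ≪≫ powUnitIso k⟩

end Groth.Agent.H10Coh.Tw
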