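import Groth.Agent.H10Coh.ModGroth
import Groth.Agent.H10Coh.PushAb
import Groth.Agent.H10Coh.SchemeH
import Groth.Agent.H10Coh.Local
import Groth.Agent.H10Coh.QCohOps
import Mathlib.Algebra.Category.ModuleCat.Presheaf.Free

/-!
# Injective O-modules are flasque; injective resolutions of modules as flasque resolutions
-/

universe u

open CategoryTheory CategoryTheory.Limits AlgebraicGeometry Opposite TopologicalSpace

namespace Groth.Agent.H10Coh

attribute [local instance 10000] hasSheafifyAb hasWeakSheafifyAb hasExtAb enoughInjAb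

variable {X : Scheme.{u}}

theorem enoughInjMod (X : Scheme.{u}) : EnoughInjectives X.Modules :=
  enoughInjectives_sheafOfModules.{u} X.ringCatSheaf

attribute [local instance] enoughInjMod

/-- The free presheaf of modules on an open. -/
noncomputable abbrev freeY (U : X.Opens) : PresheafOfModules.{u} X.ringCatSheaf.obj :=
  (PresheafOfModules.free X.ringCatSheaf.obj).obj (yoneda.obj U)

/-- `j_{U!} O_U`. -/
noncomputable def freeSh (U : X.Opens) : X.Modules :=
  (PresheafOfModules.sheafification.{u, u, u, u} (R := X.ringCatSheaf) (𝟙 X.ringCatSheaf.obj)).obj (freeY U)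

/-- `j_{V!} O_V ⟶ j_{U!} O_U`. -/
noncomputable def freeShMap {U V : X.Opens} (h : V ≤ U) : freeSh V ⟶ freeSh U :=
  (PresheafOfModules.sheafification.{u, u, u, u} (R := X.ringCatSheaf) (𝟙 X.ringCatSheaf.obj)).map
    ((PresheafOfModules.free X.ringCatSheaf.obj).map (yoneda.map (homOfLE h)))

theorem mono_freeY_map {U V : X.Opens} (h : V ≤ U) :
    Mono ((PresheafOfModules.free X.ringCatSheaf.obj).map (yoneda.map (homOfLE h))) := by
  refine (PresheafOfModules.toPresheaf X.ringCatSheaf.obj).mono_of_mono_map ?_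
  refine @NatTrans.mono_of_mono_app _ _ _ _ _ _ _ fun W => ?_
  rw [AddCommGrpCat.mono_iff_injective]
  intro a b hab
  exact Finsupp.mapDomain_injective (fun x y _ => Subsingleton.elim (α := unop W ⟶ V) x y) hab

theorem mono_freeShMap {U V : X.Opens} (h : V ≤ U) : Mono (freeShMap h) := by
  have := mono_freeY_map h
  have : PreservesFiniteLimits
      (PresheafOfModules.sheafification.{u, u, u, u} (R := X.ringCatSheaf) (𝟙 X.ringCatSheaf.obj)) :=
    inferInstance
  have hM := preservesMonomorphisms_of_preservesLimitsOfShape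
    (PresheafOfModules.sheafification.{u, u, u, u} (R := X.ringCatSheaf) (𝟙 X.ringCatSheaf.obj))
  exact @Functor.map_mono _ _ _ _ _ hM _ _ _ (mono_freeY_map h)

/-- Maps out of `j_{U!} O_U` are sections over `U`. -/
noncomputable def freeShEquiv (U : X.Opens) (M : X.Modules) : (freeSh U ⟶ M) ≃ Γ(M, U) :=
  ((PresheafOfModules.sheafificationAdjunction.{u, u, u, u} (R := X.ringCatSheaf)
    (𝟙 X.ringCatSheaf.obj)).homEquiv (freeY U) M).trans PresheafOfModules.freeYonedaEquiv

theorem freeShEquiv_res {U V : X.Opens} (h : V ≤ U) (M : X.Modules) (φ : freeSh U ⟶ M) :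
    freeShEquiv V M (freeShMap h ≫ φ) = M.presheaf.map (homOfLE h).op (freeShEquiv U M φ) := by
  let adj := PresheafOfModules.sheafificationAdjunction.{u, u, u, u} (R := X.ringCatSheaf)
    (𝟙 X.ringCatSheaf.obj)
  refine (congrArg PresheafOfModules.freeYonedaEquiv
    (adj.homEquiv_naturality_left ((PresheafOfModules.free X.ringCatSheaf.obj).map
      (yoneda.map (homOfLE h))) φ)).trans ?_
  refine (congrArg yonedaEquiv ((PresheafOfModules.freeAdjunction.{u} X.ringCatSheaf.obj).homEquiv_naturality_left
    (yoneda.map (homOfLE h)) (adj.homEquiv (freeY U) M φ))).trans ?_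
  exact (yonedaEquiv_naturality _ (homOfLE h)).symm

theorem flasque_sh_of_injective (I : X.Modules) [Injective I] : Flasque (sh I) := by
  intro U V h s
  have := mono_freeShMap (X := X) h
  refine ⟨freeShEquiv U I (Injective.factorThru ((freeShEquiv V I).symm s) (freeShMap h)), ?_⟩
  exact (freeShEquiv_res h I _).symm.trans ((congrArg (freeShEquiv V I) (Injective.comp_factorThru _ _)).trans ((freeShEquiv V I).apply_symm_apply s))

/-- The cokernel chain of injective embeddings. -/
noncomputable def mZ (M : X.Modules) : ℕ → X.Modules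
  | 0 => M
  | n + 1 => (injSeq (mZ M n)).X₃

/-- The injective terms. -/
noncomputable abbrev mI (M : X.Modules) (n : ℕ) : X.Modules := (injSeq (mZ M n)).X₂

noncomputable abbrev mi (M : X.Modules) (n : ℕ) : mZ M n ⟶ mI M n := (injSeq (mZ M n)).f

noncomputable abbrev mp (M : X.Modules) (n : ℕ) : mI M n ⟶ mZ M (n + 1) := (injSeq (mZ M n)).g

theorem mi_mp (M : X.Modules) (n : ℕ) : mi M n ≫ mp M n = 0 := (injSeq (mZ M n)).zero

theorem shortExact_mZ (M : X.Modules) (n : ℕ) :
    (ShortComplex.mk (mi M n) (mp M n) (mi_mp M n)).ShortExact :=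
  injSeq_shortExact (mZ M n)

theorem injective_mI (M : X.Modules) (n : ℕ) : Injective (mI M n) := injSeq_injective _

/-- An injective resolution of modules, as a flasque resolution of abelian sheaves. -/
noncomputable abbrev mRes (M : X.Modules) : FRes X.toPresheafedSpace.carrier where
  I n := sh (mI M n)
  Z n := sh (mZ M n)
  i n := (shF X).map (mi M n)
  p n := (shF X).map (mp M n)
  w n := ((shF X).map_comp _ _).symm.trans
    ((congrArg (shF X).map (mi_mp M n)).trans (Functor.map_zero _ _ _))
  se n := (shortExact_mZ M n).map_of_exact (shF X)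
  fl n := @flasque_sh_of_injective _ _ (injective_mI M n)

/-- A flasque resolution of `Z 0` by O-modules, cut into short exact sequences. -/
structure MRes (X : Scheme.{u}) where
  I : ℕ → X.Modules
  Z : ℕ → X.Modules
  i : ∀ n, Z n ⟶ I n
  p : ∀ n, I n ⟶ Z (n + 1)
  w : ∀ n, i n ≫ p n = 0
  se : ∀ n, (ShortComplex.mk (i n) (p n) (w n)).ShortExact
  fl : ∀ n, Flasque (sh (I n))

/-- The chosen injective resolution. -/
noncomputable abbrev MRes.inj (M : X.Modules) : MRes X where
  I := mI M
  Z := mZ M
  i := mi M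
  p := mp M
  w := mi_mp M
  se := shortExact_mZ M
  fl n := @flasque_sh_of_injective _ _ (injective_mI M n)

/-- The underlying flasque resolution of abelian sheaves. -/
noncomputable abbrev MRes.toF (R : MRes X) : FRes X.toPresheafedSpace.carrier where
  I n := sh (R.I n)
  Z n := sh (R.Z n)
  i n := (shF X).map (R.i n)
  p n := (shF X).map (R.p n)
  w n := ((shF X).map_comp _ _).symm.trans
    ((congrArg (shF X).map (R.w n)).trans (Functor.map_zero _ _ _))
  se n := (R.se n).map_of_exact (shF X)
  fl := R.fl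

/-- Restriction of a resolution along an open immersion. -/
noncomputable abbrev MRes.restrict {U : Scheme.{u}} (R : MRes X) (j : U ⟶ X) [IsOpenImmersion j] :
    MRes U where
  I n := (R.I n).restrict j
  Z n := (R.Z n).restrict j
  i n := (Scheme.Modules.restrictFunctor j).map (R.i n)
  p n := (Scheme.Modules.restrictFunctor j).map (R.p n)
  w n := ((Scheme.Modules.restrictFunctor j).map_comp _ _).symm.trans
    ((congrArg (Scheme.Modules.restrictFunctor j).map (R.w n)).trans (Functor.map_zero _ _ _))
  se n := (R.se n).map_of_exact (Scheme.Modules.restrictFunctor j)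
  fl n := flasque_Rf j.isOpenEmbedding (R.fl n)

/-- Scalar multiplication by a global function, on the resolution. -/
noncomputable def mResSmul (R : MRes X) (r : Coh.Γtop X) : FRes.Hom R.toF R.toF where
  f n := Coh.smulAb (R.Z n) r
  g n := Coh.smulAb (R.I n) r
  comm₁ n := by
    ext U m
    exact (R.i n).app_smul (Coh.resTop X U r) m
  comm₂ n := by
    ext U m
    exact (R.p n).app_smul (Coh.resTop X U r) m

/-- Classes of cocycles are linear. -/
theorem cls_smul (R : MRes X) (n : ℕ) (U : X.Opens) (r : Γ(X, ⊤)) (z : Γ(R.Z n, U)) :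
    FRes.cls n R.toF U (X.presheaf.map (homOfLE (le_top : U ≤ ⊤)).op r • z) =
      (FRes.cls n R.toF U z).comp (Abelian.Ext.mk₀ (Coh.smulAb (R.Z 0) r)) (add_zero n) :=
  FRes.cls_map n (mResSmul R r) U z

theorem subsingleton_HnM_iff (R : MRes X) (n : ℕ) (U : X.Opens) :
    Subsingleton (HnM (R.Z 0) (n + 1) U) ↔ Function.Surjective ((R.p n).app U) :=
  R.toF.subsingleton_iff n U

theorem mp_mi_app (R : MRes X) (n : ℕ) (U : X.Opens) (c : Γ(R.Z n, U)) :
    (R.p n).app U ((R.i n).app U c) = 0 :=
  R.toF.zero_i_p n U c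

theorem exists_mi_eq (R : MRes X) (n : ℕ) (U : X.Opens) (w : Γ(R.I n, U))
    (hw : (R.p n).app U w = 0) : ∃ c, (R.i n).app U c = w :=
  R.toF.exists_i_eq n U w hw

theorem exists_mI_res (R : MRes X) (n : ℕ) {U V : X.Opens} (h : V ≤ U) (w : Γ(R.I n, V)) :
    ∃ w' : Γ(R.I n, U), (R.I n).presheaf.map (homOfLE h).op w' = w :=
  R.fl n h w

end Groth.Agent.H10Coh
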