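import Groth.Agent.H10Coh.FlasqueLocal
import Groth.Agent.H10Coh.HigherDirect2
import Groth.Agent.H10Coh.DerivedShift
import Groth.Agent.H10Coh.Serre
import Groth.Agent.H10Coh.TensorBasics
import Groth.Agent.H16Derived.ProjFormula.Free
import Groth.Agent.H16Derived.KFlat.FlatIff
import Groth.Agent.H16Derived.QCohD.Perfect

/-!
# The projection formula for finite locally free modules, one degree at a time
-/

set_option autoImplicit false
set_option linter.style.haveILetI false

noncomputable section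

universe u

open CategoryTheory CategoryTheory.Limits AlgebraicGeometry Opposite TopologicalSpace

attribute [local instance] HasDerivedCategory.standard

namespace Groth.Agent.H10Coh.PF

open Groth.Agent.H16Derived Groth.Agent.H16Derived.ProjFormula Groth.Agent.H16Derived.KFlat
  Groth.Agent.H16Derived.KFlat.Stalk

attribute [local instance 10000] hasSheafifyAb hasWeakSheafifyAb hasExtAb enoughInjAb
attribute [local instance] enoughInjMod

variable {X Y : Scheme.{u}}

/-- `- ⊗ N`. -/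
abbrev TR (N : X.Modules) : X.Modules ⥤ X.Modules := (DCoh.tensorBi (X := X)).flip.obj N

/-- A finite locally free module is locally `j_! O_V^n`. -/
theorem exists_model {E : Y.Modules} (hE : FlatMod.IsFinLocFree E) (y : Y) :
    ∃ (V : Y.Opens) (n : ℕ) (φ : (∐ fun _ : Fin n => N₁ V) ⟶ E), y ∈ V ∧ IsIso ((res V).map φ) := by
  obtain ⟨V, n, hy, ⟨e⟩⟩ := hE y
  haveI := preservesColimitsOfSize_shrink.{0, u, 0, u} (CxOX.extZero V.ι)
  let φ₀ : (∐ fun _ : Fin n => N₁ V) ≅ (CxOX.extZero V.ι).obj (E.restrict V.ι) :=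
    (PreservesCoproduct.iso (CxOX.extZero V.ι) _).symm ≪≫ (CxOX.extZero V.ι).mapIso e.symm
  haveI := QCohD.MV.isIso_restrict_ε V E
  refine ⟨V, n, φ₀.hom ≫ (QCohD.MV.ε V).app E, hy, ?_⟩
  rw [Functor.map_comp]
  infer_instance

theorem isIso_ψ_of_isFinLocFree (f : X ⟶ Y) {E : Y.Modules} (hE : FlatMod.IsFinLocFree E)
    (M : X.Modules) : IsIso (ψ f M E) := by
  refine isIso_of_stalk _ fun y => ?_
  obtain ⟨V, n, φ, hy, hφ⟩ := exists_model hE y
  haveI := hφ
  haveI := isIso_res_pull f V φ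
  haveI := isIso_res_tensor V ((push f).obj M) φ
  haveI := isIso_res_tensor (f ⁻¹ᵁ V) M ((pull f).map φ)
  haveI := isIso_res_push f V (((DCoh.tensorBi (X := X)).obj M).map ((pull f).map φ))
  haveI := isIso_res_ψ f V M n
  have h : (res V).map (((DCoh.tensorBi (X := Y)).obj ((push f).obj M)).map φ) ≫ (res V).map (ψ f M E) =
      (res V).map (ψ f M _) ≫ (res V).map ((push f).map (((DCoh.tensorBi (X := X)).obj M).map ((pull f).map φ))) :=
    (ψV f V M).naturality φ
  haveI : IsIso ((res V).map (ψ f M E)) := IsIso.of_isIso_fac_left h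
  exact QCohD.MV.isIso_stalk_of_restrict V _ y hy

theorem shortExact_TR {N : X.Modules} (hN : FlatMod.IsFlat N) {S : ShortComplex X.Modules}
    (hS : S.ShortExact) : (S.map (TR N)).ShortExact :=
  (isFlat_iff_isFlatObj N).1 hN S hS

theorem bijective_app_of_isIso_res (U : X.Opens) {M M' : X.Modules} (φ : M ⟶ M')
    [IsIso ((res U).map φ)] {W : X.Opens} (hW : W ≤ U) : Function.Bijective (φ.app W) := by
  have he : U.ι ''ᵁ (U.ι ⁻¹ᵁ W) = W := by
    rw [Scheme.Hom.image_preimage_eq_opensRange_inf, Scheme.Opens.opensRange_ι, inf_eq_right.2 hW]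
  rw [← he]
  haveI : IsIso ((res U).map φ).mapPresheaf :=
    inferInstanceAs (IsIso ((Scheme.Modules.toPresheaf _).map ((res U).map φ)))
  exact ConcreteCategory.bijective_of_isIso (((res U).map φ).mapPresheaf.app (op (U.ι ⁻¹ᵁ W)))

theorem flasqueOn_of_isIso_res (U : X.Opens) {M M' : X.Modules} (φ : M ⟶ M') [IsIso ((res U).map φ)] :
    FlasqueOn U (sh M) ↔ FlasqueOn U (sh M') := by
  refine ⟨fun h W V hVW hW t => ?_, fun h W V hVW hW t => ?_⟩
  · obtain ⟨t', rfl⟩ := (bijective_app_of_isIso_res U φ (hVW.trans hW)).2 t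
    obtain ⟨s, hs⟩ := h hVW hW t'
    refine ⟨φ.app W s, ?_⟩
    exact (H11Tilde.app_map_apply φ hVW s).symm.trans (congrArg _ hs)
  · obtain ⟨s', hs⟩ := h hVW hW (φ.app V t)
    obtain ⟨s, rfl⟩ := (bijective_app_of_isIso_res U φ hW).2 s'
    refine ⟨s, (bijective_app_of_isIso_res U φ (hVW.trans hW)).1 ?_⟩
    exact (H11Tilde.app_map_apply φ hVW s).trans hs

theorem flasqueOn_tensor_N₁ (U : X.Opens) {J : X.Modules} (hJ : Flasque (sh J)) (n : ℕ) :
    FlasqueOn U (sh (((DCoh.tensorBi (X := X)).obj J).obj (∐ fun _ : Fin n => N₁ U))) := by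
  let T := (DCoh.tensorBi (X := X)).obj J
  refine finSum_induction (fun N => FlasqueOn U (sh (T.obj N))) (fun e h => ?_) (fun N hN => ?_)
    (fun N N' h h' => ?_) ?_ n
  · exact (flasqueOn_of_isIso_res U (T.map e.hom)).1 h
  · intro W V hVW _ t
    refine ⟨0, (map_zero _).trans (Eq.symm ?_)⟩
    exact congr($(congrArg (fun k => Scheme.Modules.Hom.app k V) ((T.map_isZero hN).eq_of_src (𝟙 _) 0)) t)
  · intro W V hVW hW t
    let a := T.map (biprod.fst : N ⊞ N' ⟶ N)
    let b := T.map (biprod.snd : N ⊞ N' ⟶ N')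
    let i := T.map (biprod.inl : N ⟶ N ⊞ N')
    let j := T.map (biprod.inr : N' ⟶ N ⊞ N')
    obtain ⟨x, hx⟩ := h hVW hW (a.app V t)
    obtain ⟨y, hy⟩ := h' hVW hW (b.app V t)
    refine ⟨i.app W x + j.app W y, ?_⟩
    have hid : a ≫ i + b ≫ j = 𝟙 _ := by
      rw [← T.map_comp, ← T.map_comp, ← T.map_add, biprod.total, T.map_id]
    refine (map_add _ _ _).trans ?_
    rw [show (sh (T.obj (N ⊞ N'))).obj.map (homOfLE hVW).op (i.app W x) = i.app V (a.app V t) from
        (H11Tilde.app_map_apply i hVW x).symm.trans (congrArg _ hx),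
      show (sh (T.obj (N ⊞ N'))).obj.map (homOfLE hVW).op (j.app W y) = j.app V (b.app V t) from
        (H11Tilde.app_map_apply j hVW y).symm.trans (congrArg _ hy)]
    exact congr($(congrArg (fun k => Scheme.Modules.Hom.app k V) hid) t)
  · haveI := isIso_res_εN U
    haveI := isIso_res_tensor U J (εN U)
    haveI : IsIso ((res U).map (T.map (εN U) ≫ (ρ X).hom.app J)) := by
      haveI h1 : IsIso ((res U).map (T.map (εN U))) := isIso_res_tensor U J (εN U)
      haveI h2 : IsIso ((res U).map ((ρ X).hom.app J)) := inferInstance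
      exact ((res U).map_comp (T.map (εN U)) ((ρ X).hom.app J)) ▸ (@IsIso.comp_isIso _ _ _ _ _ _ _ h1 h2)
    refine (flasqueOn_of_isIso_res U (T.map (εN U) ≫ (ρ X).hom.app J)).2 ?_
    intro W V hVW _
    exact hJ hVW

theorem flasque_TR {J N : X.Modules} (hJ : Flasque (sh J)) (hN : FlatMod.IsFinLocFree N) :
    Flasque (sh ((TR N).obj J)) := by
  refine flasque_of_flasqueOn _ fun x => ?_
  obtain ⟨U, n, φ, hx, hφ⟩ := exists_model hN x
  haveI := hφ
  haveI := isIso_res_tensor U J φ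
  exact ⟨U, hx, (flasqueOn_of_isIso_res U (((DCoh.tensorBi (X := X)).obj J).map φ)).1
    (flasqueOn_tensor_N₁ U hJ n)⟩

theorem isAcyclic_push_of_flasque (f : X ⟶ Y) [HasInjectiveResolutions X.Modules] {M : X.Modules}
    (hM : Flasque (sh M)) : AcyclicLES.IsAcyclic (Scheme.Modules.pushforward f) M := by
  haveI : (Scheme.Modules.pushforward f).IsRightAdjoint :=
    (Scheme.Modules.pullbackPushforwardAdjunction f).isRightAdjoint
  refine isAcyclic_of_class (Scheme.Modules.pushforward f) (fun M => Flasque (sh M)) (fun M hM => ?_) M hM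
  have hS := injSeq_shortExact M
  have hI : Flasque (sh (injSeq M).X₂) := @flasque_sh_of_injective _ _ (injSeq_injective M)
  refine ⟨injSeq M, hS, rfl, injSeq_injective M, flasque_X₃ (shortExact_sh hS) hM hI, ?_⟩
  refine H11Tilde.epi_of_locally_surjective _ fun W t x hx => ?_
  obtain ⟨s, hs⟩ := surjective_sections (shortExact_sh hS) hM (f ⁻¹ᵁ W) t
  exact ⟨W, le_rfl, hx, s, hs.trans (H10Coh.mres_self _ _ _).symm⟩

theorem nonempty_derived_map (f : X ⟶ Y) [HasInjectiveResolutions X.Modules]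
    (T : X.Modules ⥤ X.Modules) [T.Additive] (R : MRes X) (n : ℕ)
    (hT : ∀ S : ShortComplex X.Modules, S.ShortExact → (S.map T).ShortExact)
    (hA : ∀ k, AcyclicLES.IsAcyclic (Scheme.Modules.pushforward f) (T.obj (R.I k))) :
    Nonempty (((Scheme.Modules.pushforward f).rightDerived (n + 1)).obj (T.obj (R.Z 0)) ≅
      cokernel ((Scheme.Modules.pushforward f).map (T.map (R.p n)))) :=
  nonempty_rightDerived_of_chain (F := Scheme.Modules.pushforward f) n
      (fun k => T.obj (R.Z k)) (fun k => T.obj (R.I k))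
      (fun k => T.map (R.i k)) (fun k => T.map (R.p k))
      (fun k => ((ShortComplex.mk (R.i k) (R.p k) (R.w k)).map T).zero)
      (fun k => hT _ (R.se k)) hA

theorem ψ_nat (f : X ⟶ Y) {A B : X.Modules} (g : A ⟶ B) (E : Y.Modules) :
    (TR E).map ((push f).map g) ≫ ψ f B E = ψ f A E ≫ (push f).map ((TR ((pull f).obj E)).map g) :=
  ψ_naturality_left f g E

theorem nonempty_coker_map {A B A' B' : Y.Modules} (T : Y.Modules ⥤ Y.Modules) [T.Additive]
    [PreservesColimitsOfSize.{0, 0} T] (φ : A ⟶ B) (φ' : A' ⟶ B') (α : T.obj A ⟶ A')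
    (β : T.obj B ⟶ B') [IsIso α] [IsIso β] (w : T.map φ ≫ β = α ≫ φ') :
    Nonempty (T.obj (cokernel φ) ≅ cokernel φ') :=
  ⟨PreservesCokernel.iso T φ ≪≫ cokernel.mapIso _ _ (asIso α) (asIso β) w⟩

/-- `ψ`, as a map between values of the twisting functors. -/
def ψT (f : X ⟶ Y) (E : Y.Modules) (M : X.Modules) :
    (TR E).obj ((push f).obj M) ⟶ (push f).obj ((TR ((pull f).obj E)).obj M) := ψ f M E

theorem nonempty_hdir_map (f : X ⟶ Y) [HasInjectiveResolutions X.Modules] (R : MRes X) (n : ℕ)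
    {E : Y.Modules} (hE : FlatMod.IsFinLocFree E) :
    Nonempty ((TR E).obj (hdir f R n) ≅
      ((Scheme.Modules.pushforward f).rightDerived (n + 1)).obj ((TR ((pull f).obj E)).obj (R.Z 0))) := by
  haveI hi : ∀ M, IsIso (ψT f E M) := isIso_ψ_of_isFinLocFree f hE
  have hNf : FlatMod.IsFinLocFree ((pull f).obj E) := isFinLocFree_pullback f hE
  obtain ⟨e₁⟩ := nonempty_derived_map f (TR ((pull f).obj E)) R n
    (fun S hS => shortExact_TR (isFlat_of_isFinLocFree hNf) hS)
    (fun k => isAcyclic_push_of_flasque f (flasque_TR (R.fl k) hNf))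
  haveI := preservesColimitsOfSize_shrink.{0, u, 0, u} (TR E)
  have w : (TR E).map ((push f).map (R.p n)) ≫ ψT f E (R.Z (n + 1)) =
      ψT f E (R.I n) ≫ (push f).map ((TR ((pull f).obj E)).map (R.p n)) := ψ_nat f (R.p n) E
  obtain ⟨e₂⟩ := nonempty_coker_map (TR E) ((push f).map (R.p n))
    ((push f).map ((TR ((pull f).obj E)).map (R.p n))) (ψT f E (R.I n)) (ψT f E (R.Z (n + 1))) w
  exact ⟨e₂ ≪≫ e₁.symm⟩

theorem nonempty_projectionFormula (f : X ⟶ Y) [HasInjectiveResolutions X.Modules]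
    (F : X.Modules) {E : Y.Modules} (hE : FlatMod.IsFinLocFree E) (q : ℕ) :
    Nonempty ((TR E).obj ((Coh.Rpush f q).obj F) ≅ (Coh.Rpush f q).obj ((TR ((pull f).obj E)).obj F)) := by
  haveI : (Scheme.Modules.pushforward f).IsRightAdjoint :=
    (Scheme.Modules.pullbackPushforwardAdjunction f).isRightAdjoint
  let N := (pull f).obj E
  haveI : ∀ M, IsIso (ψ f M E) := isIso_ψ_of_isFinLocFree f hE
  cases q with
  | zero =>
    haveI : PreservesFiniteLimits (Scheme.Modules.pushforward f) := inferInstance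
    exact ⟨(TR E).mapIso ((Scheme.Modules.pushforward f).rightDerivedZeroIsoSelf.app F) ≪≫
      asIso (ψ f F E) ≪≫ ((Scheme.Modules.pushforward f).rightDerivedZeroIsoSelf.app _).symm⟩
  | succ n =>
    have hNf : FlatMod.IsFinLocFree N := isFinLocFree_pullback f hE
    obtain ⟨e⟩ := nonempty_hdir_map f (MRes.inj F) n hE
    exact ⟨(TR E).mapIso (nonempty_rpush_iso_hdir f F n).some ≪≫ e⟩

theorem nonempty_projectionFormula' (f : X ⟶ Y) [HasInjectiveResolutions X.Modules]
    (F : X.Modules) {E : Y.Modules} (hE : FlatMod.IsFinLocFree E) (q : ℕ) :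
    Nonempty (CohB1.tensorMod E ((Coh.Rpush f q).obj F) ≅
      (Coh.Rpush f q).obj (CohB1.tensorMod ((Scheme.Modules.pullback f).obj E) F)) := by
  obtain ⟨e⟩ := nonempty_projectionFormula f F hE q
  exact ⟨Tw.commIso _ _ ≪≫ e ≪≫ (Coh.Rpush f q).mapIso (Tw.commIso _ _)⟩

end Groth.Agent.H10Coh.PF
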