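import Groth.Agent.H10Coh.Proper

/-!
# Finiteness theorem for proper schemes over a Noetherian ring
-/

universe u

open CategoryTheory CategoryTheory.Limits AlgebraicGeometry Opposite TopologicalSpace

namespace Groth.Agent.H10Coh

attribute [local instance 10000] hasSheafifyAb hasWeakSheafifyAb hasExtAb enoughInjAb

variable {X : Scheme.{u}} {A : Type u} [CommRing A] [IsNoetherianRing A]

theorem isNoetherian_of_closed {Z : Scheme.{u}} (i : Z ⟶ X) [IsClosedImmersion i] [IsNoetherian X] :
    IsNoetherian Z := by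
  haveI : IsLocallyNoetherian Z := LocallyOfFiniteType.isLocallyNoetherian i
  haveI : CompactSpace Z := i.isClosedEmbedding.compactSpace
  constructor

theorem finH_ideal [IsIntegral X] [IsNoetherian X] (q : X ⟶ Spec (CommRingCat.of A)) [IsProper q]
    (H : SubFinite q) (I : X.Modules) (ι : I ⟶ Coh.structureModule X) [Mono ι] (hI : Coh.IsQCoh I) (p : ℕ) :
    FinH (toΓ q) I p ⊤ := by
  haveI : I.IsQuasicoherent := hI
  by_cases hz : IsZero I
  · exact finH_of_isZero _ hz p ⊤
  have hIc : Coh.IsCoh I := isCoh_of_mono ι hI (isCoh_structureModule' X)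
  haveI : (Coh.structureModule X).IsQuasicoherent := isQuasicoherent_unit
  haveI := isQuasicoherent_cokernel ι
  obtain ⟨V, t, ht⟩ : ∃ (V : X.Opens) (t : Γ(I, V)), t ≠ 0 := by
    by_contra h
    push Not at h
    exact hz (isZero_of_sections I fun V => subsingleton_of_forall_eq 0 (h V))
  have ha : (show Γ(X, V) from ι.app V t) ≠ 0 := fun h0 =>
    ht (injective_app_of_mono' ι V (h0.trans (map_zero _).symm))
  have hU : X.basicOpen (show Γ(X, V) from ι.app V t) ≠ ⊥ := fun h0 => ha ((basicOpen_eq_bot_iff _).1 h0)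
  have hK : Small (kernel ι) := by
    refine ⟨⊤, ⟨genericPoint X, trivial⟩, fun W _ _ => subsingleton_of_forall_eq 0 fun t' => ?_⟩
    refine injective_app_of_mono' (kernel.ι ι) W (injective_app_of_mono' ι W ?_)
    rw [map_zero, map_zero]
    exact congr($(congrArg (fun k : kernel ι ⟶ Coh.structureModule X => k.app W) (kernel.condition ι)) t')
  have hC : Small (cokernel ι) := by
    refine ⟨X.basicOpen (show Γ(X, V) from ι.app V t), ?_, fun W hWU hW => subsingleton_of_forall_eq 0 fun c => ?_⟩
    · rcases Set.eq_empty_or_nonempty (X.basicOpen (show Γ(X, V) from ι.app V t) : Set X) with h | h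
      · exact (hU (Opens.ext h)).elim
      · exact h
    obtain ⟨s, rfl⟩ := surjective_app_of_epi (cokernel.π ι) hW c
    have hWV : W ≤ V := hWU.trans (X.basicOpen_le _)
    have hu : IsUnit (X.presheaf.map (homOfLE hWV).op (show Γ(X, V) from ι.app V t)) := by
      have h := (X.toRingedSpace.isUnit_res_basicOpen (show Γ(X, V) from ι.app V t)).map
        (X.presheaf.map (homOfLE hWU).op).hom
      exact (rres_rres (X.basicOpen_le _) hWU _) ▸ h
    have h1 : (cokernel.π ι).app W (ι.app W (((show Γ(X, W) from s) * (↑hu.unit⁻¹ : Γ(X, W))) • rs I hWV t)) = 0 :=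
      congr($(congrArg (fun k : I ⟶ cokernel ι => k.app W) (cokernel.condition ι))
        (((show Γ(X, W) from s) * (↑hu.unit⁻¹ : Γ(X, W))) • rs I hWV t))
    refine Eq.trans (congrArg ((cokernel.π ι).app W) ?_) h1
    refine Eq.trans ?_ ((ι.app_smul _ _).trans (congrArg _ (app_rs ι hWV t))).symm
    change (show Γ(X, W) from s) = ((show Γ(X, W) from s) * (↑hu.unit⁻¹ : Γ(X, W))) *
      X.presheaf.map (homOfLE hWV).op (show Γ(X, V) from ι.app V t)
    rw [mul_assoc, IsUnit.val_inv_mul, mul_one]
  exact finH_of_comparison q H ι hIc (isCoh_structureModule' X) hK hC (fun m => finH_structureModule q H m) p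

/-- Ideals of integral closed subschemes of a proper scheme have finite cohomology. -/
theorem finH_ideals [IsNoetherian X] (q : X ⟶ Spec (CommRingCat.of A)) [IsProper q] :
    ∀ (T : Closeds X) (Z : Scheme.{u}) (i : Z ⟶ X), IsClosedImmersion i → IsIntegral Z → Set.range i = (T : Set X) →
      ∀ (I : Z.Modules) (ι : I ⟶ Coh.structureModule Z), Mono ι → Coh.IsQCoh I → ∀ p, FinH (toΓ (i ≫ q)) I p ⊤ := by
  intro T
  induction T using WellFoundedLT.induction with
  | _ T ih =>
    intro Z i hi hZ hT I ι hι hI p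
    haveI := hi
    haveI := hZ
    haveI := hι
    haveI := isNoetherian_of_closed i
    refine finH_ideal (i ≫ q) (fun Z' j hj hZ' hr J κ hκ hJ m => ?_) I ι hI p
    haveI := hj
    let T' : Closeds X := ⟨Set.range (j ≫ i), (j ≫ i).isClosedEmbedding.isClosed_range⟩
    have hcomp : Set.range (j ≫ i) = i '' Set.range j := by
      rw [← Set.range_comp]; rfl
    have hlt : T' < T := by
      refine lt_of_le_of_ne (fun x hx => ?_) fun h => hr ?_
      · obtain ⟨y, -, rfl⟩ := (hcomp ▸ hx : x ∈ i '' Set.range j)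
        exact hT.le (Set.mem_range_self y)
      · have h' : i '' Set.range j = i '' Set.univ := by
          rw [← hcomp, Set.image_univ, hT, ← h]
          rfl
        exact i.isClosedEmbedding.injective.image_injective h'
    rw [← Category.assoc]
    exact ih T' hlt Z' (j ≫ i) inferInstance hZ' rfl J κ hκ hJ m

/-- Coherent cohomology of a proper scheme over a Noetherian ring is finite. -/
theorem finH_proper (q : X ⟶ Spec (CommRingCat.of A)) [IsProper q] (M : X.Modules) (hM : Coh.IsCoh M) (p : ℕ) :
    FinH (toΓ q) M p ⊤ := by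
  haveI : IsLocallyNoetherian X := LocallyOfFiniteType.isLocallyNoetherian q
  haveI : CompactSpace X := QuasiCompact.compactSpace_of_compactSpace q
  haveI : IsNoetherian X := ⟨⟩
  rcases isEmpty_or_nonempty X with he | hne
  · exact finH_of_isZero _ (isZero_of_sections M fun U => subsingleton_of_forall_eq 0 fun s =>
      TopCat.Sheaf.eq_of_locally_eq' (sheafOf M) (fun i : PEmpty.{u + 1} => i.elim) U
        (fun i => i.elim) (fun x _ => he.elim x) _ _ fun i => i.elim) p ⊤
  refine S0027.result X (fun F => ∀ p, FinH (toΓ q) F p ⊤) (fun M N ⟨e⟩ h p => finH_of_iso _ e (h p))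
    (fun S hS _ _ _ h₁ h₃ p => finH_X₂ _ hS (h₁ p) (h₃ p)) (fun Z i hi hZ I ι hι hI p => ?_) M hM p
  haveI := hi
  haveI : I.IsQuasicoherent := hI
  exact finH_push_closed i q I p (finH_ideals q ⟨Set.range i, i.isClosedEmbedding.isClosed_range⟩ Z i hi hZ rfl
    I ι hι hI p)

theorem finite_HH_proper (A : Type u) [CommRing A] [IsNoetherianRing A] (X : Scheme.{u})
    [X.Over (Spec (CommRingCat.of A))] [IsProper (X ↘ Spec (CommRingCat.of A))] (M : X.Modules)
    (hM : Coh.IsCoh M) (n : ℕ) : Module.Finite A (Coh.HH X M n) :=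
  (finite_HH_iff_finH M n).2 (finH_proper (X ↘ Spec (CommRingCat.of A)) M hM n)

/-- Higher direct images along a proper morphism are coherent. -/
theorem isCoh_hdir_of_isProper {S : Scheme.{u}} [IsLocallyNoetherian S] (f : X ⟶ S) [IsProper f] (M : X.Modules)
    (hM : Coh.IsCoh M) (m : ℕ) : Coh.IsCoh (hdir f (MRes.inj M) m) := by
  haveI : ((MRes.inj M).Z 0).IsQuasicoherent := hM.1
  refine isCoh_hdir f (MRes.inj M) m fun W hW => ?_
  haveI : IsNoetherianRing Γ(S, W) := IsLocallyNoetherian.component_noetherian ⟨W, hW⟩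
  rw [preΓ_eq_toΓ f hW]
  exact finH_proper _ _ (isCoh_restrict _ M hM) (m + 1)

theorem isCoh_rpush {S : Scheme.{u}} [IsLocallyNoetherian S] (f : X ⟶ S) [IsProper f]
    [HasInjectiveResolutions X.Modules] (M : X.Modules) (hM : Coh.IsCoh M) (p : ℕ) :
    Coh.IsCoh ((Coh.Rpush f p).obj M) := by
  cases p with
  | zero =>
    have : (Scheme.Modules.pushforward f).IsRightAdjoint :=
      (Scheme.Modules.pullbackPushforwardAdjunction f).isRightAdjoint
    have : PreservesFiniteLimits (Scheme.Modules.pushforward f) := inferInstance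
    refine isCoh_of_iso ((Scheme.Modules.pushforward f).rightDerivedZeroIsoSelf.app M).symm ?_
    refine isCoh_push_of_finH f M hM fun W hW => ?_
    haveI : IsNoetherianRing Γ(S, W) := IsLocallyNoetherian.component_noetherian ⟨W, hW⟩
    rw [preΓ_eq_toΓ f hW]
    exact finH_proper _ _ (isCoh_restrict _ M hM) 0
  | succ m =>
    exact isCoh_of_iso (nonempty_rpush_iso_hdir f M m).some.symm (isCoh_hdir_of_isProper f M hM m)

end Groth.Agent.H10Coh
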