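import Groth.Agent.H10Coh.SpecQCoh

/-!
Quasi-coherence is local and can be tested on an affine open cover.
-/

universe u

open CategoryTheory CategoryTheory.Limits AlgebraicGeometry Opposite TopologicalSpace

namespace Groth.Agent.H10Coh

variable {X : Scheme.{u}}

/-- Transport of a presentation along an isomorphism of modules. -/
noncomputable def presOfIso {M N : X.Modules} (e : M ≅ N) (P : M.Presentation) : N.Presentation :=
  @SheafOfModules.Presentation.ofIsIso.{u, u, u} _ _ _ _ _ _ M N e.hom (Iso.isIso_hom e) P

/-- A quasi-coherent module on `Spec R` has a presentation. -/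
noncomputable def presentationSpec {R : CommRingCat.{u}} (M : (Spec R).Modules) [M.IsQuasicoherent] :
    M.Presentation :=
  presOfIso (tildeIso M)
    (presentationTilde.{u} _ .univ (by simp) _ (Submodule.span_eq _))

/-- A presentation on an affine open from quasi-coherence of the pullback to `Spec`. -/
noncomputable def presentationAffine (M : X.Modules) {U : X.Opens} (hU : IsAffineOpen U)
    [(M.restrict hU.fromSpec).IsQuasicoherent] : (M.restrict U.ι).Presentation :=
  presOfIso
    ((Scheme.Modules.restrictFunctorComp hU.isoSpec.hom hU.fromSpec).symm.app M ≪≫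
      (Scheme.Modules.restrictFunctorCongr hU.isoSpec_hom_fromSpec).app M)
    (Scheme.Modules.presentationRestrict hU.isoSpec.hom (presentationSpec (M.restrict hU.fromSpec)))

/-- A presentation of `M|_U` gives one of `M.over U`. -/
noncomputable def presentationOver (M : X.Modules) (U : X.Opens)
    (P : (M.restrict U.ι).Presentation) :
    (SheafOfModules.over (R := X.ringCatSheaf) M U).Presentation :=
  let e := Scheme.Modules.overEquiv U
  let F := Scheme.Modules.overFunctorEquiv U
  @SheafOfModules.Presentation.ofIsIso.{u, u, u} _ _ _ _ _ _ _ _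
    (e.inverse.mapIso (F.app M).symm ≪≫ (e.unitIso.app _).symm).hom (Iso.isIso_hom _)
    (@SheafOfModules.Presentation.map _ _ _ _ _ _ _ _ _ _ _ _ _ P e.inverse
      (by exact e.symm.toAdjunction.leftAdjoint_preservesColimits)
      (e.unitIso.app _ ≪≫ e.inverse.mapIso
        (F.app (SheafOfModules.unit X.ringCatSheaf) ≪≫ Scheme.Modules.restrictUnitIso U.ι)))

theorem isQuasicoherent_of_presentations (M : X.Modules) {I : Type u} (U : I → X.Opens)
    (hU : IsOpenCover U) (P : ∀ i, (M.restrict (U i).ι).Presentation) : M.IsQuasicoherent :=
  SheafOfModules.QuasicoherentData.isQuasicoherent.{u}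
    { I := I
      X := U
      coversTop := (Opens.coversTop_iff _ _).2 hU
      presentation := fun i => presentationOver M (U i) (P i) }

theorem isQuasicoherent_of_affineCover (M : X.Modules) {I : Type u} (U : I → X.Opens)
    (hU : IsOpenCover U) (hA : ∀ i, IsAffineOpen (U i))
    (h : ∀ i, (M.restrict (hA i).fromSpec).IsQuasicoherent) : M.IsQuasicoherent :=
  isQuasicoherent_of_presentations M U hU fun i =>
    haveI := h i
    presentationAffine M (hA i)

theorem isQuasicoherent_of_forall_affine (M : X.Modules)
    (h : ∀ (U : X.Opens) (hU : IsAffineOpen U), (M.restrict hU.fromSpec).IsQuasicoherent) :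
    M.IsQuasicoherent :=
  isQuasicoherent_of_affineCover M (fun U : X.affineOpens => U.1) (iSup_affineOpens_eq_top X)
    (fun U => U.2) fun U => h U.1 U.2

theorem isQuasicoherent_iff_forall_affine (M : X.Modules) :
    M.IsQuasicoherent ↔
      ∀ (U : X.Opens) (hU : IsAffineOpen U), (M.restrict hU.fromSpec).IsQuasicoherent :=
  ⟨fun _ _ hU => Scheme.Modules.isQuasicoherent_restrictFunctor hU.fromSpec M,
    isQuasicoherent_of_forall_affine M⟩

end Groth.Agent.H10Coh
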