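import Groth.Agent.H10Coh.Support
import Groth.Agent.H10Coh.Local

/-!
# Quasi-coherent and coherent modules on quasi-compact opens of affine schemes
-/

universe u

open CategoryTheory CategoryTheory.Limits AlgebraicGeometry Opposite TopologicalSpace

namespace Groth.Agent.H10Coh

attribute [local instance 10000] hasSheafifyAb hasWeakSheafifyAb hasExtAb enoughInjAb

theorem isCoh_restrict {X Y : Scheme.{u}} (f : X ⟶ Y) [IsOpenImmersion f] (M : Y.Modules)
    (hM : Coh.IsCoh M) : Coh.IsCoh (M.restrict f) := by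
  refine (isCoh_iff_finite_sections _).2
    ⟨@Scheme.Modules.isQuasicoherent_restrictFunctor _ _ f _ M hM.1, fun U hU => ?_⟩
  exact (finite_restrict_iff f M U).2
    (((isCoh_iff_finite_sections M).1 hM).2 _ (hU.image_of_isOpenImmersion f))

variable {R : CommRingCat.{u}}

theorem isCoh_tilde (N : ModuleCat.{u} R) [Module.Finite R N] : Coh.IsCoh (tilde N) := by
  have hq : (tilde N).IsQuasicoherent := inferInstance
  refine ⟨hq, (@isFT_isFP_of_affineCover _ (tilde N) hq PUnit.{u + 1} (fun _ => ⊤)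
    (by simp [IsOpenCover]) (fun _ => isAffineOpen_top _) fun _ => ?_).1⟩
  refine finite_of_semilinear (Scheme.ΓSpecIso R).inv.hom (tilde.toOpen N ⊤).hom.toAddMonoidHom
    (fun a m => ?_) (ConcreteCategory.bijective_of_isIso (tilde.toOpen N ⊤)).2
  refine ((tilde.toOpen N ⊤).hom.map_smul a m).trans ?_
  have h := Scheme.Modules.smul_Spec_def (M := tilde N) (U := ⊤) a ((tilde.toOpen N ⊤).hom m)
  rw [Subsingleton.elim (⊤ : (Spec R).Opens).leTop.op (𝟙 _), CategoryTheory.Functor.map_id] at h
  exact h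

/-- Restriction of the pushforward along an open immersion. -/
noncomputable def pushRestrictSelf {U X : Scheme.{u}} (j : U ⟶ X) [IsOpenImmersion j] (F : U.Modules) :
    ((Scheme.Modules.pushforward j).obj F).restrict j ≅ F :=
  (asIso (Scheme.Modules.restrictAdjunction j).counit).app F

theorem exists_tilde_restrict (V : (Spec R).Opens) (hV : IsCompact (V : Set (Spec R)))
    (F : (V : Scheme.{u}).Modules) [F.IsQuasicoherent] :
    ∃ N : ModuleCat.{u} R, Nonempty (F ≅ (tilde N).restrict V.ι) := by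
  have : CompactSpace V.toScheme := isCompact_iff_compactSpace.1 hV
  have : QuasiCompact V.ι := quasiCompact_of_compactSpace V.ι
  have := isQuasicoherent_pushforward V.ι F
  exact ⟨_, ⟨(pushRestrictSelf V.ι F).symm ≪≫
    (Scheme.Modules.restrictFunctor V.ι).mapIso (tildeIso ((Scheme.Modules.pushforward V.ι).obj F)).symm⟩⟩

theorem exists_finite_tilde_restrict [IsNoetherianRing R] (V : (Spec R).Opens)
    (F : (V : Scheme.{u}).Modules) (hF : Coh.IsCoh F) :
    ∃ N : ModuleCat.{u} R, Module.Finite R N ∧ Nonempty (F ≅ (tilde N).restrict V.ι) := by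
  classical
  have hV : IsCompact (V : Set (Spec R)) := NoetherianSpace.isCompact _
  obtain ⟨M, ⟨e⟩⟩ := @exists_tilde_restrict _ V hV F hF.1
  have hG : Coh.IsCoh ((tilde M).restrict V.ι) := isCoh_of_iso e hF
  -- finite cover by basic opens
  obtain ⟨T, hTle, hTcov⟩ : ∃ T : Finset Γ(Spec R, ⊤), (∀ t ∈ T, (Spec R).basicOpen t ≤ V) ∧
      ∀ y ∈ V, ∃ t ∈ T, y ∈ (Spec R).basicOpen t := by
    have h : ∀ y : V, ∃ t : Γ(Spec R, ⊤), (Spec R).basicOpen t ≤ V ∧ y.1 ∈ (Spec R).basicOpen t :=
      fun y => (isAffineOpen_top (Spec R)).exists_basicOpen_le y (Opens.mem_top _)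
    choose t ht hty using h
    obtain ⟨s, hs⟩ := hV.elim_finite_subcover (fun y : V => ((Spec R).basicOpen (t y) : Set (Spec R)))
      (fun y => ((Spec R).basicOpen (t y)).2) (fun y hy => Set.mem_iUnion.2 ⟨⟨y, hy⟩, hty ⟨y, hy⟩⟩)
    refine ⟨s.image t, fun a ha => ?_, fun y hy => ?_⟩
    · obtain ⟨z, -, rfl⟩ := Finset.mem_image.1 ha
      exact ht z
    · obtain ⟨z, hz, hyz⟩ := Set.mem_iUnion₂.1 (hs hy)
      exact ⟨t z, Finset.mem_image_of_mem t hz, hyz⟩
  -- numerators
  have key : ∀ t : T, ∃ S : Finset Γ(tilde M, ⊤), Submodule.span Γ(Spec R, (Spec R).basicOpen t.1)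
      ((tilde M).presheaf.map (homOfLE ((Spec R).basicOpen_le t.1)).op '' S) = ⊤ := by
    intro t
    have hpre : V.ι ''ᵁ (V.ι ⁻¹ᵁ (Spec R).basicOpen t.1) = (Spec R).basicOpen t.1 := by
      rw [Scheme.Hom.image_preimage_eq_opensRange_inf, Scheme.Opens.opensRange_ι]
      exact inf_eq_right.2 (hTle t.1 t.2)
    have haff : IsAffineOpen (V.ι ⁻¹ᵁ (Spec R).basicOpen t.1) := by
      rw [← Scheme.Hom.isAffineOpen_iff_of_isOpenImmersion V.ι, hpre]
      exact (isAffineOpen_top _).basicOpen t.1
    have hfin := finite_of_eq (tilde M) hpre ((finite_restrict_iff V.ι (tilde M) _).1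
      (((isCoh_iff_finite_sections _).1 hG).2 _ haff))
    obtain ⟨S', hS'⟩ := (hfin.fg_top : (⊤ : Submodule _ _).FG)
    choose n s hs using fun y => exists_pow_smul_eq_res (tilde M) (isAffineOpen_top _) t.1 y
    refine ⟨S'.image s, eq_top_iff.2 (hS' ▸ Submodule.span_le.2 fun y hy => ?_)⟩
    have hu : IsUnit ((Spec R).presheaf.map (homOfLE ((Spec R).basicOpen_le t.1)).op (t.1 ^ n y)) := by
      rw [map_pow]
      exact (RingedSpace.isUnit_res_basicOpen _ t.1).pow _
    rw [SetLike.mem_coe, ← Submodule.smul_mem_iff_of_isUnit _ hu, ← hs y]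
    exact Submodule.subset_span ⟨s y, by simpa using ⟨y, hy, rfl⟩, rfl⟩
  choose S hS using key
  choose pre hpre using fun m : Γ(tilde M, ⊤) =>
    (ConcreteCategory.bijective_of_isIso (tilde.toOpen M ⊤)).2 m
  let P : Submodule R M := Submodule.span R ((T.attach.biUnion fun t => (S t).image pre : Finset M) : Set M)
  have hPfin : Module.Finite R P := Module.Finite.iff_fg.2 (Submodule.fg_span (Finset.finite_toSet _))
  let φ : tilde (ModuleCat.of R P) ⟶ tilde M := tilde.map (ModuleCat.ofHom P.subtype)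
  have hmono : Mono φ := by
    have : Mono (ModuleCat.ofHom P.subtype) := (ModuleCat.mono_iff_injective _).2 P.injective_subtype
    exact mono_tilde_map (ModuleCat.ofHom P.subtype)
  have hz : IsZero ((cokernel φ).restrict V.ι) := by
    refine restrict_subsingleton _ fun y hy O hyO s => ?_
    obtain ⟨O₁, hO₁, hyO₁, z, hz⟩ := exists_nhds_lift_of_epi (cokernel.π φ) O s y hyO
    obtain ⟨t, htT, hyt⟩ := hTcov y hy
    obtain ⟨w, hwle, hyw⟩ := (isAffineOpen_top (Spec R)).exists_basicOpen_le
      (V := O₁ ⊓ (Spec R).basicOpen t) ⟨y, hyO₁, hyt⟩ (Opens.mem_top _)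
    let D' := (Spec R).basicOpen w
    obtain ⟨n, m, hm⟩ := exists_pow_smul_eq_res (tilde M) (isAffineOpen_top _) w
      ((tilde M).presheaf.map (homOfLE (hwle.trans inf_le_left)).op z)
    let rng : Submodule Γ(Spec R, D') Γ(tilde M, D') :=
      LinearMap.range (({ toFun := φ.app D', map_add' := map_add _,
                          map_smul' := fun a x => φ.app_smul a x } :
        Γ(tilde (ModuleCat.of R P), D') →ₗ[Γ(Spec R, D')] Γ(tilde M, D')))
    have hgen : ∀ c : Γ(tilde M, (Spec R).basicOpen t),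
        (tilde M).presheaf.map (homOfLE (hwle.trans inf_le_right)).op c ∈ rng := by
      intro c
      have hc := (hS ⟨t, htT⟩).ge (Submodule.mem_top (x := c))
      induction hc using Submodule.span_induction with
      | mem x hx =>
        obtain ⟨a, ha, rfl⟩ := hx
        rw [mres_mres]
        have hmem : pre a ∈ P := Submodule.subset_span
          (Finset.mem_biUnion.2 ⟨⟨t, htT⟩, T.mem_attach _, Finset.mem_image_of_mem pre ha⟩)
        refine ⟨(tilde (ModuleCat.of R P)).presheaf.map (homOfLE (le_top : D' ≤ ⊤)).op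
          ((tilde.toOpen (ModuleCat.of R P) ⊤).hom ⟨pre a, hmem⟩), ?_⟩
        refine (ConcreteCategory.congr_hom (φ.mapPresheaf.naturality (homOfLE (le_top : D' ≤ ⊤)).op) _).trans ?_
        refine congrArg ((tilde M).presheaf.map (homOfLE (le_top : D' ≤ ⊤)).op) ?_
        refine Eq.trans ?_ (hpre a)
        exact congr($(tilde.toOpen_map_app (ModuleCat.ofHom P.subtype) ⊤) ⟨pre a, hmem⟩)
      | zero => rw [map_zero]; exact rng.zero_mem
      | add a b _ _ ha hb => rw [map_add]; exact rng.add_mem ha hb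
      | smul r a _ ha => rw [Scheme.Modules.map_smul]; exact rng.smul_mem _ ha
    have hu : IsUnit ((Spec R).presheaf.map (homOfLE ((Spec R).basicOpen_le w)).op (w ^ n)) := by
      rw [map_pow]
      exact (RingedSpace.isUnit_res_basicOpen _ w).pow _
    have hzmem : (tilde M).presheaf.map (homOfLE (hwle.trans inf_le_left)).op z ∈ rng := by
      rw [← Submodule.smul_mem_iff_of_isUnit _ hu, ← hm,
        ← mres_mres (tilde M) ((Spec R).basicOpen_le t) (hwle.trans inf_le_right) m]
      exact hgen _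
    obtain ⟨x, hx⟩ := hzmem
    refine germ_eq_zero_of_le _ ((hwle.trans inf_le_left).trans hO₁) hyw s ?_
    rw [← mres_mres (cokernel φ) hO₁ (hwle.trans inf_le_left) s, ← hz]
    refine (ConcreteCategory.congr_hom ((cokernel.π φ).mapPresheaf.naturality (homOfLE (hwle.trans inf_le_left)).op) z).symm.trans ?_
    refine (congrArg ((cokernel.π φ).app D') hx.symm).trans ?_
    exact congr($(cokernel.condition φ).app D' x)
  have := epi_restrict_of_isZero_cokernel φ V hz
  have : IsIso ((Scheme.Modules.restrictFunctor V.ι).map φ) := isIso_of_mono_of_epi _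
  exact ⟨ModuleCat.of R P, hPfin, ⟨e ≪≫ (asIso ((Scheme.Modules.restrictFunctor V.ι).map φ)).symm⟩⟩

end Groth.Agent.H10Coh
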