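import Groth.Agent.H10Coh.SerreVanishing2
import Groth.Agent.H10Coh.HigherDirect2
import Groth.Agent.H10Coh.OpenSpec
import Groth.Agent.H11Ample.Restrict

/-!
# Relatively ample modules kill higher direct images
-/

set_option autoImplicit false
set_option linter.style.haveILetI false

noncomputable section

universe u

open CategoryTheory CategoryTheory.Limits AlgebraicGeometry Opposite TopologicalSpace
open Groth.Agent.H11Tilde Groth.Agent.H11Ample

namespace Groth.Agent.H10Coh.Tw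

attribute [local instance 10000] hasSheafifyAb hasWeakSheafifyAb hasExtAb enoughInjAb

variable {X S : Scheme.{u}}

theorem nonempty_restrict_tensor (U : X.Opens) (M : X.Modules) {N : X.Modules} (hN : PicF.IsInvertible N) :
    Nonempty (CohB1.tensorMod (M.restrict U.ι) (N.restrict U.ι) ≅ (CohB1.tensorMod M N).restrict U.ι) := by
  refine nonempty_tensorMod_iso (restrictPairing U M N) fun x => ?_
  obtain ⟨B, e, hxB, he⟩ := exists_gen hN (U.ι x)
  let W : U.toScheme.Opens := U.ι ⁻¹ᵁ B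
  have hW : U.ι ''ᵁ W ≤ B := U.ι.image_preimage_eq_opensRange_inf B ▸ inf_le_right
  have hV' : ∀ {V : U.toScheme.Opens}, V ≤ W → U.ι ''ᵁ V ≤ B := fun hV => (Scheme.Hom.image_mono U.ι hV).trans hW
  let g : Γ(N.restrict U.ι, W) := ofImg U N (W := W) (N.presheaf.map (homOfLE hW).op e)
  have key : ∀ (V : U.toScheme.Opens) (hV : V ≤ W) (m : Γ(M, U.ι ''ᵁ V)),
      (restrictPairing U M N).toFun V (ofImg U M m) ((N.restrict U.ι).presheaf.map (homOfLE hV).op g) =
        ofImg U (CohB1.tensorMod M N) (tm m (N.presheaf.map (homOfLE (hV' hV)).op e)) := fun V hV m => by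
    change ofImg U (CohB1.tensorMod M N) (tm m (toImg U N ((N.restrict U.ι).presheaf.map (homOfLE hV).op g))) = _
    rw [toImg_res, mres_mres]
  refine ⟨W, hxB, g, fun V hV => ⟨(isGen_restrict U he hW).bijective hV, ?_⟩⟩
  refine Eq.mpr (congrArg Function.Bijective (funext fun m => ?_)) (bijective_tm (F := M) he (hV' hV))
  exact key V hV m

theorem nonempty_restrict_tensorPow (U : X.Opens) {L : X.Modules} (hL : PicF.IsInvertible L) :
    ∀ k : ℕ, Nonempty (CohB1.tensorPow (L.restrict U.ι) k ≅ (CohB1.tensorPow L k).restrict U.ι)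
  | 0 => ⟨(Scheme.Modules.restrictUnitIso U.ι).symm⟩
  | k + 1 => by
    obtain ⟨e⟩ := nonempty_restrict_tensorPow U hL k
    obtain ⟨e'⟩ := nonempty_restrict_tensor U (CohB1.tensorPow L k) hL
    exact ⟨PicGrp.tensorModIso e (Iso.refl _) ≪≫ e'⟩

theorem isInvertible_restrict (U : X.Opens) {L : X.Modules} (hL : PicF.IsInvertible L) :
    PicF.IsInvertible (L.restrict U.ι) := isInvertible_of_gen fun x => by
  obtain ⟨B, e, hxB, he⟩ := exists_gen hL (U.ι x)
  exact ⟨U.ι ⁻¹ᵁ B, _, hxB, isGen_restrict U he (U.ι.image_preimage_eq_opensRange_inf B ▸ inf_le_right)⟩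

theorem isZero_of_qcoh_cover (N : S.Modules) [N.IsQuasicoherent] {ι : Type*} (W : ι → S.Opens)
    (hW : ∀ i, IsAffineOpen (W i)) (hcov : ∀ x, ∃ i, x ∈ W i) (h : ∀ i, Subsingleton Γ(N, W i)) :
    IsZero N := by
  rw [IsZero.iff_id_eq_zero]
  refine Scheme.Modules.hom_ext _ _ fun V => ConcreteCategory.hom_ext _ _ fun s => ?_
  change s = (0 : Γ(N, V))
  refine eq_of_locally _ _ fun x hx => ?_
  obtain ⟨i, hi⟩ := hcov x
  obtain ⟨r, hrV, hxr⟩ := (hW i).exists_basicOpen_le (V := V) ⟨x, hx⟩ hi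
  refine ⟨S.basicOpen r, hrV, hxr, ?_⟩
  obtain ⟨n, t, ht⟩ := H29Blow.exists_pow_smul_eq_res N inferInstance (hW i) r (N.presheaf.map (homOfLE hrV).op s)
  have hu : IsUnit (S.presheaf.map (homOfLE (S.basicOpen_le r)).op (r ^ n)) := by
    rw [map_pow]
    exact (S.toRingedSpace.isUnit_res_basicOpen r).pow n
  rw [@Subsingleton.elim _ (h i) t 0, map_zero] at ht
  exact (hu.smul_eq_zero.1 ht.symm).trans (map_zero _).symm

variable (f : X ⟶ S) [IsProper f] [IsNoetherian S]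

/-- Relatively ample modules kill higher cohomology over affine opens after large twists. -/
theorem exists_vanishing_relAmple {L : X.Modules} (hL : PicF.IsInvertible L)
    (ha : ∀ W : S.Opens, IsAffineOpen W → CohB1.IsAmple (L.restrict (f ⁻¹ᵁ W).ι))
    (M : X.Modules) (hM : Coh.IsCoh M) {W : S.Opens} (hW : IsAffineOpen W) :
    ∃ k₀ : ℕ, ∀ k : ℕ, k₀ ≤ k → ∀ p, 0 < p →
      Subsingleton (HnM (CohB1.tensorMod M (CohB1.tensorPow L k)) p (f ⁻¹ᵁ W)) := by
  haveI : IsNoetherianRing Γ(S, W) := IsLocallyNoetherian.component_noetherian ⟨W, hW⟩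
  haveI : IsProper ((f ∣_ W) ≫ hW.isoSpec.hom) := inferInstance
  obtain ⟨k₀, hk₀⟩ := exists_vanishing_ample ((f ∣_ W) ≫ hW.isoSpec.hom) (ha W hW)
    (M.restrict (f ⁻¹ᵁ W).ι) (isCoh_restrict _ M hM)
  refine ⟨k₀, fun k hk p hp => ?_⟩
  obtain ⟨e⟩ := nonempty_restrict_tensor (f ⁻¹ᵁ W) M (isInvertible_tensorPow hL k)
  obtain ⟨e'⟩ := nonempty_restrict_tensorPow (f ⁻¹ᵁ W) hL k
  have h := subsingleton_of_iso (PicGrp.tensorModIso (Iso.refl (M.restrict (f ⁻¹ᵁ W).ι)) e' ≪≫ e) (hk₀ k hk p hp)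
  exact subsingleton_HnM_image (f ⁻¹ᵁ W).ι (CohB1.tensorMod M (CohB1.tensorPow L k)) p ⊤ (f ⁻¹ᵁ W)
    (Scheme.Opens.ι_image_top _) h

theorem exists_isZero_rpush {L : X.Modules} (hL : PicF.IsInvertible L)
    (ha : ∀ W : S.Opens, IsAffineOpen W → CohB1.IsAmple (L.restrict (f ⁻¹ᵁ W).ι))
    (M : X.Modules) (hM : Coh.IsCoh M) :
    ∃ n₀ : ℕ, ∀ n : ℕ, n₀ ≤ n → ∀ p : ℕ, 0 < p →
      IsZero ((Coh.RpushAb f p).obj (Coh.toAb (CohB1.tensorMod M (CohB1.tensorPow L n)))) := by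
  classical
  have hex : ∀ x : S, ∃ V : S.Opens, IsAffineOpen V ∧ x ∈ V := fun x => exists_isAffineOpen_mem x
  choose V hV hxV using hex
  obtain ⟨T, hT⟩ := CompactSpace.elim_nhds_subcover (fun x => (V x : Set S))
    fun x => (V x).isOpen.mem_nhds (hxV x)
  choose K hK using fun x => exists_vanishing_relAmple f hL ha M hM (hV x)
  refine ⟨∑ x ∈ T, K x, fun n hn p hp => ?_⟩
  obtain ⟨m, rfl⟩ : ∃ m, p = m + 1 := ⟨p - 1, by omega⟩
  let N := CohB1.tensorMod M (CohB1.tensorPow L n)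
  haveI : N.IsQuasicoherent := isQCoh_tensor hM.1 (isInvertible_tensorPow hL n)
  haveI : ((MRes.inj N).Z 0).IsQuasicoherent := ‹N.IsQuasicoherent›
  haveI := isQuasicoherent_hdir f (MRes.inj N) m
  have hz : IsZero (hdir f (MRes.inj N) m) := by
    refine isZero_of_qcoh_cover _ (fun x : {x // x ∈ T} => V x.1) (fun x => hV x.1) (fun y => ?_) fun x => ?_
    · obtain ⟨x, hx, hy⟩ := Set.mem_iUnion₂.1 (hT.ge (Set.mem_univ y))
      exact ⟨⟨x, hx⟩, hy⟩
    · have h := hK x.1 n ((Finset.single_le_sum (fun i _ => Nat.zero_le (K i)) x.2).trans hn) (m + 1) hp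
      have e := (hdirEquiv f (MRes.inj N) m (hV x.1)).symm.toEquiv
      exact @Equiv.subsingleton _ _ e h
  exact ((shF S).map_isZero hz).of_iso (nonempty_rpushAb_iso_hdir f N m).some.symm

end Groth.Agent.H10Coh.Tw
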