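import Groth.Agent.H10Coh.ProjFormulaFLF
import Groth.Agent.H10Coh.Affine
import Groth.Agent.H10Coh.AmpleVanishing
import Groth.Prelude.Def_CohPull

/-!
# The edge map `H^p(Y, f_* G) → H^p(X, G)` for acyclic `G`
-/

set_option autoImplicit false
set_option linter.style.haveILetI false

noncomputable section

universe u

open CategoryTheory CategoryTheory.Limits AlgebraicGeometry Opposite TopologicalSpace Abelian

namespace Groth.Agent.H10Coh

attribute [local instance 10000] hasSheafifyAb hasWeakSheafifyAb hasExtAb enoughInjAb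

section Top

variable {X Y : TopCat.{u}} (f : X ⟶ Y)

/-- The edge map for abelian sheaves. -/
def edgeAb (G : CohTop.Ab X) (p : ℕ) : Sheaf.H.{u} ((CohTop.push f).obj G) p →+ Sheaf.H.{u} G p :=
  (Sheaf.H.map ((CohPull.invPushAdj f).counit.app G) p).comp
    (extMap (CohPull.inv f) (CohPull.oneTo f) ((CohTop.push f).obj G) p)

theorem edgeAb_apply (G : CohTop.Ab X) (p : ℕ) (x : Sheaf.H.{u} ((CohTop.push f).obj G) p) :
    edgeAb f G p x = (extMap (CohPull.inv f) (CohPull.oneTo f) ((CohTop.push f).obj G) p x).comp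
      (Ext.mk₀ ((CohPull.invPushAdj f).counit.app G)) (add_zero p) := rfl

theorem edgeAb_naturality {G G' : CohTop.Ab X} (φ : G ⟶ G') (p : ℕ)
    (x : Sheaf.H.{u} ((CohTop.push f).obj G) p) :
    edgeAb f G' p (x.comp (Ext.mk₀ ((CohTop.push f).map φ)) (add_zero p)) =
      (edgeAb f G p x).comp (Ext.mk₀ φ) (add_zero p) := by
  rw [edgeAb_apply, edgeAb_apply, extMap_naturality, Ext.comp_assoc_of_second_deg_zero,
    Ext.comp_assoc_of_second_deg_zero, Ext.mk₀_comp_mk₀, Ext.mk₀_comp_mk₀]
  exact congrArg (fun k => (extMap _ _ _ p x).comp (Ext.mk₀ k) (add_zero p))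
    ((CohPull.invPushAdj f).counit.naturality φ)

theorem edgeAb_extClass {S : ShortComplex (CohTop.Ab X)} (hS : S.ShortExact)
    (hS' : (S.map (CohTop.push f)).ShortExact) (p : ℕ) (x : Sheaf.H.{u} ((CohTop.push f).obj S.X₃) p) :
    edgeAb f S.X₁ (p + 1) (x.comp hS'.extClass rfl) = (edgeAb f S.X₃ p x).comp hS.extClass rfl := by
  rw [edgeAb_apply, edgeAb_apply]
  let φ : (S.map (CohTop.push f)).map (CohPull.inv f) ⟶ S :=
    { τ₁ := (CohPull.invPushAdj f).counit.app S.X₁
      τ₂ := (CohPull.invPushAdj f).counit.app S.X₂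
      τ₃ := (CohPull.invPushAdj f).counit.app S.X₃
      comm₁₂ := ((CohPull.invPushAdj f).counit.naturality S.f).symm
      comm₂₃ := ((CohPull.invPushAdj f).counit.naturality S.g).symm }
  have h := ShortComplex.ShortExact.extClass_naturality (hS'.map_of_exact (CohPull.inv f)) hS φ
  refine Eq.trans (congrArg (fun z => Ext.comp z (Ext.mk₀ φ.τ₁) (add_zero (p + 1)))
    (extMap_extClass (CohPull.inv f) (CohPull.oneTo f) hS' p x)) ?_
  refine (Ext.comp_assoc _ _ _ rfl (add_zero 1) (show p + 1 + 0 = p + 1 by omega)).trans ?_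
  refine (congrArg (fun z => Ext.comp (extMap (CohPull.inv f) (CohPull.oneTo f) (S.map (CohTop.push f)).X₃ p x) z
    (rfl : p + 1 = p + 1)) h).trans ?_
  exact (Ext.comp_assoc _ _ _ (add_zero p) (zero_add 1) (show p + 0 + 1 = p + 1 by omega)).symm

theorem equiv₀_edgeAb (G : CohTop.Ab X) (x : Sheaf.H.{u} ((CohTop.push f).obj G) 0) :
    Sheaf.H.equiv₀ G isTerminalTop (edgeAb f G 0 x) = Sheaf.H.equiv₀ ((CohTop.push f).obj G) isTerminalTop x := by
  refine (Sheaf.H.equiv₀_naturality (isTerminalTop : IsTerminal (⊤ : Opens X)) _ _).symm.trans ?_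
  refine Eq.trans (congrArg _ (CohPull.equiv₀_pullAb f ((CohTop.push f).obj G) x)) ?_
  exact congr($(congrArg (fun k : (CohTop.push f).obj G ⟶ (CohTop.push f).obj G => k.hom.app (op ⊤))
    ((CohPull.invPushAdj f).right_triangle_components G)) (Sheaf.H.equiv₀ ((CohTop.push f).obj G) isTerminalTop x))

theorem flasque_push' {G : CohTop.Ab X} (hG : Flasque G) : Flasque ((CohTop.push f).obj G) :=
  fun _ _ h => hG ((Opens.map f).map (homOfLE h)).le

theorem subsingleton_H_of_flasque {F : CohTop.Ab X} (hF : Flasque F) (n : ℕ) :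
    Subsingleton (Sheaf.H.{u} F (n + 1)) :=
  @Equiv.subsingleton _ _ (topEquiv F (n + 1)).toEquiv (subsingleton_of_flasque hF n ⊤)

theorem bijective_edgeAb (P : CohTop.Ab X → Prop)
    (h : ∀ G, P G → ∃ S : ShortComplex (CohTop.Ab X), S.ShortExact ∧ S.X₁ = G ∧ Flasque S.X₂ ∧ P S.X₃ ∧
      (S.map (CohTop.push f)).ShortExact)
    (p : ℕ) (G : CohTop.Ab X) (hG : P G) : Function.Bijective (edgeAb f G p) := by
  have h0 : ∀ G, Function.Bijective (edgeAb f G 0) := fun G => by
    have e : ⇑(edgeAb f G 0) = (Sheaf.H.equiv₀ G isTerminalTop).symm ∘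
        Sheaf.H.equiv₀ ((CohTop.push f).obj G) isTerminalTop := funext fun x =>
      (AddEquiv.eq_symm_apply _).2 (equiv₀_edgeAb f G x)
    rw [e]
    exact (Sheaf.H.equiv₀ G isTerminalTop).symm.bijective.comp (AddEquiv.bijective _)
  induction p generalizing G with
  | zero => exact h0 G
  | succ n ih =>
    obtain ⟨S, hS, rfl, hfl, hP, hS'⟩ := h G hG
    haveI := subsingleton_H_of_flasque hfl n
    haveI := subsingleton_H_of_flasque (flasque_push' f hfl) n
    haveI : Subsingleton (Ext.{u} (CohTop.const Y (ULift.{u} ℤ)) (S.map (CohTop.push f)).X₂ (n + 1)) :=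
      subsingleton_H_of_flasque (flasque_push' f hfl) n
    have b₂ : Function.Bijective (edgeAb f S.X₂ n) := by
      cases n with
      | zero => exact h0 _
      | succ k =>
        haveI := subsingleton_H_of_flasque hfl k
        haveI := subsingleton_H_of_flasque (flasque_push' f hfl) k
        exact ⟨fun a b _ => Subsingleton.elim a b, fun b => ⟨0, Subsingleton.elim _ _⟩⟩
    constructor
    · rw [injective_iff_map_eq_zero]
      intro x hx
      obtain ⟨q, rfl⟩ := exists_extClass_lift hS' x
      have hx' : (edgeAb f S.X₃ n q).comp hS.extClass rfl = 0 := (edgeAb_extClass f hS hS' n q).symm.trans hx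
      obtain ⟨j, hj⟩ := Ext.covariant_sequence_exact₃ _ hS _ rfl hx'
      obtain ⟨j₀, rfl⟩ := b₂.2 j
      have hq : q = Ext.comp j₀ (Ext.mk₀ ((CohTop.push f).map S.g)) (add_zero n) := by
        refine (ih S.X₃ hP).1 (Eq.trans ?_ (edgeAb_naturality f S.g n j₀).symm)
        exact hj.symm
      rw [hq]
      refine (Ext.comp_assoc_of_second_deg_zero _ _ _ _).trans ?_
      exact (congrArg (fun z => Ext.comp j₀ z (rfl : n + 1 = n + 1)) hS'.comp_extClass).trans (Ext.comp_zero j₀ _ _ _ rfl)
    · intro y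
      obtain ⟨q, rfl⟩ := exists_extClass_lift hS y
      obtain ⟨q₀, rfl⟩ := (ih S.X₃ hP).2 q
      exact ⟨Ext.comp q₀ hS'.extClass rfl, edgeAb_extClass f hS hS' n q₀⟩

end Top

variable {X Y : Scheme.{u}} (f : X ⟶ Y)

theorem theta_counit (G : X.Modules) :
    CohPull.theta f ((Scheme.Modules.pushforward f).obj G) ≫
        (shF X).map ((Scheme.Modules.pullbackPushforwardAdjunction f).counit.app G) =
      (CohPull.invPushAdj f.base).counit.app (sh G) := by
  apply ((CohPull.invPushAdj f.base).homEquiv _ _).injective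
  rw [Adjunction.homEquiv_naturality_right, CohPull.theta, Equiv.apply_symm_apply]
  refine ((shF Y).map_comp ((Scheme.Modules.pullbackPushforwardAdjunction f).unit.app
    ((Scheme.Modules.pushforward f).obj G))
    ((Scheme.Modules.pushforward f).map ((Scheme.Modules.pullbackPushforwardAdjunction f).counit.app G))).symm.trans ?_
  refine Eq.trans (congrArg (shF Y).map
    ((Scheme.Modules.pullbackPushforwardAdjunction f).right_triangle_components G)) ?_
  refine ((shF Y).map_id _).trans ?_
  rw [Adjunction.homEquiv_unit]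
  exact ((CohPull.invPushAdj f.base).right_triangle_components (sh G)).symm

theorem pushEdge_eq (G : X.Modules) (p : ℕ) (x : Coh.HH Y ((Scheme.Modules.pushforward f).obj G) p) :
    CohPull.pushEdge f G p x = edgeAb f.base (sh G) p x := by
  rw [edgeAb_apply]
  show ((Ext.comp (extMap (CohPull.inv f.base) (CohPull.oneTo f.base) _ p x)
    (Ext.mk₀ (CohPull.theta f ((Scheme.Modules.pushforward f).obj G))) (add_zero p))).comp
      (Ext.mk₀ ((shF X).map ((Scheme.Modules.pullbackPushforwardAdjunction f).counit.app G))) (add_zero p) = _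
  rw [Ext.comp_assoc_of_second_deg_zero, Ext.mk₀_comp_mk₀, theta_counit]
  rfl

theorem shortExact_push {S : ShortComplex X.Modules} (hS : S.ShortExact)
    (hepi : Epi ((Scheme.Modules.pushforward f).map S.g)) :
    ((S.map (shF X)).map (CohTop.push f.base)).ShortExact := by
  haveI : (Scheme.Modules.pushforward f).IsRightAdjoint :=
    (Scheme.Modules.pullbackPushforwardAdjunction f).isRightAdjoint
  haveI : PreservesFiniteLimits (Scheme.Modules.pushforward f) := inferInstance
  have h1 : (S.map (Scheme.Modules.pushforward f)).ShortExact :=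
    { exact := ((S.map (Scheme.Modules.pushforward f)).exact_of_f_is_kernel
        (KernelFork.mapIsLimit _ hS.fIsKernel (Scheme.Modules.pushforward f)))
      mono_f := by haveI := hS.mono_f; exact (Scheme.Modules.pushforward f).map_mono S.f
      epi_g := hepi }
  exact shortExact_sh h1

theorem bijective_pushEdge [HasInjectiveResolutions X.Modules] (G : X.Modules)
    (hG : H16Derived.AcyclicLES.IsAcyclic (Scheme.Modules.pushforward f) G) (p : ℕ) :
    Function.Bijective (CohPull.pushEdge f G p) := by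
  haveI := enoughInjMod X
  haveI : (Scheme.Modules.pushforward f).IsRightAdjoint :=
    (Scheme.Modules.pullbackPushforwardAdjunction f).isRightAdjoint
  have e : ⇑(CohPull.pushEdge f G p) = ⇑(edgeAb f.base (sh G) p) := funext (pushEdge_eq f G p)
  rw [e]
  refine bijective_edgeAb f.base
    (fun F => ∃ M : X.Modules, F = sh M ∧ H16Derived.AcyclicLES.IsAcyclic (Scheme.Modules.pushforward f) M)
    (fun F hF => ?_) p (sh G) ⟨G, rfl, hG⟩
  obtain ⟨M, rfl, hM⟩ := hF
  have hS := injSeq_shortExact M
  have hI : Flasque (sh (injSeq M).X₂) := @flasque_sh_of_injective _ _ (injSeq_injective M)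
  have hIac := PF.isAcyclic_push_of_flasque f hI
  have hQ : H16Derived.AcyclicLES.IsAcyclic (Scheme.Modules.pushforward f) (injSeq M).X₃ := fun i hi => by
    obtain ⟨m, rfl⟩ := Nat.exists_eq_succ_of_ne_zero hi.ne'
    exact (hM (m + 2) (Nat.succ_pos _)).of_iso (nonempty_rightDerived_shift (F := Scheme.Modules.pushforward f) hS hIac m).some.symm
  have hepi : Epi ((Scheme.Modules.pushforward f).map (injSeq M).g) :=
    Preadditive.epi_of_isZero_cokernel _
      ((hM 1 one_pos).of_iso (nonempty_rightDerived_one (F := Scheme.Modules.pushforward f) hS hIac).some.symm)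
  haveI : (shF X).PreservesZeroMorphisms := @Functor.preservesZeroMorphisms_of_additive _ _ _ _ _ _ _ (inferInstanceAs (SheafOfModules.toSheaf X.ringCatSheaf).Additive)
  exact ⟨(injSeq M).map (shF X), shortExact_sh hS, rfl, hI, ⟨_, rfl, hQ⟩, shortExact_push f hS hepi⟩

theorem isAcyclic_push_of_isAffineHom [HasInjectiveResolutions X.Modules] [IsAffineHom f]
    (M : X.Modules) [M.IsQuasicoherent] :
    H16Derived.AcyclicLES.IsAcyclic (Scheme.Modules.pushforward f) M := fun i hi => by
  obtain ⟨m, rfl⟩ := Nat.exists_eq_succ_of_ne_zero hi.ne'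
  haveI : ((MRes.inj M).Z 0).IsQuasicoherent := ‹M.IsQuasicoherent›
  haveI := isQuasicoherent_hdir f (MRes.inj M) m
  refine IsZero.of_iso ?_ (nonempty_rpush_iso_hdir f M m).some
  refine Tw.isZero_of_qcoh_cover _ (fun W : Y.affineOpens => W.1) (fun W => W.2) (fun y => ?_) fun W => ?_
  · obtain ⟨W, hW, hy⟩ := H11Ample.exists_isAffineOpen_mem y
    exact ⟨⟨W, hW⟩, hy⟩
  · exact @Equiv.subsingleton _ _ (hdirEquiv f (MRes.inj M) m W.2).symm.toEquiv
      (subsingleton_HnM_of_isAffineOpen M (W.2.preimage f) m)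

end Groth.Agent.H10Coh
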