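import Groth.Agent.H10Coh.CohLocal

/-!
# Bounded cohomological dimension for quasi-coherent modules
-/

universe u

open CategoryTheory CategoryTheory.Limits AlgebraicGeometry Opposite TopologicalSpace

namespace Groth.Agent.H10Coh

attribute [local instance 10000] hasSheafifyAb hasWeakSheafifyAb hasExtAb enoughInjAb

variable {X : Scheme.{u}}

theorem subsingleton_HnM_bot (M : X.Modules) [M.IsQuasicoherent] (p : ℕ) :
    Subsingleton (HnM M p (⊥ : X.Opens)) := by
  cases p with
  | zero =>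
    have : Subsingleton Γ(M, (⊥ : X.Opens)) := subsingleton_of_forall_eq 0 fun a =>
      TopCat.Sheaf.eq_of_locally_eq' (sheafOf M) (fun i : PEmpty.{u + 1} => i.elim) ⊥
        (fun i => i.elim) bot_le _ _ fun i => i.elim
    exact @Equiv.subsingleton _ _ (H0Equiv (sh M) ⊥).toEquiv this
  | succ n => exact subsingleton_HnM_of_isAffineOpen M (isAffineOpen_bot X) n

/-- Union of `t` affines with affine pairwise intersections: vanishing in degrees `≥ t`. -/
theorem subsingleton_of_affine_cover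
    (hd : ∀ V W : X.Opens, IsAffineOpen V → IsAffineOpen W → IsAffineOpen (V ⊓ W))
    (M : X.Modules) [M.IsQuasicoherent] (t : ℕ) :
    ∀ (U : Fin t → X.Opens), (∀ i, IsAffineOpen (U i)) → ∀ n, t ≤ n →
      Subsingleton (HnM M n (⨆ i, U i)) := by
  induction t with
  | zero =>
    intro U _ n _
    rw [iSup_of_empty]
    exact subsingleton_HnM_bot M n
  | succ t ih =>
    intro U hU n hn
    obtain ⟨m, rfl⟩ := Nat.exists_eq_add_of_le (show 1 ≤ n by omega)
    have hm : t ≤ m := by omega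
    have hsup : ⨆ i, U i = (⨆ i, U (Fin.castSucc i)) ⊔ U (Fin.last t) := by
      refine le_antisymm (iSup_le fun i => ?_) (sup_le (iSup_le fun i => le_iSup U _) (le_iSup U _))
      exact Fin.lastCases le_sup_right (fun i => (le_iSup (fun i => U (Fin.castSucc i)) i).trans le_sup_left) i
    rw [hsup, add_comm 1 m]
    refine subsingleton_sup (MRes.inj M) m _ _ (ih _ (fun i => hU _) _ (by omega))
      (subsingleton_HnM_of_isAffineOpen M (hU _) m) ?_
    rw [iSup_inf_eq]
    exact ih _ (fun i => hd _ _ (hU _) (hU _)) m hm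

theorem exists_bound_basicOpen [QuasiSeparatedSpace X] (W : X.Opens) (hW : IsCompact (W : Set X)) :
    ∃ d : ℕ, ∀ (M : X.Modules), M.IsQuasicoherent → ∀ (r : Γ(X, ⊤)) (p : ℕ), d ≤ p →
      Subsingleton (HnM M p (W ⊓ X.basicOpen r)) := by
  refine qcqs_induction (fun W => ∃ d : ℕ, ∀ (M : X.Modules), M.IsQuasicoherent →
    ∀ (r : Γ(X, ⊤)) (p : ℕ), d ≤ p → Subsingleton (HnM M p (W ⊓ X.basicOpen r)))
    (fun U hU => ⟨1, fun M hM r p hp => ?_⟩) (fun U V _ _ hu hv huv => ?_) W hW
  · obtain ⟨n, rfl⟩ := Nat.exists_eq_succ_of_ne_zero (show p ≠ 0 by omega)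
    have h : IsAffineOpen (U ⊓ X.basicOpen r) := by
      rw [← basicOpen_gres]; exact hU.basicOpen _
    exact @subsingleton_HnM_of_isAffineOpen _ M hM _ h n
  · obtain ⟨a, ha⟩ := hu
    obtain ⟨b, hb⟩ := hv
    obtain ⟨c, hc⟩ := huv
    refine ⟨a + b + c + 1, fun M hM r p hp => ?_⟩
    obtain ⟨n, rfl⟩ := Nat.exists_eq_succ_of_ne_zero (show p ≠ 0 by omega)
    rw [inf_sup_right]
    refine subsingleton_sup (MRes.inj M) n _ _ (ha M hM r _ (by omega)) (hb M hM r _ (by omega)) ?_
    rw [← inf_inf_distrib_right]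
    exact hc M hM r n (by omega)

/-- A compact quasi-separated scheme has bounded cohomological dimension. -/
theorem exists_bound [CompactSpace X] [QuasiSeparatedSpace X] :
    ∃ d : ℕ, ∀ (M : X.Modules), M.IsQuasicoherent → ∀ p : ℕ, d ≤ p →
      Subsingleton (Coh.HH X M p) := by
  obtain ⟨d, hd⟩ := exists_bound_basicOpen (⊤ : X.Opens) (by simpa using isCompact_univ)
  refine ⟨d, fun M hM p hp => ?_⟩
  have h := hd M hM 1 p hp
  rw [X.basicOpen_of_isUnit isUnit_one, inf_idem] at h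
  exact (HHEquiv M p).toEquiv.subsingleton

/-- The abelian higher direct images of a quasi-coherent module vanish in large degrees. -/
theorem exists_rpush_bound {S : Scheme.{u}} (f : X ⟶ S) [QuasiCompact f] [QuasiSeparated f]
    [CompactSpace S] :
    ∃ d : ℕ, ∀ (M : X.Modules), M.IsQuasicoherent → ∀ p : ℕ, d ≤ p →
      IsZero ((Coh.RpushAb f p).obj (Coh.toAb M)) := by
  obtain ⟨k, U, hU, -, hcov⟩ := exists_finite_affine_cover (W := (⊤ : S.Opens))
    (by simpa using isCompact_univ)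
  have hloc : ∀ j, ∃ d : ℕ, ∀ (M : X.Modules), M.IsQuasicoherent → ∀ (g : Γ(S, U j)) (p : ℕ), d ≤ p →
      Subsingleton (HnM M p (f ⁻¹ᵁ S.basicOpen g)) := by
    intro j
    have : CompactSpace (f ⁻¹ᵁ U j).toScheme :=
      isCompact_iff_compactSpace.1 (QuasiCompact.isCompact_preimage (f := f) _ (U j).2 (hU j).isCompact)
    have : QuasiSeparatedSpace (f ⁻¹ᵁ U j).toScheme := by
      have : QuasiSeparatedSpace (U j).toScheme := by
        haveI : IsAffine (U j).toScheme := hU j
        infer_instance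
      exact quasiSeparatedSpace_of_quasiSeparated (f ∣_ U j)
    obtain ⟨d, hd⟩ := exists_bound_basicOpen (X := (f ⁻¹ᵁ U j).toScheme) ⊤ (by simpa using isCompact_univ)
    refine ⟨d, fun M hM g p hp => ?_⟩
    have h := hd (M.restrict (f ⁻¹ᵁ U j).ι)
      (@Scheme.Modules.isQuasicoherent_restrictFunctor _ _ _ _ M hM)
      ((f ⁻¹ᵁ U j).topIso.inv (f.app (U j) g)) p hp
    refine subsingleton_HnM_image (f ⁻¹ᵁ U j).ι M p _ _ ?_ h
    rw [top_inf_eq, Scheme.Opens.ι_image_basicOpen_topIso_inv, Scheme.preimage_basicOpen]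
  choose d hd using hloc
  refine ⟨Finset.univ.sup d + 1, fun M hM p hp => ?_⟩
  obtain ⟨n, rfl⟩ := Nat.exists_eq_succ_of_ne_zero (show p ≠ 0 by omega)
  refine isZero_rpush_of_vanishing f.base (Coh.toAb M) n
    {W | ∃ (j : Fin k) (g : Γ(S, U j)), W = S.basicOpen g} ?_ ?_
  · rw [Opens.isBasis_iff_nbhd]
    intro O x hx
    obtain ⟨j, hj⟩ := Opens.mem_iSup.1 (hcov (Opens.mem_top x))
    obtain ⟨g, hg, hxg⟩ := (hU j).exists_basicOpen_le ⟨x, hx⟩ hj
    exact ⟨_, ⟨j, g, rfl⟩, hxg, hg⟩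
  · rintro W ⟨j, g, rfl⟩
    exact hd j M hM g (n + 1) ((Finset.le_sup (Finset.mem_univ j)).trans (by omega))

end Groth.Agent.H10Coh
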