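import Groth.Agent.H10Coh.PushFinite
import Groth.Agent.H10Coh.OpenSpec
import Groth.Agent.H27Weil.Geometry
import Groth.Agent.S0025
import Groth.Agent.S0027

/-!
# Finiteness of the coherent cohomology of proper schemes over Noetherian rings
-/

universe u

open CategoryTheory CategoryTheory.Limits AlgebraicGeometry Opposite TopologicalSpace

namespace Groth.Agent.H10Coh

attribute [local instance 10000] hasSheafifyAb hasWeakSheafifyAb hasExtAb enoughInjAb
attribute [local instance] enoughInjMod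

variable {X : Scheme.{u}} {A : Type u} [CommRing A]

theorem mcls_zero_injective {X : Scheme.{u}} (R : MRes X) (U : X.Opens) : Function.Injective (mcls R 0 U) :=
  (H0Equiv (sh (R.Z 0)) U).symm.injective

theorem isIso_of_comp_map {C D : Type*} [Category C] [Category D] (F : Cᵒᵖ ⥤ D) {x y : C} (e : y = x) {a : D}
    (f : a ⟶ F.obj (op x)) (h : IsIso (f ≫ F.map (eqToHom e).op)) : IsIso f := by
  subst e
  simpa using h

theorem isAffineHom_comp' {X Y Z : Scheme.{u}} (f : X ⟶ Y) (g : Y ⟶ Z) (_ : IsAffineHom f) (_ : IsAffineHom g) :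
    IsAffineHom (f ≫ g) := inferInstance

theorem isCoh_structureModule' (X : Scheme.{u}) : Coh.IsCoh (Coh.structureModule X) :=
  (isCoh_iff_finite_sections _).2 ⟨isQuasicoherent_unit, fun U _ => (Module.Finite.self Γ(X, U) :)⟩

theorem isZero_of_sections (M : X.Modules) (h : ∀ U : X.Opens, Subsingleton Γ(M, U)) : IsZero M := by
  rw [IsZero.iff_id_eq_zero]
  exact Scheme.Modules.hom_ext _ _ fun U => ConcreteCategory.hom_ext _ _ fun x =>
    @Subsingleton.elim _ (h U) _ _

theorem finH_of_isZero [IsNoetherianRing A] (φ : A →+* Γ(X, ⊤)) {M : X.Modules} (h : IsZero M) (n : ℕ)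
    (U : X.Opens) : FinH φ M n U :=
  finH_of_sum_eq_id φ (ι := Empty) (fun e => e.elim) (fun e => e.elim) (fun e => e.elim)
    (h.eq_of_src _ _) (fun e => e.elim)

/-- Sections vanish on the affines inside some nonempty open. -/
def Small (F : X.Modules) : Prop :=
  ∃ U : X.Opens, (U : Set X).Nonempty ∧ ∀ W : X.Opens, W ≤ U → IsAffineOpen W → Subsingleton Γ(F, W)

theorem Small.of_mono {F G : X.Modules} (a : F ⟶ G) [Mono a] (h : Small G) : Small F := by
  obtain ⟨U, hU, hW⟩ := h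
  refine ⟨U, hU, fun W hWU hWa => ?_⟩
  haveI := hW W hWU hWa
  exact (injective_app_of_mono' a W).subsingleton

theorem Small.of_epi {F G : X.Modules} (a : F ⟶ G) [Epi a] [F.IsQuasicoherent] [G.IsQuasicoherent]
    (h : Small F) : Small G := by
  obtain ⟨U, hU, hW⟩ := h
  refine ⟨U, hU, fun W hWU hWa => ?_⟩
  haveI := hW W hWU hWa
  exact (surjective_app_of_epi a hWa).subsingleton

theorem isZero_of_small [IsIntegral X] {I : X.Modules} (ι : I ⟶ Coh.structureModule X) [Mono ι]
    (h : Small I) : IsZero I := by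
  obtain ⟨U, hU, hW⟩ := h
  refine isZero_of_sections I fun V => subsingleton_of_forall_eq 0 fun t => ?_
  refine injective_app_of_mono' ι V ((?_ : ι.app V t = 0).trans (map_zero (ι.app V).hom).symm)
  rcases isEmpty_or_nonempty (V : Set X) with he | ⟨x, hx⟩
  · exact TopCat.Sheaf.eq_of_locally_eq' (sheafOf (Coh.structureModule X))
      (fun i : PEmpty.{u + 1} => i.elim) V (fun i => i.elim) (fun x hx => (he.false ⟨x, hx⟩).elim) _ _
      fun i => i.elim
  obtain ⟨y, hy⟩ := nonempty_preirreducible_inter V.2 U.2 ⟨x, hx⟩ hU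
  obtain ⟨W, hWa, hyW, hWle⟩ := Opens.isBasis_iff_nbhd.1 X.isBasis_affineOpens (show y ∈ V ⊓ U from hy)
  haveI : Nonempty W := ⟨⟨y, hyW⟩⟩
  haveI := hW W (hWle.trans inf_le_right) hWa
  have h0 : X.presheaf.map (homOfLE (hWle.trans inf_le_left)).op (ι.app V t) = 0 := by
    refine (app_rs ι (hWle.trans inf_le_left) t).symm.trans ?_
    rw [Subsingleton.elim (rs I (hWle.trans inf_le_left) t) 0]
    exact map_zero _
  exact map_injective_of_isIntegral X (homOfLE (hWle.trans inf_le_left)) (h0.trans (map_zero _).symm)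

theorem finH_push_closed {Z : Scheme.{u}} (i : Z ⟶ X) [IsClosedImmersion i] (q : X ⟶ Spec (CommRingCat.of A))
    (I : Z.Modules) [I.IsQuasicoherent] (p : ℕ) (h : FinH (toΓ (i ≫ q)) I p ⊤) :
    FinH (toΓ q) ((Coh.push i).obj I) p ⊤ := by
  rw [toΓ_comp] at h
  exact (finH_push_iff i I (toΓ q) p ⊤).2 h

variable [IsNoetherianRing A]

/-- The induction hypothesis: ideals of integral proper closed subschemes have finite cohomology. -/
def SubFinite (q : X ⟶ Spec (CommRingCat.of A)) : Prop :=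
  ∀ (Z : Scheme.{u}) (i : Z ⟶ X), IsClosedImmersion i → IsIntegral Z → Set.range i ≠ Set.univ →
    ∀ (I : Z.Modules) (ι : I ⟶ Coh.structureModule Z), Mono ι → Coh.IsQCoh I →
      ∀ p, FinH (toΓ (i ≫ q)) I p ⊤

theorem finH_small [IsIntegral X] [IsNoetherian X] (q : X ⟶ Spec (CommRingCat.of A)) (H : SubFinite q)
    (F : X.Modules) (hF : Coh.IsCoh F) (hs : Small F) (p : ℕ) : FinH (toΓ q) F p ⊤ := by
  have key := S0027.result X (fun F => Small F → ∀ p, FinH (toΓ q) F p ⊤)
    (fun M N ⟨e⟩ hM hN p => finH_of_iso _ e (hM (Small.of_mono e.hom hN) p))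
    (fun S hS h₁ h₂ h₃ p₁ p₃ hs p => by
      have := hS.mono_f
      have := hS.epi_g
      have : S.X₂.IsQuasicoherent := h₂.1
      have : S.X₃.IsQuasicoherent := h₃.1
      exact finH_X₂ _ hS (p₁ (Small.of_mono S.f hs) p) (p₃ (Small.of_epi S.g hs) p))
    (fun Z i hi hZ I ι hι hI hs p => by
      haveI := hi
      haveI := hZ
      haveI : I.IsQuasicoherent := hI
      by_cases hr : Set.range i = Set.univ
      · haveI : Surjective i := ⟨Set.range_eq_univ.1 hr⟩
        haveI : IsIso i := isIso_of_isClosedImmersion_of_surjective i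
        haveI := hι
        refine finH_of_isZero _ ((Coh.push i).map_isZero (isZero_of_small ι ?_)) p ⊤
        obtain ⟨U, hU, hW⟩ := hs
        refine ⟨i ⁻¹ᵁ U, ?_, fun W hWU hWa => ?_⟩
        · obtain ⟨y, hy⟩ := hU
          obtain ⟨x, rfl⟩ := Set.range_eq_univ.1 hr y
          exact ⟨x, hy⟩
        · have := hW (i ''ᵁ W) ((Scheme.Hom.image_mono i hWU).trans (i.image_preimage_le U))
            (hWa.image_of_isOpenImmersion i)
          rwa [show Γ((Coh.push i).obj I, i ''ᵁ W) = Γ(I, i ⁻¹ᵁ (i ''ᵁ W)) from rfl,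
            Scheme.Hom.preimage_image_eq] at this
      · exact finH_push_closed i q I p (H Z i hi hZ hr I ι hι hI p))
    F hF
  exact key hs p

theorem isAffineHom_ι_of_isAffineOpen [X.IsSeparated] {W : X.Opens} (hW : IsAffineOpen W) :
    IsAffineHom W.ι :=
  isAffineHom_of_forall_exists_isAffineOpen W.ι fun x => by
    obtain ⟨V, hV, hxV, -⟩ := Opens.isBasis_iff_nbhd.1 X.isBasis_affineOpens (show x ∈ (⊤ : X.Opens) from trivial)
    refine ⟨V, hxV, hV, (Scheme.Hom.isAffineOpen_iff_of_isOpenImmersion W.ι).1 ?_⟩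
    rw [Scheme.Hom.image_preimage_eq_opensRange_inf, Scheme.Opens.opensRange_ι]
    exact hW.inf hV

omit [IsNoetherianRing A] in
theorem isAffineOpen_preimage_of_isIso {X' : Scheme.{u}} (π : X' ⟶ X) (U : X.Opens) [IsIso (π ∣_ U)]
    (W : X.Opens) (hWU : W ≤ U) (hW : IsAffineOpen W) : IsAffineOpen (π ⁻¹ᵁ W) ∧ IsIso (π.app W) := by
  have e : U.ι ''ᵁ (U.ι ⁻¹ᵁ W) = W := by
    rw [Scheme.Hom.image_preimage_eq_opensRange_inf, Scheme.Opens.opensRange_ι, inf_eq_right.2 hWU]
  refine ⟨?_, ?_⟩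
  · have hV : IsAffineOpen (U.ι ⁻¹ᵁ W) := (Scheme.Hom.isAffineOpen_iff_of_isOpenImmersion U.ι).1 (e.symm ▸ hW)
    have h := (hV.preimage (π ∣_ U)).image_of_isOpenImmersion (π ⁻¹ᵁ U).ι
    rwa [image_morphismRestrict_preimage, e] at h
  · have h1 := morphismRestrict_app π U (U.ι ⁻¹ᵁ W)
    have h2 : IsIso ((π ∣_ U).app (U.ι ⁻¹ᵁ W)) := inferInstance
    rw [h1] at h2
    have h3 : IsIso (π.app (U.ι ''ᵁ (U.ι ⁻¹ᵁ W))) := isIso_of_comp_map _ _ _ h2
    rwa [e] at h3

omit [IsNoetherianRing A] in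
theorem subsingleton_of_affine_toPn (q : X ⟶ Spec (CommRingCat.of A)) [IsProper q] {n : ℕ} {R₀ : Type u}
    [CommRing R₀] (g : X ⟶ CohB1.ProjSpace n R₀) [IsAffineHom g] (M : X.Modules) (hM : M.IsQuasicoherent)
    {m : ℕ} (hm : n < m) : Subsingleton (HnM M m (⊤ : X.Opens)) := by
  obtain ⟨r, hr, -⟩ := exists_finite_toPn q g
  haveI := hr
  haveI := hM
  haveI := @Pn.subsingleton_HnM_proj n A _ ((Coh.push r).obj M) (isQuasicoherent_pushforward_of_isAffineHom r M) m hm
  exact @Equiv.subsingleton _ _ (affineLerayEquiv r M m ⊤).symm.toEquiv this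

omit [IsNoetherianRing A] in
/-- `f_* M` is coherent when its sections over affine opens are finite. -/
theorem isCoh_push_of_finH {X' : Scheme.{u}} (π : X' ⟶ X) [QuasiCompact π] [QuasiSeparated π] (M : X'.Modules)
    (hM : Coh.IsCoh M) (h : ∀ W : X.Opens, IsAffineOpen W →
      FinH (preΓ π W) (((MRes.inj M).restrict (π ⁻¹ᵁ W).ι).Z 0) 0 ⊤) : Coh.IsCoh ((Coh.push π).obj M) := by
  haveI : M.IsQuasicoherent := hM.1
  haveI := isQuasicoherent_pushforward π M
  refine (isCoh_iff_finite_sections _).2 ⟨inferInstance, fun W hW => ?_⟩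
  let U := π ⁻¹ᵁ W
  obtain ⟨k, z, hz⟩ := exists_finset_cocycles (preΓ π W) ((MRes.inj M).restrict U.ι) 0 ⊤ (h W hW)
  have htop : U.ι ''ᵁ ⊤ = U := U.ι_image_top
  let y : Fin k → Γ((Coh.push π).obj M, W) := fun j => rs M htop.ge (show Γ(M, U.ι ''ᵁ ⊤) from z j)
  refine Module.Finite.of_surjective (Fintype.linearCombination Γ(X, W) y) fun s => ?_
  obtain ⟨c, hc⟩ := hz (show Γ(M.restrict U.ι, ⊤) from rs M htop.le (show Γ(M, U) from s))
  refine ⟨c, ?_⟩
  have hc' := (map_eq_zero_iff _ (mcls_zero_injective ((MRes.inj M).restrict U.ι) ⊤)).1 hc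
  replace hc' : (show Γ(M, U.ι ''ᵁ ⊤) from rs M htop.le (show Γ(M, U) from s)) =
      (show Γ(M, U.ι ''ᵁ ⊤) from (∑ j, gres (preΓ π W (c j)) (⊤ : U.toScheme.Opens) • z j : Γ(M.restrict U.ι, ⊤))) :=
    sub_eq_zero.1 hc'
  have key : ∀ (a : Γ(X, W)) (b : Γ(M, U.ι ''ᵁ ⊤)),
      rs M htop.ge (show Γ(M, U.ι ''ᵁ ⊤) from
        (gres (preΓ π W a) (⊤ : U.toScheme.Opens) • (show Γ(M.restrict U.ι, ⊤) from b))) =
        π.app W a • rs M htop.ge b := by
    intro a b
    have e := restrict_smul_pow U M (π.app W a) ⊤ htop.le 1 b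
    simp only [pow_one] at e
    refine (congrArg (rs M htop.ge) e).trans ((Scheme.Modules.map_smul _ (homOfLE htop.ge) _ _).trans ?_)
    refine congrArg₂ (fun (c : Γ(X', U)) (x : Γ(M, U)) => c • x) ?_ rfl
    exact (rres_rres htop.le htop.ge _).trans (by simp)
  have hs : s = rs M htop.ge (rs M htop.le (show Γ(M, U) from s)) :=
    ((rs_rs M htop.le htop.ge _).trans (rs_self _ _ _)).symm
  refine Eq.trans ?_ (hs.trans (congrArg (rs M htop.ge) hc')).symm
  rw [Fintype.linearCombination_apply]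
  exact (Finset.sum_congr rfl fun j _ => (key (c j) _).symm).trans (map_sum (rs M htop.ge) _ _).symm

theorem finH_of_comparison [IsIntegral X] [IsNoetherian X] (q : X ⟶ Spec (CommRingCat.of A)) (H : SubFinite q)
    {F G : X.Modules} (η : F ⟶ G) (hF : Coh.IsCoh F) (hG : Coh.IsCoh G) (hK : Small (kernel η))
    (hC : Small (cokernel η)) (hPG : ∀ m, FinH (toΓ q) G m ⊤) (p : ℕ) : FinH (toΓ q) F p ⊤ := by
  haveI : F.IsQuasicoherent := hF.1
  haveI : G.IsQuasicoherent := hG.1
  have hPK := finH_small q H _ (isCoh_kernel η hF hG.1) hK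
  have hPC := finH_small q H _ (isCoh_cokernel η hF.1 hG) hC
  let S₂ : ShortComplex X.Modules := ShortComplex.mk (Abelian.image.ι η) (cokernel.π η) (kernel.condition _)
  have hS₂ : S₂.ShortExact :=
    { exact := ShortComplex.exact_of_f_is_kernel _ (kernelIsKernel _)
      mono_f := inferInstanceAs (Mono (Abelian.image.ι η))
      epi_g := inferInstanceAs (Epi (cokernel.π η)) }
  have hI : ∀ m, FinH (toΓ q) (Abelian.image η) m ⊤
    | 0 => finH_X₁_zero _ hS₂ (hPG 0)
    | m + 1 => finH_X₁_succ _ hS₂ (hPC m) (hPG (m + 1))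
  let S₁ : ShortComplex X.Modules := ShortComplex.mk (kernel.ι η) (Abelian.factorThruImage η) (by
    rw [← cancel_mono (Abelian.image.ι η), Category.assoc, Abelian.image.fac, kernel.condition, zero_comp])
  have hS₁ : S₁.ShortExact :=
    { exact := ShortComplex.exact_of_f_is_kernel _ (KernelFork.IsLimit.ofι' _ _ fun {T} k hk => ⟨kernel.lift η k
        (by rw [← Abelian.image.fac η, ← Category.assoc, hk, zero_comp]), kernel.lift_ι _ _ _⟩)
      mono_f := inferInstanceAs (Mono (kernel.ι η))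
      epi_g := inferInstanceAs (Epi (Abelian.factorThruImage η)) }
  exact finH_X₂ _ hS₁ (hPK p) (hI p)

/-- A proper integral scheme: the structure sheaf has finite cohomology. -/
theorem finH_structureModule [IsIntegral X] [IsNoetherian X] (q : X ⟶ Spec (CommRingCat.of A)) [IsProper q]
    (H : SubFinite q) (p : ℕ) : FinH (toΓ q) (Coh.structureModule X) p ⊤ := by
  obtain ⟨n, X', π, j, hj, hjc, hπ, hsurj, U, hU, hiso⟩ := S0025.result q
  haveI : IsProper (j ≫ CohB1.ProjSpaceOver.toBase n _) := hjc ▸ inferInstance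
  haveI : IsProper j := IsProper.of_comp j (CohB1.ProjSpaceOver.toBase n _)
  haveI : IsClosedImmersion j :=
    IsClosedImmersion.of_isPreimmersion j j.isClosedMap.isClosed_range
  let g : X' ⟶ CohB1.ProjSpace n (ULift.{u} ℤ) :=
    j ≫ pullback.fst (CohB1.ProjSpace.toSpec n (ULift.{u} ℤ)) (specULiftZIsTerminal.from _)
  haveI : IsAffineHom (pullback.fst (CohB1.ProjSpace.toSpec n (ULift.{u} ℤ))
      (specULiftZIsTerminal.from (Spec (CommRingCat.of A)))) :=
    MorphismProperty.of_isPullback (IsPullback.of_hasPullback _ _).flip (isAffineHom_of_isAffine _)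
  haveI : IsAffineHom g := isAffineHom_comp' j _ inferInstance ‹_›
  haveI : IsLocallyNoetherian X' := LocallyOfFiniteType.isLocallyNoetherian π
  haveI : X.IsSeparated := ⟨by rw [← terminal.comp_from q]; infer_instance⟩
  let O := Coh.structureModule X'
  have hO : Coh.IsCoh O := isCoh_structureModule' X'
  haveI : O.IsQuasicoherent := hO.1
  let R := MRes.inj O
  haveI : (R.Z 0).IsQuasicoherent := hO.1
  -- affine preimages
  have hgW : ∀ W : X.Opens, IsAffineOpen W → IsAffineHom ((π ⁻¹ᵁ W).ι ≫ g) := fun W hW => by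
    haveI : IsAffineHom W.ι := isAffineHom_ι_of_isAffineOpen hW
    haveI : IsAffineHom (π ⁻¹ᵁ W).ι :=
      MorphismProperty.of_isPullback (isPullback_morphismRestrict π W) ‹IsAffineHom W.ι›
    infer_instance
  have hfinW : ∀ (W : X.Opens), IsAffineOpen W → ∀ (M : (π ⁻¹ᵁ W).toScheme.Modules), Coh.IsCoh M → ∀ m,
      FinH (preΓ π W) M m ⊤ := fun W hW M hM m => by
    haveI : IsNoetherianRing Γ(X, W) := IsLocallyNoetherian.component_noetherian ⟨W, hW⟩
    haveI := hgW W hW
    rw [preΓ_eq_toΓ π hW]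
    exact finH_of_affine_toPn _ ((π ⁻¹ᵁ W).ι ≫ g) M hM m
  have hsub : ∀ W : X.Opens, IsAffineOpen W → ∀ m, n < m → Subsingleton (HnM O m (π ⁻¹ᵁ W)) := fun W hW m hm => by
    haveI : IsNoetherianRing Γ(X, W) := IsLocallyNoetherian.component_noetherian ⟨W, hW⟩
    haveI := hgW W hW
    refine subsingleton_HnM_image (π ⁻¹ᵁ W).ι O m ⊤ _ (π ⁻¹ᵁ W).ι_image_top ?_
    exact subsingleton_of_affine_toPn ((π ∣_ W) ≫ hW.isoSpec.hom) ((π ⁻¹ᵁ W).ι ≫ g) _
      (isCoh_restrict _ O hO).1 hm
  have hcohR : ∀ m, Coh.IsCoh (hdir π R m) := fun m =>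
    isCoh_hdir π R m fun W hW => hfinW W hW _ (isCoh_restrict _ O hO) (m + 1)
  have hfinX : ∀ m, FinH (toΓ (π ≫ q)) O m ⊤ := fun m => by
    exact finH_of_affine_toPn (π ≫ q) g O hO m
  have hisoW : ∀ W : X.Opens, W ≤ U → IsAffineOpen W → IsAffineOpen (π ⁻¹ᵁ W) ∧ IsIso (π.app W) :=
    fun W hWU hW => isAffineOpen_preimage_of_isIso π U W hWU hW
  have hsmallR : ∀ m, Small (hdir π R m) := fun m => by
    refine ⟨U, hU.nonempty, fun W hWU hW => ?_⟩
    exact @Equiv.subsingleton _ _ (hdirEquiv π R m hW).symm.toEquiv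
      (subsingleton_HnM_of_isAffineOpen O (hisoW W hWU hW).1 m)
  have hG : Coh.IsCoh ((Coh.push π).obj O) := isCoh_push_of_finH π O hO fun W hW => hfinW W hW _ (isCoh_restrict _ O hO) 0
  have hPG : ∀ m, FinH (toΓ q) ((Coh.push π).obj O) m ⊤ := by
    refine finH_push π (toΓ q) O n hsub (fun m hm => ?_) (fun m => ?_) fun m k => ?_
    · exact subsingleton_of_affine_toPn (π ≫ q) g O hO.1 hm
    · rw [← toΓ_comp]
      exact hfinX m
    · exact finH_small q H _ (hcohR m) (hsmallR m) k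
  let η : Coh.structureModule X ⟶ (Coh.push π).obj O :=
    H11Tilde.homOfGlobal ((Coh.push π).obj O) (show Γ(O, π ⁻¹ᵁ ⊤) from (1 : Γ(X', π ⁻¹ᵁ ⊤)))
  have hη : ∀ W : X.Opens, W ≤ U → IsAffineOpen W → Function.Bijective (η.app W) := fun W hWU hW => by
    haveI := (hisoW W hWU hW).2
    have : ⇑(η.app W).hom = ⇑(π.app W).hom := by
      funext r
      refine (H11Tilde.homOfGlobal_app _ _ _ _).trans ?_
      change @HMul.hMul Γ(X', π ⁻¹ᵁ W) Γ(X', π ⁻¹ᵁ W) Γ(X', π ⁻¹ᵁ W) _ (π.app W r)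
        (X'.presheaf.map (homOfLE ((Opens.map π.base).monotone (le_top : W ≤ ⊤))).op (1 : Γ(X', π ⁻¹ᵁ ⊤))) = _
      exact (congrArg (_ * ·) (map_one _)).trans (mul_one _)
    exact this ▸ ConcreteCategory.bijective_of_isIso (π.app W)
  haveI : ((Coh.push π).obj O).IsQuasicoherent := hG.1
  haveI : (Coh.structureModule X).IsQuasicoherent := isQuasicoherent_unit
  haveI := isQuasicoherent_kernel η
  haveI := isQuasicoherent_cokernel η
  have hK : Small (kernel η) := ⟨U, hU.nonempty, fun W hWU hW => subsingleton_of_forall_eq 0 fun t => by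
    refine injective_app_of_mono' (kernel.ι η) W ((hη W hWU hW).1 ?_)
    rw [map_zero, map_zero]
    exact congr($(congrArg (fun k : kernel η ⟶ (Coh.push π).obj O => k.app W) (kernel.condition η)) t)⟩
  have hC : Small (cokernel η) := ⟨U, hU.nonempty, fun W hWU hW => subsingleton_of_forall_eq 0 fun t => by
    obtain ⟨s, rfl⟩ := surjective_app_of_epi (cokernel.π η) hW t
    obtain ⟨r, rfl⟩ := (hη W hWU hW).2 s
    exact congr($(congrArg (fun k : Coh.structureModule X ⟶ cokernel η => k.app W) (cokernel.condition η)) r)⟩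
  exact finH_of_comparison q H η (isCoh_structureModule' X) hG hK hC hPG p

end Groth.Agent.H10Coh
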