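import Groth.Agent.LeadFF.Coh
import Groth.Agent.H10Coh.SerreVanishing
import Groth.Agent.H10Coh.Pn.Results

/-!
# Subsingleton consequences of the long exact sequence of `Coh.HH`, and linearity of the connecting map
-/

set_option autoImplicit false
set_option linter.style.haveILetI false

noncomputable section

universe u

open AlgebraicGeometry CategoryTheory CategoryTheory.Limits TopologicalSpace Opposite Abelian
open Groth.Agent.LeadFF

namespace Groth.Agent.H10Coh.HHSeq

attribute [local instance 10000] H10Coh.hasSheafifyAb H10Coh.hasWeakSheafifyAb H10Coh.hasExtAb H10Coh.enoughInjAb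

variable {X : Scheme.{u}} {S : ShortComplex X.Modules}

theorem subsingleton₂ (hS : S.ShortExact) {q : ℕ} (h₁ : Subsingleton (Coh.HH X S.X₁ q))
    (h₃ : Subsingleton (Coh.HH X S.X₃ q)) : Subsingleton (Coh.HH X S.X₂ q) :=
  subsingleton_of_forall_eq 0 fun x => by
    obtain ⟨y, rfl⟩ := exists_Hm_f hS q x (h₃.elim _ _)
    rw [h₁.elim y 0, map_zero]

theorem subsingleton₃ (hS : S.ShortExact) {q : ℕ} (h₂ : Subsingleton (Coh.HH X S.X₂ q))
    (h₁ : Subsingleton (Coh.HH X S.X₁ (q + 1))) : Subsingleton (Coh.HH X S.X₃ q) :=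
  subsingleton_of_forall_eq 0 fun x => by
    obtain ⟨y, rfl⟩ := exists_Hm_g hS q x (h₁.elim _ _)
    rw [h₂.elim y 0, map_zero]

theorem exists_dl (hS : S.ShortExact) (q : ℕ) (x : Coh.HH X S.X₁ (q + 1)) (hx : Hm S.f (q + 1) x = 0) :
    ∃ y, dl hS q y = x :=
  Ext.covariant_sequence_exact₁ _ (H10Coh.shortExact_sh hS) x hx rfl

theorem subsingleton₁ (hS : S.ShortExact) {q : ℕ} (h₃ : Subsingleton (Coh.HH X S.X₃ q))
    (h₂ : Subsingleton (Coh.HH X S.X₂ (q + 1))) : Subsingleton (Coh.HH X S.X₁ (q + 1)) :=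
  subsingleton_of_forall_eq 0 fun x => by
    obtain ⟨y, rfl⟩ := exists_dl hS q x (h₂.elim _ _)
    rw [h₃.elim y 0, map_zero]

theorem injective_Hm_zero (hS : S.ShortExact) : Function.Injective (Hm S.f 0) := by
  haveI : Mono ((H10Coh.shF X).map S.f) := (H10Coh.shortExact_sh hS).mono_f
  refine (injective_iff_map_eq_zero _).2 fun x hx => ?_
  obtain ⟨h, rfl⟩ := (Ext.mk₀_bijective _ _).2 x
  have h0 : Ext.mk₀ (h ≫ (H10Coh.shF X).map S.f) = 0 := (Ext.mk₀_comp_mk₀ _ _).symm.trans hx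
  rw [← Ext.mk₀_zero] at h0
  have : h = 0 := (cancel_mono ((H10Coh.shF X).map S.f)).1 (((Ext.mk₀_bijective _ _).1 h0).trans zero_comp.symm)
  rw [this, Ext.mk₀_zero]

theorem subsingleton_zero (hS : S.ShortExact) (h₂ : Subsingleton (Coh.HH X S.X₂ 0)) :
    Subsingleton (Coh.HH X S.X₁ 0) :=
  @Function.Injective.subsingleton _ _ _ (injective_Hm_zero hS) h₂

variable {A : Type u} [CommRing A] [X.Over (Spec (CommRingCat.of A))]

/-- The endomorphism of a sequence by a scalar. -/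
def smulSeq (S : ShortComplex X.Modules) (a : A) : S ⟶ S :=
  ShortComplex.homMk (Formal.smulMod A S.X₁ a) (Formal.smulMod A S.X₂ a) (Formal.smulMod A S.X₃ a)
    (smulMod_natural S.f a).symm (smulMod_natural S.g a).symm

/-- The connecting map is linear. -/
def dlₗ (hS : S.ShortExact) (q : ℕ) : Coh.HH X S.X₃ q →ₗ[A] Coh.HH X S.X₁ (q + 1) where
  toFun := dl hS q
  map_add' := map_add _
  map_smul' a x := by
    rw [RingHom.id_apply, ← Hm_smulMod, ← Hm_smulMod]
    exact dl_natural hS hS (smulSeq S a) q x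

theorem bijective_dlₗ (hS : S.ShortExact) (q : ℕ) (h₂ : Subsingleton (Coh.HH X S.X₂ q))
    (h₂' : Subsingleton (Coh.HH X S.X₂ (q + 1))) : Function.Bijective (dlₗ (A := A) hS q) := by
  refine ⟨(injective_iff_map_eq_zero _).2 fun x hx => ?_, fun y => exists_dl hS q y (h₂'.elim _ _)⟩
  obtain ⟨y, rfl⟩ := exists_Hm_g hS q x hx
  rw [h₂.elim y 0, map_zero]

/-- Isomorphisms are linear on cohomology. -/
def isoₗ {M N : X.Modules} (e : M ≅ N) (q : ℕ) : Coh.HH X M q ≃ₗ[A] Coh.HH X N q where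
  toFun := Hm e.hom q
  map_add' := map_add _
  map_smul' a x := by
    rw [RingHom.id_apply, ← Hm_smulMod, ← Hm_smulMod, ← Hm_comp, ← Hm_comp, smulMod_natural]
  invFun := Hm e.inv q
  left_inv x := by rw [← Hm_comp, e.hom_inv_id, Hm_id]
  right_inv x := by rw [← Hm_comp, e.inv_hom_id, Hm_id]

end Groth.Agent.H10Coh.HHSeq
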