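import Groth.Agent.H10Coh.LocalizedH
import Groth.Agent.H10Coh.Affine
import Mathlib.RingTheory.Noetherian.Basic

/-!
# Finiteness of cohomology: exact sequences and finite sums

All statements about `Ext` are made over a general space (this keeps kernel checking fast);
schemes only enter through `actM` and `FinH`.
-/

universe u v

open CategoryTheory CategoryTheory.Limits AlgebraicGeometry Opposite TopologicalSpace Abelian

namespace Groth.Agent.H10Coh

attribute [local instance 10000] hasSheafifyAb hasWeakSheafifyAb hasExtAb enoughInjAb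

section space

variable {T : TopCat.{u}} {A : Type u} [CommRing A]

/-- An action of a ring on an abelian sheaf. -/
structure ActSh (A : Type u) [CommRing A] (F : CohTop.Ab T) where
  s : A → (F ⟶ F)
  s_one : s 1 = 𝟙 F
  s_mul : ∀ a b, s (a * b) = s b ≫ s a
  s_add : ∀ a b, s (a + b) = s a + s b

/-- Functoriality of cohomology. -/
noncomputable def postH {F G : CohTop.Ab T} (g : F ⟶ G) (n : ℕ) (U : Opens T) : Hn F n U →+ Hn G n U :=
  (Ext.mk₀ g).postcomp (Zsh U) (add_zero n)

theorem postH_apply {F G : CohTop.Ab T} (g : F ⟶ G) (n : ℕ) (U : Opens T) (x : Hn F n U) :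
    postH g n U x = x.comp (Ext.mk₀ g) (add_zero n) := rfl

theorem postH_id {F : CohTop.Ab T} (n : ℕ) (U : Opens T) (x : Hn F n U) : postH (𝟙 F) n U x = x := by
  rw [postH_apply, Ext.comp_mk₀_id]

theorem postH_comp {F G K : CohTop.Ab T} (g : F ⟶ G) (h : G ⟶ K) (n : ℕ) (U : Opens T) (x : Hn F n U) :
    postH (g ≫ h) n U x = postH h n U (postH g n U x) := by
  rw [postH_apply, postH_apply, postH_apply, ← Ext.mk₀_comp_mk₀, Ext.comp_assoc_of_second_deg_zero]

theorem postH_add {F G : CohTop.Ab T} (g g' : F ⟶ G) (n : ℕ) (U : Opens T) (x : Hn F n U) :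
    postH (g + g') n U x = postH g n U x + postH g' n U x := by
  rw [postH_apply, postH_apply, postH_apply, Ext.mk₀_add, Ext.comp_add]

theorem postH_zero {F G : CohTop.Ab T} (n : ℕ) (U : Opens T) (x : Hn F n U) :
    postH (0 : F ⟶ G) n U x = 0 := by
  rw [postH_apply, Ext.mk₀_zero, Ext.comp_zero]

theorem postH_sum {F G : CohTop.Ab T} {ι : Type*} (s : Finset ι) (g : ι → (F ⟶ G)) (n : ℕ)
    (U : Opens T) (z : Hn F n U) : postH (∑ i ∈ s, g i) n U z = ∑ i ∈ s, postH (g i) n U z :=
  map_sum (AddMonoidHom.mk' (fun a : F ⟶ G => postH a n U z) fun a b => postH_add a b n U z) g s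

namespace ActSh

variable {F G : CohTop.Ab T}

theorem s_zero (σ : ActSh A F) : σ.s 0 = 0 := by
  have h := σ.s_add 0 0
  rw [add_zero] at h
  exact left_eq_add.1 h

/-- The module structure on cohomology. -/
@[implicit_reducible]
noncomputable def mod (σ : ActSh A F) (n : ℕ) (U : Opens T) : Module A (Hn F n U) where
  smul a x := postH (σ.s a) n U x
  one_smul x := show postH (σ.s 1) n U x = x by rw [σ.s_one, postH_id]
  mul_smul a b x := show postH (σ.s (a * b)) n U x = _ by rw [σ.s_mul, postH_comp]; rfl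
  smul_zero a := (postH (σ.s a) n U).map_zero
  smul_add a := (postH (σ.s a) n U).map_add
  add_smul a b x := show postH (σ.s (a + b)) n U x = _ by rw [σ.s_add, postH_add]; rfl
  zero_smul x := show postH (σ.s 0) n U x = 0 by rw [σ.s_zero, postH_zero]

/-- Finiteness of the cohomology as a module. -/
def Fin (σ : ActSh A F) (n : ℕ) (U : Opens T) : Prop :=
  letI := σ.mod n U
  Module.Finite A (Hn F n U)

/-- A morphism commuting with the actions. -/
def Comm (σ : ActSh A F) (τ : ActSh A G) (f : F ⟶ G) : Prop := ∀ a, σ.s a ≫ f = f ≫ τ.s a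

/-- The induced linear map. -/
noncomputable def map {σ : ActSh A F} {τ : ActSh A G} {f : F ⟶ G} (h : σ.Comm τ f) (n : ℕ) (U : Opens T) :
    letI := σ.mod n U
    letI := τ.mod n U
    Hn F n U →ₗ[A] Hn G n U :=
  letI := σ.mod n U
  letI := τ.mod n U
  { toFun := postH f n U
    map_add' := map_add _
    map_smul' := fun a x => by
      change postH f n U (postH (σ.s a) n U x) = postH (τ.s a) n U (postH f n U x)
      rw [← postH_comp, ← postH_comp, h a] }

theorem fin_of_subsingleton (σ : ActSh A F) {n : ℕ} {U : Opens T} (h : Subsingleton (Hn F n U)) : σ.Fin n U := by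
  letI := σ.mod n U
  exact Module.Finite.of_surjective (0 : A →ₗ[A] Hn F n U) fun y => ⟨0, Subsingleton.elim _ _⟩

theorem fin_of_retract {σ : ActSh A F} {τ : ActSh A G} {f : F ⟶ G} {g : G ⟶ F} (h : σ.Comm τ f)
    (hgf : g ≫ f = 𝟙 G) {n : ℕ} {U : Opens T} (hF : σ.Fin n U) : τ.Fin n U := by
  letI := σ.mod n U
  letI := τ.mod n U
  haveI : Module.Finite A (Hn F n U) := hF
  refine Module.Finite.of_surjective (map h n U) fun y => ⟨postH g n U y, ?_⟩
  change postH f n U (postH g n U y) = y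
  rw [← postH_comp, hgf, postH_id]

theorem fin_of_sum_eq_id [IsNoetherianRing A] {ι : Type} [Fintype ι] (σ : ActSh A F) {P : ι → CohTop.Ab T}
    (τ : ∀ i, ActSh A (P i)) (a : ∀ i, F ⟶ P i) (b : ∀ i, P i ⟶ F) (ha : ∀ i, σ.Comm (τ i) (a i))
    (h : ∑ i, a i ≫ b i = 𝟙 F) {n : ℕ} {U : Opens T} (hP : ∀ i, (τ i).Fin n U) : σ.Fin n U := by
  classical
  letI := σ.mod n U
  letI := fun i => (τ i).mod n U
  haveI : ∀ i, Module.Finite A (Hn (P i) n U) := hP
  refine Module.Finite.of_injective (LinearMap.pi fun i => map (ha i) n U) fun x y hxy => ?_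
  have key : ∀ z : Hn F n U, z = ∑ i, postH (b i) n U (postH (a i) n U z) := fun z => by
    conv_lhs => rw [← postH_id n U z, ← h, postH_sum]
    exact Finset.sum_congr rfl fun i _ => postH_comp _ _ _ _ _
  rw [key x, key y]
  exact Finset.sum_congr rfl fun i _ => congrArg _ (congrFun hxy i)

end ActSh

theorem finite_of_exact {R : Type*} [CommRing R] [IsNoetherianRing R] {M N P : Type*} [AddCommGroup M]
    [AddCommGroup N] [AddCommGroup P] [Module R M] [Module R N] [Module R P] [Module.Finite R M]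
    [Module.Finite R P] (f : M →ₗ[R] N) (g : N →ₗ[R] P) (h : ∀ x, g x = 0 → ∃ y, f y = x) :
    Module.Finite R N := by
  refine ⟨Submodule.fg_of_fg_map_of_fg_inf_ker g (IsNoetherian.noetherian _) ?_⟩
  have hk : (⊤ : Submodule R N) ⊓ LinearMap.ker g ≤ LinearMap.range f := fun x hx =>
    let ⟨y, hy⟩ := h x hx.2
    ⟨y, hy⟩
  have hf : (LinearMap.range f).FG := by
    rw [← Submodule.map_top]
    exact Module.Finite.fg_top.map f
  have : IsNoetherian R (LinearMap.range f) := isNoetherian_of_fg_of_noetherian _ hf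
  exact (isNoetherian_submodule.1 this) _ hk

/-- Actions on the terms of a short exact sequence. -/
structure ActSeq (A : Type u) [CommRing A] (S : ShortComplex (CohTop.Ab T)) where
  a₁ : ActSh A S.X₁
  a₂ : ActSh A S.X₂
  a₃ : ActSh A S.X₃
  comm₁₂ : a₁.Comm a₂ S.f
  comm₂₃ : a₂.Comm a₃ S.g

namespace ActSeq

variable {S : ShortComplex (CohTop.Ab T)} (σ : ActSeq A S) (hS : S.ShortExact)

/-- The endomorphism of the sequence given by a ring element. -/
noncomputable def endo (a : A) : S ⟶ S where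
  τ₁ := σ.a₁.s a
  τ₂ := σ.a₂.s a
  τ₃ := σ.a₃.s a
  comm₁₂ := σ.comm₁₂ a
  comm₂₃ := σ.comm₂₃ a

/-- The connecting map. -/
noncomputable def delta (n : ℕ) (U : Opens T) :
    letI := σ.a₃.mod n U
    letI := σ.a₁.mod (n + 1) U
    Hn S.X₃ n U →ₗ[A] Hn S.X₁ (n + 1) U :=
  letI := σ.a₃.mod n U
  letI := σ.a₁.mod (n + 1) U
  { toFun := fun x => x.comp hS.extClass rfl
    map_add' := fun x y => Ext.add_comp _ _ _ _
    map_smul' := fun a x => by
      change (x.comp (Ext.mk₀ (σ.endo a).τ₃) (add_zero n)).comp hS.extClass rfl =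
        (x.comp hS.extClass rfl).comp (Ext.mk₀ (σ.endo a).τ₁) (add_zero (n + 1))
      rw [Ext.comp_assoc_of_second_deg_zero, Ext.comp_assoc_of_third_deg_zero,
        ShortComplex.ShortExact.extClass_naturality hS hS (σ.endo a)] }

include hS

theorem fin₃ [IsNoetherianRing A] {n : ℕ} {U : Opens T} (h₂ : σ.a₂.Fin n U) (h₁ : σ.a₁.Fin (n + 1) U) :
    σ.a₃.Fin n U := by
  letI := σ.a₂.mod n U
  letI := σ.a₃.mod n U
  letI := σ.a₁.mod (n + 1) U
  haveI : Module.Finite A (Hn S.X₂ n U) := h₂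
  haveI : Module.Finite A (Hn S.X₁ (n + 1) U) := h₁
  exact finite_of_exact (ActSh.map σ.comm₂₃ n U) (σ.delta hS n U) fun x hx =>
    Ext.covariant_sequence_exact₃ _ hS x rfl hx

theorem fin₂ [IsNoetherianRing A] {n : ℕ} {U : Opens T} (h₁ : σ.a₁.Fin n U) (h₃ : σ.a₃.Fin n U) :
    σ.a₂.Fin n U := by
  letI := σ.a₁.mod n U
  letI := σ.a₂.mod n U
  letI := σ.a₃.mod n U
  haveI : Module.Finite A (Hn S.X₁ n U) := h₁
  haveI : Module.Finite A (Hn S.X₃ n U) := h₃
  exact finite_of_exact (ActSh.map σ.comm₁₂ n U) (ActSh.map σ.comm₂₃ n U) fun x hx =>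
    Ext.covariant_sequence_exact₂ _ hS x hx

theorem fin₁_succ [IsNoetherianRing A] {n : ℕ} {U : Opens T} (h₃ : σ.a₃.Fin n U) (h₂ : σ.a₂.Fin (n + 1) U) :
    σ.a₁.Fin (n + 1) U := by
  letI := σ.a₃.mod n U
  letI := σ.a₁.mod (n + 1) U
  letI := σ.a₂.mod (n + 1) U
  haveI : Module.Finite A (Hn S.X₃ n U) := h₃
  haveI : Module.Finite A (Hn S.X₂ (n + 1) U) := h₂
  exact finite_of_exact (σ.delta hS n U) (ActSh.map σ.comm₁₂ (n + 1) U) fun x hx =>
    Ext.covariant_sequence_exact₁ _ hS x hx rfl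

end ActSeq

end space

section scheme

variable {X : Scheme.{u}} {A : Type u} [CommRing A] (φ : A →+* Γ(X, ⊤))

theorem shF_comp_smulAb {M N : X.Modules} (f : M ⟶ N) (r : Coh.Γtop X) :
    (shF X).map f ≫ Coh.smulAb N r = Coh.smulAb M r ≫ (shF X).map f := by
  ext U m
  exact ((f.val.app U).hom.map_smul (Coh.resTop X U r) m).symm

/-- The action of `A` on the sheaf of a module. -/
noncomputable def actM (M : X.Modules) : ActSh A (sh M) where
  s a := smulSh M (φ a)
  s_one := by rw [map_one, smulSh_one]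
  s_mul a b := by rw [map_mul, smulSh_mul]
  s_add a b := by rw [map_add, smulSh_add]

theorem actM_comm {M N : X.Modules} (f : M ⟶ N) : (actM φ M).Comm (actM φ N) ((shF X).map f) :=
  fun a => (shF_comp_smulAb f (φ a)).symm

/-- `H^n(U, M)` is a finite `A`-module. -/
def FinH (M : X.Modules) (n : ℕ) (U : X.Opens) : Prop := (actM φ M).Fin n U

theorem finH_of_iso {M N : X.Modules} (e : M ≅ N) {n : ℕ} {U : X.Opens} (h : FinH φ M n U) : FinH φ N n U :=
  ActSh.fin_of_retract (σ := actM φ M) (τ := actM φ N) (actM_comm φ e.hom) (g := (shF X).map e.inv)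
    (((shF X).map_comp e.inv e.hom).symm.trans
      ((congrArg (shF X).map e.inv_hom_id).trans ((shF X).map_id N))) h

theorem finH_of_subsingleton {M : X.Modules} {n : ℕ} {U : X.Opens} (h : Subsingleton (HnM M n U)) :
    FinH φ M n U :=
  (actM φ M).fin_of_subsingleton h

theorem finH_of_sum_eq_id [IsNoetherianRing A] {ι : Type} [Fintype ι] {M : X.Modules} (P : ι → X.Modules)
    (a : ∀ i, M ⟶ P i) (b : ∀ i, P i ⟶ M) (h : ∑ i, a i ≫ b i = 𝟙 M) {n : ℕ} {U : X.Opens}
    (hP : ∀ i, FinH φ (P i) n U) : FinH φ M n U :=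
  (actM φ M).fin_of_sum_eq_id (fun i => actM φ (P i)) (fun i => (shF X).map (a i)) (fun i => (shF X).map (b i))
    (fun i => actM_comm φ (a i))
    ((Finset.sum_congr rfl fun i _ => ((shF X).map_comp (a i) (b i)).symm).trans
      (((shF X).map_sum (fun i => a i ≫ b i) Finset.univ).symm.trans
        ((congrArg (shF X).map h).trans ((shF X).map_id M)))) hP

/-- The action on a short exact sequence of modules. -/
noncomputable def actSeq (S : ShortComplex X.Modules) : ActSeq A (S.map (shF X)) where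
  a₁ := actM φ S.X₁
  a₂ := actM φ S.X₂
  a₃ := actM φ S.X₃
  comm₁₂ := actM_comm φ S.f
  comm₂₃ := actM_comm φ S.g

theorem finH_X₃ [IsNoetherianRing A] {S : ShortComplex X.Modules} (hS : S.ShortExact) {n : ℕ} {U : X.Opens}
    (h₂ : FinH φ S.X₂ n U) (h₁ : FinH φ S.X₁ (n + 1) U) : FinH φ S.X₃ n U :=
  (actSeq φ S).fin₃ (shortExact_sh hS) h₂ h₁

theorem finH_X₂ [IsNoetherianRing A] {S : ShortComplex X.Modules} (hS : S.ShortExact) {n : ℕ} {U : X.Opens}
    (h₁ : FinH φ S.X₁ n U) (h₃ : FinH φ S.X₃ n U) : FinH φ S.X₂ n U :=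
  (actSeq φ S).fin₂ (shortExact_sh hS) h₁ h₃

theorem finH_X₁_succ [IsNoetherianRing A] {S : ShortComplex X.Modules} (hS : S.ShortExact) {n : ℕ} {U : X.Opens}
    (h₃ : FinH φ S.X₃ n U) (h₂ : FinH φ S.X₂ (n + 1) U) : FinH φ S.X₁ (n + 1) U :=
  (actSeq φ S).fin₁_succ (shortExact_sh hS) h₃ h₂

variable [X.Over (Spec (CommRingCat.of A))]

/-- The structure map on global functions. -/
noncomputable def globA : A →+* Γ(X, ⊤) := Coh.toGlobal (X ↘ Spec (CommRingCat.of A))

theorem HHEquiv_smul' (M : X.Modules) (n : ℕ) (a : A) (x : Coh.HH X M n) :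
    HHEquiv M n (a • x) = postH (smulSh M (globA a)) n ⊤ (HHEquiv M n x) :=
  (HHEquiv_smul M n (globA a) x).trans (compMk₀_apply _ _ _ _)

theorem finite_HH_iff_finH (M : X.Modules) (n : ℕ) :
    Module.Finite A (Coh.HH X M n) ↔ FinH (globA (A := A)) M n ⊤ := by
  letI := (actM (globA (A := A) (X := X)) M).mod n ⊤
  let e : Coh.HH X M n ≃ₗ[A] HnM M n ⊤ := { HHEquiv M n with map_smul' := HHEquiv_smul' M n }
  exact ⟨fun _ => Module.Finite.equiv e, fun h => by
    haveI : Module.Finite A (HnM M n ⊤) := h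
    exact Module.Finite.equiv e.symm⟩

end scheme

end Groth.Agent.H10Coh
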