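import Groth.Agent.H10Coh.AffineLeray
import Groth.Agent.H10Coh.FinH
import Groth.Agent.H10Coh.FinType2
import Mathlib.AlgebraicGeometry.Morphisms.Finite

/-!
# Pushing forward along affine and finite morphisms: cohomology, finiteness, coherence
-/

universe u

open CategoryTheory CategoryTheory.Limits AlgebraicGeometry Opposite TopologicalSpace Abelian

namespace Groth.Agent.H10Coh

attribute [local instance 10000] hasSheafifyAb hasWeakSheafifyAb hasExtAb enoughInjAb
attribute [local instance] enoughInjMod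

section top

variable {X Y : TopCat.{u}} (f : X ⟶ Y)

theorem FRes.pushEquiv_cls (R : FRes X) (h : ∀ n, Epi ((CohTop.push f).map (R.p n))) :
    ∀ (n : ℕ) (U : Opens Y) (z : ((R.push f h).Z n).obj.obj (op U)),
      R.pushEquiv f h n U (FRes.cls n (R.push f h) U z) = FRes.cls n R ((Opens.map f).obj U) z
  | 0, U, z => congrArg (H0Equiv (R.Z 0) ((Opens.map f).obj U)).symm
      ((H0Equiv ((CohTop.push f).obj (R.Z 0)) U).apply_symm_apply z)
  | n + 1, U, z => by
    have e : FRes.cls (n + 1) (R.push f h) U z = (R.push f h).quotEquiv n U (QuotientAddGroup.mk z) := rfl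
    rw [e]
    exact congrArg (R.quotEquiv n ((Opens.map f).obj U)) (((R.push f h).quotEquiv n U).symm_apply_apply _)

/-- Pushing a morphism of resolutions. -/
noncomputable def FRes.Hom.push {R S : FRes X} (φ : FRes.Hom R S) (h : ∀ n, Epi ((CohTop.push f).map (R.p n)))
    (h' : ∀ n, Epi ((CohTop.push f).map (S.p n))) : FRes.Hom (R.push f h) (S.push f h') where
  f n := (CohTop.push f).map (φ.f n)
  g n := (CohTop.push f).map (φ.g n)
  comm₁ n := ((CohTop.push f).map_comp _ _).symm.trans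
    ((congrArg (CohTop.push f).map (φ.comm₁ n)).trans ((CohTop.push f).map_comp _ _))
  comm₂ n := ((CohTop.push f).map_comp _ _).symm.trans
    ((congrArg (CohTop.push f).map (φ.comm₂ n)).trans ((CohTop.push f).map_comp _ _))

theorem FRes.pushEquiv_natural {R S : FRes X} (φ : FRes.Hom R S) (h : ∀ n, Epi ((CohTop.push f).map (R.p n)))
    (h' : ∀ n, Epi ((CohTop.push f).map (S.p n))) (n : ℕ) (U : Opens Y) (x : Hn ((R.push f h).Z 0) n U) :
    S.pushEquiv f h' n U (postH ((CohTop.push f).map (φ.f 0)) n U x) =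
      postH (φ.f 0) n ((Opens.map f).obj U) (R.pushEquiv f h n U x) := by
  obtain ⟨z, rfl⟩ := FRes.cls_surjective n (R.push f h) U x
  rw [FRes.pushEquiv_cls]
  exact ((congrArg (S.pushEquiv f h' n U) (FRes.cls_map n (φ.push f h h') U z).symm).trans
    (FRes.pushEquiv_cls f S h' n U _)).trans (FRes.cls_map n φ ((Opens.map f).obj U) z)

/-- Finiteness transfers through the pushforward of a resolution. -/
theorem FRes.fin_push {A : Type u} [CommRing A] (R : FRes X) (h : ∀ n, Epi ((CohTop.push f).map (R.p n)))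
    (σ : ActSh A (R.Z 0)) (τ : ActSh A ((CohTop.push f).obj (R.Z 0))) (φ : A → FRes.Hom R R)
    (hσ : ∀ a, (φ a).f 0 = σ.s a) (hτ : ∀ a, τ.s a = (CohTop.push f).map (σ.s a)) (n : ℕ) (U : Opens Y) :
    τ.Fin n U ↔ σ.Fin n ((Opens.map f).obj U) := by
  letI := σ.mod n ((Opens.map f).obj U)
  letI := τ.mod n U
  let e : Hn ((R.push f h).Z 0) n U ≃ₗ[A] Hn (R.Z 0) n ((Opens.map f).obj U) :=
    { R.pushEquiv f h n U with
      map_smul' := fun a x => by
        change R.pushEquiv f h n U (postH (τ.s a) n U x) =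
          postH (σ.s a) n ((Opens.map f).obj U) (R.pushEquiv f h n U x)
        rw [hτ, ← hσ]
        exact FRes.pushEquiv_natural f (φ a) h h n U x }
  exact ⟨fun hfin => @Module.Finite.equiv _ _ _ _ _ _ _ _ hfin e,
    fun hfin => @Module.Finite.equiv _ _ _ _ _ _ _ _ hfin e.symm⟩

end top

variable {X S : Scheme.{u}} (f : X ⟶ S) (M : X.Modules)

theorem smulSh_push (r : Γ(S, ⊤)) :
    smulSh ((Coh.push f).obj M) r = (CohTop.push f.base).map (smulSh M (f.appTop r)) := by
  refine ObjectProperty.hom_ext _ ?_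
  ext U m
  change (f.app U.unop).hom ((S.presheaf.map (homOfLE (le_top : U.unop ≤ ⊤)).op).hom r) • (show Γ(M, f ⁻¹ᵁ U.unop) from m) =
    (X.presheaf.map (homOfLE (le_top : f ⁻¹ᵁ U.unop ≤ ⊤)).op).hom (f.appTop r) • (show Γ(M, f ⁻¹ᵁ U.unop) from m)
  congr 1
  exact congr($(f.naturality (homOfLE (le_top : U.unop ≤ ⊤)).op) r)

/-- Finiteness of cohomology along an affine morphism. -/
theorem finH_push_iff [IsAffineHom f] [M.IsQuasicoherent] {A : Type u} [CommRing A] (ψ : A →+* Γ(S, ⊤))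
    (n : ℕ) (U : S.Opens) :
    FinH ψ ((Coh.push f).obj M) n U ↔ FinH (f.appTop.hom.comp ψ) M n (f ⁻¹ᵁ U) :=
  (MRes.inj M).toF.fin_push f.base (epi_push_of_isAffineHom f M) (actM (f.appTop.hom.comp ψ) M)
    (actM ψ ((Coh.push f).obj M)) (fun a => mResSmul (MRes.inj M) (f.appTop (ψ a))) (fun _ => rfl)
    (fun a => smulSh_push f M (ψ a)) n U

/-- Finite morphisms preserve coherence. -/
theorem isCoh_push_of_isFinite [IsFinite f] (hM : Coh.IsCoh M) : Coh.IsCoh ((Coh.push f).obj M) := by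
  haveI : M.IsQuasicoherent := hM.1
  haveI := isQuasicoherent_pushforward_of_isAffineHom f M
  refine (isCoh_iff_finite_sections _).2 ⟨inferInstance, fun U hU => ?_⟩
  have hfin := IsFinite.finite_app (f := f) U hU
  letI := (f.app U).hom.toAlgebra
  haveI : Module.Finite Γ(S, U) Γ(X, f ⁻¹ᵁ U) := hfin
  haveI : Module.Finite Γ(X, f ⁻¹ᵁ U) Γ(M, f ⁻¹ᵁ U) :=
    ((isCoh_iff_finite_sections M).1 hM).2 _ (hU.preimage f)
  letI : Module Γ(S, U) Γ(M, f ⁻¹ᵁ U) := Module.compHom _ (f.app U).hom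
  haveI : IsScalarTower Γ(S, U) Γ(X, f ⁻¹ᵁ U) Γ(M, f ⁻¹ᵁ U) := IsScalarTower.of_algebraMap_smul fun _ _ => rfl
  have h : Module.Finite Γ(S, U) Γ(M, f ⁻¹ᵁ U) := Module.Finite.trans Γ(X, f ⁻¹ᵁ U) _
  exact h

end Groth.Agent.H10Coh
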