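import Groth.Agent.H10Coh.Bounded

/-!
# Cohomology along affine morphisms
-/

universe u

open CategoryTheory CategoryTheory.Limits AlgebraicGeometry Opposite TopologicalSpace

namespace Groth.Agent.H10Coh

attribute [local instance 10000] hasSheafifyAb hasWeakSheafifyAb hasExtAb enoughInjAb
attribute [local instance] enoughInjMod

section top

variable {X Y : TopCat.{u}} (f : X ⟶ Y)

/-- Push a flasque resolution forward, when the higher direct images vanish. -/
noncomputable abbrev FRes.push (R : FRes X) (h : ∀ n, Epi ((CohTop.push f).map (R.p n))) : FRes Y where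
  I n := (CohTop.push f).obj (R.I n)
  Z n := (CohTop.push f).obj (R.Z n)
  i n := (CohTop.push f).map (R.i n)
  p n := (CohTop.push f).map (R.p n)
  w n := ((CohTop.push f).map_comp _ _).symm.trans
    ((congrArg (CohTop.push f).map (R.w n)).trans (Functor.map_zero _ _ _))
  se n := H16Derived.AcyclicLES.shortExact_map_of_epi (CohTop.push f) (R.se n) (h n)
  fl n := flasque_push f (R.fl n)

theorem FRes.epi_push_p (R : FRes X) (B : Set (Opens Y)) (hB : Opens.IsBasis B)
    (h : ∀ W ∈ B, ∀ n, Subsingleton (Hn (R.Z 0) (n + 1) ((Opens.map f).obj W))) (n : ℕ) :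
    Epi ((CohTop.push f).map (R.p n)) := by
  refine epi_of_locally_surjective _ fun U t x hx => ?_
  obtain ⟨W, hW, hxW, hWU⟩ := Opens.isBasis_iff_nbhd.1 hB hx
  exact ⟨W, hWU, hxW, (R.subsingleton_iff n _).1 (h W hW n) _⟩

/-- `H^n(U, f_* F) = H^n(f⁻¹U, F)` when the higher direct images vanish. -/
noncomputable def FRes.pushEquiv (R : FRes X) (h : ∀ n, Epi ((CohTop.push f).map (R.p n))) :
    ∀ (n : ℕ) (U : Opens Y), Hn ((R.push f h).Z 0) n U ≃+ Hn (R.Z 0) n ((Opens.map f).obj U)
  | 0, U => (H0Equiv ((CohTop.push f).obj (R.Z 0)) U).trans (H0Equiv (R.Z 0) ((Opens.map f).obj U)).symm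
  | n + 1, U => ((R.push f h).quotEquiv n U).symm.trans (R.quotEquiv n ((Opens.map f).obj U))

end top

variable {X S : Scheme.{u}}

/-- The affine opens of `S`, as a basis. -/
abbrev affB (S : Scheme.{u}) : Set (Opens S.toPresheafedSpace.carrier) := {U | IsAffineOpen (X := S) U}

theorem isBasis_affB (S : Scheme.{u}) : Opens.IsBasis (affB S) := S.isBasis_affineOpens

variable (f : X ⟶ S) (M : X.Modules)

theorem epi_push_of_isAffineHom [IsAffineHom f] [M.IsQuasicoherent] (n : ℕ) :
    Epi ((CohTop.push f.base).map ((MRes.inj M).toF.p n)) :=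
  (MRes.inj M).toF.epi_push_p f.base (affB S) (isBasis_affB S)
    (fun _ hW k => subsingleton_HnM_of_isAffineOpen M (hW.preimage f) k) n

/-- `H^n(U, f_* M) = H^n(f⁻¹ U, M)` for affine `f`. -/
noncomputable def affineLerayEquiv [IsAffineHom f] [M.IsQuasicoherent] (n : ℕ) (U : S.Opens) :
    HnM ((Coh.push f).obj M) n U ≃+ HnM M n (f ⁻¹ᵁ U) :=
  (MRes.inj M).toF.pushEquiv f.base (epi_push_of_isAffineHom f M) n U

theorem isZero_rpushAb_of_isAffineHom [IsAffineHom f] [M.IsQuasicoherent] (n : ℕ) :
    IsZero ((Coh.RpushAb f (n + 1)).obj (Coh.toAb M)) :=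
  isZero_rpush_of_vanishing f.base (Coh.toAb M) n (affB S) (isBasis_affB S)
    fun _ hW => subsingleton_HnM_of_isAffineOpen M (hW.preimage f) n

/-- `R^n g_* (f_* M) = R^n (g ∘ f)_* M` for affine `f`. -/
theorem nonempty_rpushAb_comp {Z : Scheme.{u}} (g : S ⟶ Z) [IsAffineHom f] [M.IsQuasicoherent] (p : ℕ) :
    Nonempty ((Coh.RpushAb g p).obj (Coh.toAb ((Coh.push f).obj M)) ≅
      (Coh.RpushAb (f ≫ g) p).obj (Coh.toAb M)) := by
  cases p with
  | zero =>
    exact ⟨(nonempty_rpush_zero g.base (Coh.toAb ((Coh.push f).obj M))).some ≪≫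
      (nonempty_rpush_zero (f ≫ g).base (Coh.toAb M)).some.symm⟩
  | succ n =>
    exact ⟨(nonempty_rpush_iso_cokernel g.base
        ((MRes.inj M).toF.push f.base (epi_push_of_isAffineHom f M)) n).some ≪≫
      (nonempty_rpush_iso_cokernel (f ≫ g).base (MRes.inj M).toF n).some.symm⟩

/-- The module-valued and the abelian higher direct images agree. -/
theorem nonempty_toAb_rpush [HasInjectiveResolutions X.Modules] (n : ℕ) :
    Nonempty (Coh.toAb ((Coh.Rpush f n).obj M) ≅ (Coh.RpushAb f n).obj (Coh.toAb M)) := by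
  have : (Scheme.Modules.pushforward f).IsRightAdjoint :=
    (Scheme.Modules.pullbackPushforwardAdjunction f).isRightAdjoint
  have : PreservesFiniteLimits (Scheme.Modules.pushforward f) := inferInstance
  cases n with
  | zero =>
    exact ⟨(shF S).mapIso ((Scheme.Modules.pushforward f).rightDerivedZeroIsoSelf.app M) ≪≫
      (nonempty_rpush_zero f.base (Coh.toAb M)).some.symm⟩
  | succ n =>
    have hac : ∀ k, H16Derived.AcyclicLES.IsAcyclic (Scheme.Modules.pushforward f) (mI M k) :=
      fun k => @H16Derived.AcyclicLES.isAcyclic_of_injective _ _ _ _ _ _ (Scheme.Modules.pushforward f)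
        _ _ _ (mI M k) (injective_mI M k)
    exact ⟨(shF S).mapIso (nonempty_rightDerived_of_chain (Scheme.Modules.pushforward f) n (mZ M) (mI M)
        (mi M) (mp M) (mi_mp M) (shortExact_mZ M) hac).some ≪≫
      PreservesCokernel.iso (shF S) ((Scheme.Modules.pushforward f).map (mp M n)) ≪≫
      (nonempty_rpush_iso_cokernel f.base (MRes.inj M).toF n).some.symm⟩

end Groth.Agent.H10Coh
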