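import Groth.Agent.H11Ample.Twist
import Groth.Agent.H10Coh.FinType2
import Groth.Agent.H11Tilde.ModLoc
import Groth.Agent.H10Coh.Support
import Groth.Prelude.Def_W4c2derhamsingLim

/-!
# Twisting by an invertible module is exact
-/

set_option autoImplicit false

noncomputable section

universe u

open CategoryTheory CategoryTheory.Limits AlgebraicGeometry Opposite TopologicalSpace
open Groth.Agent.H11Tilde Groth.Agent.H11Ample

namespace Groth.Agent.H10Coh.Tw

variable {X : Scheme.{u}} {L : X.Modules}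

theorem map_tm {M N : X.Modules} (φ : M ⟶ N) (E : X.Modules) {U : X.Opens} (m : Γ(M, U)) (e : Γ(E, U)) :
    (LimSh.tensorModMap φ E).app U (tm m e) = tm (φ.app U m) e := by
  have h := (PresheafOfModules.sheafificationAdjunction (𝟙 X.ringCatSheaf.obj)).unit.naturality
    (show (CohB1.tensorPre M E : X.PresheafOfModules) ⟶ (CohB1.tensorPre N E : X.PresheafOfModules) from
      (MonoidalCategory.whiskerRight (show CohB1.toPMod M ⟶ CohB1.toPMod N from φ.val) (CohB1.toPMod E)))
  exact (ConcreteCategory.congr_hom (congrArg (fun k => PresheafOfModules.Hom.app k (op U)) h)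
    ((show (CohB1.toPMod M).obj (op U) from m) ⊗ₜ (show (CohB1.toPMod E).obj (op U) from e))).symm

theorem exists_eq_tm {F : X.Modules} (hL : PicF.IsInvertible L) {W : X.Opens}
    (t : Γ(CohB1.tensorMod F L, W)) {x : X} (hx : x ∈ W) :
    ∃ (V : X.Opens) (hV : V ≤ W) (e : Γ(L, V)) (m : Γ(F, V)), x ∈ V ∧ IsGen L e ∧
      (CohB1.tensorMod F L).presheaf.map (homOfLE hV).op t = tm m e := by
  obtain ⟨U, e, hxU, he⟩ := exists_gen hL x
  obtain ⟨m, hm⟩ := (bijective_tm (F := F) he (inf_le_left : U ⊓ W ≤ U)).2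
    ((CohB1.tensorMod F L).presheaf.map (homOfLE (inf_le_right : U ⊓ W ≤ W)).op t)
  exact ⟨U ⊓ W, inf_le_right, _, m, ⟨hxU, hx⟩, he.res inf_le_left, hm.symm⟩

theorem tm_inj {F : X.Modules} {V : X.Opens} {e : Γ(L, V)} (he : IsGen L e) {a b : Γ(F, V)}
    (h : tm a e = tm b e) : a = b := by
  refine (bijective_tm (F := F) he le_rfl).1 ?_
  beta_reduce
  rwa [mres_self]

theorem zero_comp {S : ShortComplex X.Modules} (hL : PicF.IsInvertible L) :
    LimSh.tensorModMap S.f L ≫ LimSh.tensorModMap S.g L = 0 := by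
  refine Scheme.Modules.hom_ext _ _ fun W => ?_
  ext t
  refine eq_of_locally _ _ fun x hx => ?_
  obtain ⟨V, hV, e, m, hxV, he, hm⟩ := exists_eq_tm hL t hx
  refine ⟨V, hV, hxV, ?_⟩
  rw [← app_map_apply, hm]
  refine Eq.trans (congrArg ((LimSh.tensorModMap S.g L).app V) (map_tm S.f L m e)) ?_
  rw [map_tm]
  refine Eq.trans ?_ (map_zero _).symm
  rw [show S.g.app V (S.f.app V m) = 0 from congr($(congrArg (fun k => Scheme.Modules.Hom.app k V) S.zero) m),
    tm_zero_left]

/-- The twisted sequence. -/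
def seq (S : ShortComplex X.Modules) (hL : PicF.IsInvertible L) : ShortComplex X.Modules :=
  ShortComplex.mk (LimSh.tensorModMap S.f L) (LimSh.tensorModMap S.g L) (zero_comp hL)

theorem epi_map {M N : X.Modules} (φ : M ⟶ N) [Epi φ] (hL : PicF.IsInvertible L) :
    Epi (LimSh.tensorModMap φ L) := by
  refine H11Tilde.epi_of_locally_surjective _ fun W t x hx => ?_
  obtain ⟨V, hV, e, n, hxV, he, hn⟩ := exists_eq_tm hL t hx
  obtain ⟨V', hV', hxV', m, hm⟩ := exists_nhds_lift_of_epi φ V n x hxV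
  refine ⟨V', hV'.trans hV, hxV', tm m (L.presheaf.map (homOfLE hV').op e), ?_⟩
  rw [map_tm, hm, ← tm_res, ← hn, mres_mres]

theorem shortExact_seq {S : ShortComplex X.Modules} (hS : S.ShortExact) (hL : PicF.IsInvertible L) :
    (seq S hL).ShortExact := by
  have := hS.mono_f
  have := hS.epi_g
  refine { exact := H11Tilde.exact_of_locally _ fun W t ht x hx => ?_, mono_f := ?_, epi_g := epi_map S.g hL }
  · obtain ⟨V, hV, e, m, hxV, he, hm⟩ := exists_eq_tm hL t hx
    have h0 : tm (S.g.app V m) e = tm (0 : Γ(S.X₃, V)) e := by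
      rw [tm_zero_left, ← map_tm, ← hm]
      refine (app_map_apply _ _ _).trans ?_
      exact (congrArg _ ht).trans (map_zero _)
    obtain ⟨a, ha⟩ := exists_app_eq_of_exact hS V m (tm_inj he h0)
    refine ⟨V, hV, hxV, tm a e, ?_⟩
    exact (map_tm S.f L a e).trans ((congrArg (fun z => tm z e) ha).trans hm.symm)
  · refine H11Tilde.mono_of_injective _ fun W t ht x hx => ?_
    obtain ⟨V, hV, e, m, hxV, he, hm⟩ := exists_eq_tm hL t hx
    have h0 : tm (S.f.app V m) e = tm (0 : Γ(S.X₂, V)) e := by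
      rw [tm_zero_left, ← map_tm, ← hm]
      refine (app_map_apply _ _ _).trans ?_
      exact (congrArg _ ht).trans (map_zero _)
    refine ⟨V, hV, hxV, ?_⟩
    rw [show m = 0 from injective_app_of_mono' S.f V ((tm_inj he h0).trans (map_zero _).symm), tm_zero_left] at hm
    exact hm

end Groth.Agent.H10Coh.Tw
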