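import Groth.Agent.H10Coh.Serre
import Groth.Agent.H10Coh.TwistExact
import Groth.Agent.H11Ample.Ample

/-!
# A cohomological criterion for ampleness
-/

set_option autoImplicit false
set_option linter.style.haveILetI false

noncomputable section

universe u

open CategoryTheory CategoryTheory.Limits AlgebraicGeometry Opposite TopologicalSpace
open Groth.Agent.H11Tilde Groth.Agent.H11Ample

namespace Groth.Agent.H10Coh.Tw

attribute [local instance 10000] hasSheafifyAb hasWeakSheafifyAb hasExtAb enoughInjAb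

variable {X : Scheme.{u}} {N : X.Modules}

theorem gen_inf_of_tm_one {V : X.Opens} {e : Γ(N, V)} (he : IsGen N e)
    (s : Γ(CohB1.tensorMod (Coh.structureModule X) N, ⊤)) (c : Γ(X, V))
    (hs : (CohB1.tensorMod (Coh.structureModule X) N).presheaf.map (homOfLE (le_top : V ≤ ⊤)).op s =
      tm (show Γ(Coh.structureModule X, V) from c) e) :
    gen (CohB1.tensorMod (Coh.structureModule X) N) s ⊓ V = X.basicOpen c := by
  refine gen_inf_eq_basicOpen (isGen_tm (isGen_one V) he) s c (hs.trans ?_)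
  rw [← tm_smul_left, smul_one_eq]

/-- The closed subset `Uᶜ ∪ {x}`. -/
def badSet (U : X.Opens) {x : X} (hx : IsClosed ({x} : Set X)) : Closeds X :=
  ⟨(U : Set X)ᶜ ∪ {x}, U.isOpen.isClosed_compl.union hx⟩

/-- A section of a twist of the structure module cutting out an affine neighbourhood of a closed point. -/
theorem exists_gen_affine (hN : PicF.IsInvertible N) {U : X.Opens} (hU : IsAffineOpen U) {ε : Γ(N, U)}
    (hε : IsGen N ε) {x : X} (hxU : x ∈ U) (hx : IsClosed ({x} : Set X))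
    (hI : Subsingleton (HnM (CohB1.tensorMod
      (kernel (ClSub.toSubscheme (Scheme.IdealSheafData.vanishingIdeal (badSet U hx)))) N) 1 ⊤)) :
    ∃ s : Γ(CohB1.tensorMod (Coh.structureModule X) N, ⊤), x ∈ gen _ s ∧ IsAffineOpen (gen _ s) := by
  let Z := badSet U hx
  let I := Scheme.IdealSheafData.vanishingIdeal Z
  let i := I.subschemeι
  let Q := ClSub.quotMod I
  let φ : Coh.structureModule X ⟶ Q := ClSub.toSubscheme I
  haveI : Epi φ := epi_toSubscheme I
  have hr : Set.range i = (U : Set X)ᶜ ∪ {x} := by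
    rw [Scheme.IdealSheafData.range_subschemeι, Scheme.IdealSheafData.coe_support_vanishingIdeal]
    rfl
  let Ux : X.Opens := ⟨{x}ᶜ, hx.isOpen_compl⟩
  have hmem : ∀ z : I.subscheme, i z ∉ U ∨ i z = x := fun z => by
    have := hr ▸ Set.mem_range_self z
    exact this
  have hbot : i ⁻¹ᵁ (U ⊓ Ux) = ⊥ := by
    rw [eq_bot_iff]
    rintro z ⟨h1, h2⟩
    exact ((hmem z).resolve_left (not_not.2 h1) |> h2).elim
  have hsub : Subsingleton Γ(Q, U ⊓ Ux) := by
    change Subsingleton Γ(I.subscheme, i ⁻¹ᵁ (U ⊓ Ux))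
    rw [hbot]
    infer_instance
  let T := CohB1.tensorMod Q N
  let q : Γ(Q, U) := φ.app U (one U)
  obtain ⟨w, hw₁, hw₂⟩ := glue_two T (U := U) (V := Ux) (tm q ε) 0 (by
    refine (tm_res (inf_le_left : U ⊓ Ux ≤ U) q ε).trans (Eq.trans ?_ (map_zero _).symm)
    rw [@Subsingleton.elim _ hsub (Q.presheaf.map (homOfLE (inf_le_left : U ⊓ Ux ≤ U)).op q) 0, tm_zero_left])
  have htop : (⊤ : X.Opens) ≤ U ⊔ Ux := fun y _ => by
    by_cases hy : y = x
    · exact Or.inl (hy ▸ hxU)
    · exact Or.inr hy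
  obtain ⟨s, hs⟩ : ∃ s : Γ(CohB1.tensorMod (Coh.structureModule X) N, ⊤),
      (LimSh.tensorModMap φ N).app ⊤ s = T.presheaf.map (homOfLE htop).op w :=
    surjective_app_of_subsingleton_HnM (shortExact_seq (shortExact_kernel φ) hN) ⊤ hI
      (T.presheaf.map (homOfLE htop).op w)
  have key : ∀ {V : X.Opens} (e : Γ(N, V)) (c : Γ(X, V)),
      (CohB1.tensorMod (Coh.structureModule X) N).presheaf.map (homOfLE (le_top : V ≤ ⊤)).op s =
        tm (show Γ(Coh.structureModule X, V) from c) e →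
      tm (φ.app V (show Γ(Coh.structureModule X, V) from c)) e =
        T.presheaf.map (homOfLE ((le_top : V ≤ ⊤).trans htop)).op w := fun {V} e c hc => by
    rw [← map_tm, ← hc]
    refine (app_map_apply _ _ _).trans ?_
    rw [hs]
    exact mres_mres _ _ _ _
  obtain ⟨c, hc⟩ : ∃ c : Γ(X, U), (CohB1.tensorMod (Coh.structureModule X) N).presheaf.map
      (homOfLE (le_top : U ≤ ⊤)).op s = tm (show Γ(Coh.structureModule X, U) from c) ε := by
    obtain ⟨c, hc⟩ := (bijective_tm (F := Coh.structureModule X) hε le_rfl).2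
      ((CohB1.tensorMod (Coh.structureModule X) N).presheaf.map (homOfLE (le_top : U ≤ ⊤)).op s)
    beta_reduce at hc
    rw [mres_self] at hc
    exact ⟨c, hc.symm⟩
  have hUc : gen _ s ⊓ U = X.basicOpen c := gen_inf_of_tm_one hε s c hc
  have hx' : x ∈ gen _ s := by
    have hq : i.app U c = i.app U (1 : Γ(X, U)) := tm_inj hε ((key ε c hc).trans hw₁)
    obtain ⟨z, hz⟩ : x ∈ Set.range i := hr ▸ Or.inr rfl
    have hz' : z ∈ i ⁻¹ᵁ U := show i z ∈ U from hz ▸ hxU
    have hb : z ∈ i ⁻¹ᵁ X.basicOpen c := by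
      rw [Scheme.preimage_basicOpen, hq, map_one, Scheme.basicOpen_of_isUnit _ isUnit_one]
      exact hz'
    exact (hUc.ge (show x ∈ X.basicOpen c from hz ▸ hb)).1
  have hle : gen _ s ≤ U := fun y hy => by
    by_contra hyU
    obtain ⟨V, e, hyV, he⟩ := exists_gen hN y
    have hyW : y ∈ V ⊓ Ux := ⟨hyV, fun h => hyU (h.symm ▸ hxU)⟩
    have heW := he.res (inf_le_left : V ⊓ Ux ≤ V)
    obtain ⟨c', hc'⟩ := (bijective_tm (F := Coh.structureModule X) heW le_rfl).2
      ((CohB1.tensorMod (Coh.structureModule X) N).presheaf.map (homOfLE (le_top : V ⊓ Ux ≤ ⊤)).op s)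
    beta_reduce at hc'
    rw [mres_self] at hc'
    have hq : i.app (V ⊓ Ux) (show Γ(X, V ⊓ Ux) from c') = 0 := by
      refine tm_inj (F := Q) heW ?_
      refine ((key _ (show Γ(X, V ⊓ Ux) from c') hc'.symm).trans ?_).trans (tm_zero_left _).symm
      refine ((mres_mres T (le_sup_right : Ux ≤ U ⊔ Ux) (inf_le_right : V ⊓ Ux ≤ Ux) w).symm).trans ?_
      exact (congrArg _ hw₂).trans (map_zero _)
    obtain ⟨z, hz⟩ : y ∈ Set.range i := hr ▸ Or.inl hyU
    have hyb : y ∈ X.basicOpen (show Γ(X, V ⊓ Ux) from c') :=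
      (gen_inf_of_tm_one heW s (show Γ(X, V ⊓ Ux) from c') hc'.symm).le ⟨hy, hyW⟩
    have hzb : z ∈ i ⁻¹ᵁ X.basicOpen (show Γ(X, V ⊓ Ux) from c') := show i z ∈ _ from hz ▸ hyb
    rw [Scheme.preimage_basicOpen, hq, Scheme.basicOpen_zero] at hzb
    exact hzb
  refine ⟨s, hx', ?_⟩
  rw [← inf_eq_left.2 hle, hUc]
  exact hU.basicOpen c

/-- A quasi-compact scheme with an invertible module killing `H¹` of ideals is ample. -/
theorem isAmple_of_H1 [CompactSpace X] {L : X.Modules} (hL : PicF.IsInvertible L)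
    (h : ∀ (I : X.Modules) (i : I ⟶ Coh.structureModule X), Mono i → Coh.IsQCoh I →
      ∃ n : ℕ, Subsingleton (HnM (CohB1.tensorMod I (CohB1.tensorPow L (n + 1))) 1 ⊤)) :
    CohB1.IsAmple L := by
  refine isAmple_iff.2 ⟨hL, inferInstance, fun y => ?_⟩
  obtain ⟨x, hxy, hx⟩ := (isClosed_closure (s := ({y} : Set X))).exists_closed_singleton (by simp)
  obtain ⟨V, e, hxV, he⟩ := exists_gen hL x
  obtain ⟨U, hU, hxU, hUV⟩ := exists_isAffineOpen_mem_and_subset (U := V) hxV
  let I := Scheme.IdealSheafData.vanishingIdeal (badSet U hx)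
  have hq : (ClSub.quotMod I).IsQuasicoherent :=
    @isQuasicoherent_pushforward _ _ I.subschemeι inferInstance inferInstance _ isQuasicoherent_unit
  have hu : (Coh.structureModule X).IsQuasicoherent := isQuasicoherent_unit
  obtain ⟨n, hn⟩ := h (kernel (ClSub.toSubscheme I)) (kernel.ι _) inferInstance
    (isQuasicoherent_kernel _)
  obtain ⟨s, hxs, hsaff⟩ := exists_gen_affine (isInvertible_tensorPow hL (n + 1)) hU
    (isGen_spow (he.res (show U ≤ V from hUV)) (n + 1)) hxU hx hn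
  obtain ⟨φ, -⟩ := exists_iso_add hL 0 (n + 1)
  obtain ⟨t, ht⟩ := exists_section_of_eq (L := L) (zero_add (n + 1)) (φ.hom.app ⊤ s)
  have hg : gen (CohB1.tensorPow L (n + 1)) t = gen _ s := ht.trans (gen_iso φ.hom s)
  refine ⟨n + 1, t, n.succ_pos, ?_, hg ▸ hsaff⟩
  obtain ⟨z, hz, hzy⟩ := mem_closure_iff.1 hxy _ (gen _ s).isOpen hxs
  exact hg ▸ (Set.mem_singleton_iff.1 hzy ▸ hz)

end Groth.Agent.H10Coh.Tw
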