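import Groth.Agent.H10Coh.SerreVanishing2
import Groth.Agent.H10Coh.AmpleCriterion
import Groth.Agent.H17.Image
import Groth.Agent.H11Ample.AmpleOn
import Groth.Agent.S0027

/-!
# Ampleness by devissage
-/

set_option autoImplicit false
set_option linter.style.haveILetI false

noncomputable section

universe u

open CategoryTheory CategoryTheory.Limits AlgebraicGeometry Opposite TopologicalSpace
open Groth.Agent.H11Tilde Groth.Agent.H11Ample

namespace Groth.Agent.H10Coh.Tw

attribute [local instance 10000] hasSheafifyAb hasWeakSheafifyAb hasExtAb enoughInjAb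

section top

variable {T : TopCat.{u}}

theorem subsingleton_X₂ {S : ShortComplex (CohTop.Ab T)} (hS : S.ShortExact) {n : ℕ} {U : Opens T}
    (h₁ : Subsingleton (Hn S.X₁ n U)) (h₃ : Subsingleton (Hn S.X₃ n U)) : Subsingleton (Hn S.X₂ n U) :=
  ⟨fun a b => by
    have key : ∀ x : Hn S.X₂ n U, x = 0 := fun x => by
      obtain ⟨y, hy⟩ := Abelian.Ext.covariant_sequence_exact₂ _ hS x (Subsingleton.elim _ _)
      rw [← hy, Subsingleton.elim y 0, Abelian.Ext.zero_comp]
    rw [key a, key b]⟩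

end top

variable {X : Scheme.{u}} {L : X.Modules}

/-- Eventual vanishing of the higher cohomology of twists, in degrees at least `p₀`. -/
def EvVan (L : X.Modules) (p₀ : ℕ) (F : X.Modules) : Prop :=
  ∃ n₀ : ℕ, ∀ n : ℕ, n₀ ≤ n → ∀ p : ℕ, p₀ ≤ p →
    Subsingleton (HnM (CohB1.tensorMod F (CohB1.tensorPow L n)) p ⊤)

theorem EvVan.of_iso {p₀ : ℕ} {F G : X.Modules} (e : F ≅ G) (h : EvVan L p₀ F) : EvVan L p₀ G := by
  obtain ⟨n₀, h⟩ := h
  exact ⟨n₀, fun n hn p hp => subsingleton_of_iso (PicGrp.tensorModIso e (Iso.refl _)) (h n hn p hp)⟩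

theorem EvVan.X₂ (hL : PicF.IsInvertible L) {p₀ : ℕ} {S : ShortComplex X.Modules} (hS : S.ShortExact)
    (h₁ : EvVan L p₀ S.X₁) (h₃ : EvVan L p₀ S.X₃) : EvVan L p₀ S.X₂ := by
  obtain ⟨a, ha⟩ := h₁
  obtain ⟨b, hb⟩ := h₃
  exact ⟨max a b, fun n hn p hp =>
    subsingleton_X₂ (shortExact_sh (shortExact_seq hS (isInvertible_tensorPow hL n)))
      (ha n ((le_max_left _ _).trans hn) p hp) (hb n ((le_max_right _ _).trans hn) p hp)⟩

theorem EvVan.X₃ (hL : PicF.IsInvertible L) {p₀ : ℕ} {S : ShortComplex X.Modules} (hS : S.ShortExact)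
    (h₂ : EvVan L p₀ S.X₂) (h₁ : EvVan L (p₀ + 1) S.X₁) : EvVan L p₀ S.X₃ := by
  obtain ⟨a, ha⟩ := h₂
  obtain ⟨b, hb⟩ := h₁
  exact ⟨max a b, fun n hn p hp =>
    subsingleton_X₃ (shortExact_sh (shortExact_seq hS (isInvertible_tensorPow hL n)))
      (ha n ((le_max_left _ _).trans hn) p hp) (hb n ((le_max_right _ _).trans hn) (p + 1) (by omega))⟩

variable {A : Type u} [CommRing A] [IsNoetherianRing A] (q : X ⟶ Spec (CommRingCat.of A)) [IsProper q]

include q in
/-- Push forwards along finite morphisms pulling `L` back to an ample module have eventual vanishing. -/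
theorem evVan_push {Z : Scheme.{u}} (i : Z ⟶ X) [IsFinite i] (hL : PicF.IsInvertible L)
    (ha : CohB1.IsAmple ((Scheme.Modules.pullback i).obj L)) (G : Z.Modules) (hG : Coh.IsCoh G) :
    EvVan L 1 ((Coh.push i).obj G) := by
  obtain ⟨n₀, hn₀⟩ := exists_vanishing_ample (i ≫ q) ha G hG
  refine ⟨n₀, fun n hn p hp => ?_⟩
  obtain ⟨e⟩ := nonempty_push_tensor_iso i G (isInvertible_tensorPow hL n)
  obtain ⟨e'⟩ := exists_iso_pullback_tensorPow i hL n
  have hi := isInvertible_pullback i (isInvertible_tensorPow hL n)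
  haveI : (CohB1.tensorMod G ((Scheme.Modules.pullback i).obj (CohB1.tensorPow L n))).IsQuasicoherent :=
    isQCoh_tensor hG.1 hi
  refine subsingleton_of_iso e.symm ?_
  exact @Equiv.subsingleton _ _ (affineLerayEquiv i _ p ⊤).toEquiv
    (subsingleton_of_iso (PicGrp.tensorModIso (Iso.refl G) e'.symm) (hn₀ n hn p hp))

include q in
/-- If all coherent modules have eventual vanishing of `H¹`, the module is ample. -/
theorem isAmple_of_evVan (hL : PicF.IsInvertible L) (h : ∀ F : X.Modules, Coh.IsCoh F → EvVan L 1 F) :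
    CohB1.IsAmple L := by
  haveI : IsLocallyNoetherian X := LocallyOfFiniteType.isLocallyNoetherian q
  haveI : CompactSpace X := QuasiCompact.compactSpace_of_compactSpace q
  refine isAmple_of_H1 hL fun I i hi hI => ?_
  haveI := hi
  obtain ⟨n₀, hn₀⟩ := h I (isCoh_of_mono i hI
    ((isCoh_iff_finite_sections _).2 ⟨isQuasicoherent_unit, fun U _ => (Module.Finite.self Γ(X, U) :)⟩))
  exact ⟨n₀, hn₀ (n₀ + 1) n₀.le_succ 1 le_rfl⟩

include q in
/-- Ampleness may be tested on integral closed subschemes. -/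
theorem isAmple_of_integral (hL : PicF.IsInvertible L)
    (h : ∀ (Z : Scheme.{u}) (i : Z ⟶ X), IsClosedImmersion i → IsIntegral Z →
      CohB1.IsAmple ((Scheme.Modules.pullback i).obj L)) : CohB1.IsAmple L := by
  haveI : IsLocallyNoetherian X := LocallyOfFiniteType.isLocallyNoetherian q
  haveI : CompactSpace X := QuasiCompact.compactSpace_of_compactSpace q
  haveI : IsNoetherian X := ⟨⟩
  rcases isEmpty_or_nonempty X with he | hne
  · exact isAmple_iff.2 ⟨hL, inferInstance, fun x => he.elim x⟩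
  refine isAmple_of_evVan q hL fun F hF => ?_
  refine S0027.result X (EvVan L 1) (fun M N ⟨e⟩ hM => hM.of_iso e) (fun S hS _ _ _ h₁ h₃ => h₁.X₂ hL hS h₃)
    (fun Z i hi hZ I ι hι hI => ?_) F hF
  haveI := hi
  haveI := hι
  haveI : IsLocallyNoetherian Z := LocallyOfFiniteType.isLocallyNoetherian (i ≫ q)
  exact evVan_push q i hL (h Z i hi hZ) I (isCoh_of_mono ι hI
    ((isCoh_iff_finite_sections _).2 ⟨isQuasicoherent_unit, fun U _ => (Module.Finite.self Γ(Z, U) :)⟩))

include q in
/-- Ampleness may be tested on a finite family of closed subschemes covering `X`. -/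
theorem isAmple_of_closed_cover (hL : PicF.IsInvertible L) {ι : Type*} (Y : ι → Scheme.{u}) (j : ∀ k, Y k ⟶ X)
    [∀ k, IsClosedImmersion (j k)] (hcov : ∀ x : X, ∃ k, x ∈ Set.range (j k))
    (h : ∀ k, CohB1.IsAmple ((Scheme.Modules.pullback (j k)).obj L)) : CohB1.IsAmple L := by
  refine isAmple_of_integral q hL fun Z i hi hZ => ?_
  haveI := hi
  obtain ⟨k, hk⟩ := hcov (i (genericPoint Z))
  have hsub : Set.range i ⊆ Set.range (j k) := by
    rintro _ ⟨z, rfl⟩
    exact ((genericPoint_specializes z).map i.continuous).mem_closed (j k).isClosedEmbedding.isClosed_range hk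
  obtain ⟨g, rfl⟩ := H17.exists_lift_of_range_subset i (j k) hsub
  haveI : IsClosedImmersion g := IsClosedImmersion.of_comp g (j k)
  exact (isAmple_pullback_comp_iff g (j k) L).2 (isAmple_pullback_of_isAffineHom g (h k))

end Groth.Agent.H10Coh.Tw
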