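import Groth.Agent.H17.PrinOmega
import Groth.Agent.H29Blow.QCohLoc
import Groth.Agent.H29Blow.QCohExt
import Groth.Agent.H10Coh.FinType
import Groth.Agent.H11Tilde.ModLoc

/-!
# Morphisms out of a module with local generators, and sections hit by them
-/

set_option autoImplicit false

noncomputable section

universe u

open CategoryTheory CategoryTheory.Limits AlgebraicGeometry Opposite TopologicalSpace

namespace Groth.Agent.H10Coh

variable {X : Scheme.{u}}

/-- A section which is a free generator on every smaller open. -/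
def IsFreeGen (L : X.Modules) {U : X.Opens} (e : Γ(L, U)) : Prop :=
  ∀ (V : X.Opens) (h : V ≤ U), Function.Bijective fun r : Γ(X, V) => r • L.presheaf.map (homOfLE h).op e

theorem exists_hom_of_gens (L F : X.Modules) {ι : Type*} (U : ι → X.Opens) (hU : ∀ x, ∃ j, x ∈ U j)
    (e : ∀ j, Γ(L, U j)) (he : ∀ j, IsFreeGen L (e j)) (v : ∀ j, Γ(F, U j))
    (hv : ∀ (j l : ι) (V : X.Opens) (hj : V ≤ U j) (hl : V ≤ U l) (c : Γ(X, V)),
      L.presheaf.map (homOfLE hj).op (e j) = c • L.presheaf.map (homOfLE hl).op (e l) →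
      F.presheaf.map (homOfLE hj).op (v j) = c • F.presheaf.map (homOfLE hl).op (v l)) :
    ∃ φ : L ⟶ F, ∀ j, φ.app (U j) (e j) = v j := by
  classical
  let B : X.Opens → Prop := fun V => ∃ j, V ≤ U j
  have hB : ∀ (W : X.Opens) (x : X), x ∈ W → ∃ V, B V ∧ x ∈ V ∧ V ≤ W := fun W x hx => by
    obtain ⟨j, hj⟩ := hU x
    exact ⟨W ⊓ U j, ⟨j, inf_le_right⟩, ⟨hx, hj⟩, inf_le_left⟩
  let κ : ∀ (j : ι) (V : X.Opens), V ≤ U j → Γ(L, V) → Γ(X, V) := fun j V h s => ((he j V h).2 s).choose
  have hκ : ∀ j V h s, κ j V h s • L.presheaf.map (homOfLE h).op (e j) = s := fun j V h s =>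
    ((he j V h).2 s).choose_spec
  have key : ∀ (j l : ι) (V : X.Opens) (hj : V ≤ U j) (hl : V ≤ U l) (r : Γ(X, V)) (r' : Γ(X, V)),
      r • L.presheaf.map (homOfLE hj).op (e j) = r' • L.presheaf.map (homOfLE hl).op (e l) →
      r • F.presheaf.map (homOfLE hj).op (v j) = r' • F.presheaf.map (homOfLE hl).op (v l) := by
    intro j l V hj hl r r' h
    have hc := hκ l V hl (L.presheaf.map (homOfLE hj).op (e j))
    rw [← hc, smul_smul] at h
    rw [hv j l V hj hl _ hc.symm, smul_smul, (he l V hl).1 h]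
  let ν : ∀ V, B V → Γ(L, V) →ₗ[Γ(X, V)] Γ(F, V) := fun V hV =>
    { toFun := fun s => κ hV.choose V hV.choose_spec s • F.presheaf.map (homOfLE hV.choose_spec).op (v _)
      map_add' := fun s t => by
        rw [← add_smul]
        refine key _ _ _ _ _ _ _ ?_
        rw [add_smul, hκ, hκ, hκ]
      map_smul' := fun r s => by
        rw [RingHom.id_apply, smul_smul]
        refine key _ _ _ _ _ _ _ ?_
        rw [mul_smul, hκ, hκ] }
  obtain ⟨φ, hφ⟩ := H17.PrinOmega.exists_hom_of_basis L F B hB ν fun V V' hV hV' h s => by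
    change κ _ V' hV'.choose_spec _ • F.presheaf.map (homOfLE hV'.choose_spec).op (v _) =
      F.presheaf.map (homOfLE h).op (κ _ V hV.choose_spec s • F.presheaf.map (homOfLE hV.choose_spec).op (v _))
    refine Eq.trans ?_ (F.map_smul _ _ _).symm
    rw [mres_mres]
    refine key _ _ V' _ _ _ _ ?_
    rw [hκ, ← mres_mres L hV.choose_spec h]
    exact (congrArg (L.presheaf.map (homOfLE h).op) (hκ _ V hV.choose_spec s)).symm.trans (L.map_smul _ _ _)
  refine ⟨φ, fun j => ?_⟩
  have hj : B (U j) := ⟨j, le_rfl⟩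
  refine (hφ (U j) hj (e j)).trans ?_
  refine (key _ j _ _ le_rfl _ 1 ?_).trans (by rw [one_smul, mres_self])
  rw [hκ, one_smul, mres_self]

/-- A section over one member of an affine cover with pairwise basic intersections becomes, after
multiplying with a power of the transition functions, part of a compatible family. -/
theorem exists_compat_extension (F : X.Modules) (hF : Coh.IsQCoh F) {ι : Type*} [Finite ι] (U : ι → X.Opens)
    (hUaff : ∀ j, IsAffineOpen (U j)) (u : ∀ j, ι → Γ(X, U j)) (hu : ∀ j l, X.basicOpen (u j l) = U j ⊓ U l)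
    (hmul : ∀ (j l i : ι) (V : X.Opens) (hj : V ≤ U j) (hl : V ≤ U l),
      X.presheaf.map (homOfLE hj).op (u j i) =
        X.presheaf.map (homOfLE hj).op (u j l) * X.presheaf.map (homOfLE hl).op (u l i))
    (huu : ∀ j, u j j = 1) (i : ι) (σ : Γ(F, U i)) :
    ∃ (k : ℕ) (v : ∀ j, Γ(F, U j)), v i = σ ∧ ∀ (j l : ι) (V : X.Opens) (hj : V ≤ U j) (hl : V ≤ U l),
      F.presheaf.map (homOfLE hj).op (v j) =
        X.presheaf.map (homOfLE hj).op (u j l) ^ k • F.presheaf.map (homOfLE hl).op (v l) := by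
  classical
  have := Fintype.ofFinite ι
  have hji : ∀ j, X.basicOpen (u j i) ≤ U i := fun j => (hu j i).le.trans inf_le_right
  choose k s hs using fun j => H29Blow.exists_pow_smul_eq_res F hF (hUaff j) (u j i)
    (F.presheaf.map (homOfLE (hji j)).op σ)
  obtain ⟨K, hK⟩ : ∃ K, ∀ j, k j ≤ K := ⟨Finset.univ.sup k, fun j => Finset.le_sup (Finset.mem_univ j)⟩
  obtain ⟨t, ht'⟩ : ∃ t : ∀ j, Γ(F, U j), ∀ j, t j = u j i ^ (K - k j) • s j := ⟨_, fun _ => rfl⟩
  have ht : ∀ (j : ι) (V : X.Opens) (hj : V ≤ U j) (hi : V ≤ U i),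
      F.presheaf.map (homOfLE hj).op (t j) =
        X.presheaf.map (homOfLE hj).op (u j i) ^ K • F.presheaf.map (homOfLE hi).op σ := by
    intro j V hj hi
    have hV : V ≤ X.basicOpen (u j i) := by rw [hu]; exact le_inf hj hi
    have h := congrArg (F.presheaf.map (homOfLE hV).op) (hs j)
    rw [Scheme.Modules.map_smul, mres_mres, mres_mres, rres_rres, map_pow] at h
    rw [ht', Scheme.Modules.map_smul, map_pow, h, smul_smul, ← pow_add, Nat.sub_add_cancel (hK j)]
  have hz : ∀ j l, ∃ n : ℕ, ∀ (V : X.Opens) (hj : V ≤ U j) (hl : V ≤ U l),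
      X.presheaf.map (homOfLE hj).op (u j i) ^ n •
        (F.presheaf.map (homOfLE hj).op (t j) -
          X.presheaf.map (homOfLE hj).op (u j l) ^ K • F.presheaf.map (homOfLE hl).op (t l)) = 0 := by
    intro j l
    let W : X.Opens := X.basicOpen (u j l)
    have hWj : W ≤ U j := X.basicOpen_le _
    have hWl : W ≤ U l := (hu j l).le.trans inf_le_right
    let r : Γ(X, W) := X.presheaf.map (homOfLE hWj).op (u j i)
    let d : Γ(F, W) := F.presheaf.map (homOfLE hWj).op (t j) -
      X.presheaf.map (homOfLE hWj).op (u j l) ^ K • F.presheaf.map (homOfLE hWl).op (t l)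
    have hd : F.presheaf.map (homOfLE (X.basicOpen_le r)).op d = 0 := by
      have hri : X.basicOpen r ≤ U i := by
        refine le_trans ?_ (hji j)
        rw [show r = X.presheaf.map (homOfLE hWj).op (u j i) from rfl, Scheme.basicOpen_res]
        exact inf_le_right
      rw [map_sub, Scheme.Modules.map_smul, mres_mres, mres_mres, map_pow, rres_rres,
        ht j _ _ hri, ht l _ _ hri, smul_smul, ← mul_pow,
        ← hmul j l i _ ((X.basicOpen_le r).trans hWj) ((X.basicOpen_le r).trans hWl), sub_self]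
    obtain ⟨n, hn⟩ := H29Blow.exists_pow_smul_eq_zero F hF ((hUaff j).basicOpen (u j l)) r d hd
    refine ⟨n, fun V hj hl => ?_⟩
    have hV : V ≤ W := by change V ≤ X.basicOpen _; rw [hu]; exact le_inf hj hl
    have h := congrArg (F.presheaf.map (homOfLE hV).op) hn
    rw [Scheme.Modules.map_smul, map_zero, map_pow, map_sub, Scheme.Modules.map_smul, mres_mres, mres_mres,
      map_pow, rres_rres, rres_rres] at h
    exact h
  choose N hN using hz
  obtain ⟨M, hM⟩ : ∃ M, ∀ j l, N j l ≤ M :=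
    ⟨Finset.univ.sup fun j => Finset.univ.sup (N j), fun j l =>
      (Finset.le_sup (f := N j) (Finset.mem_univ l)).trans (Finset.le_sup (f := fun j => Finset.univ.sup (N j))
        (Finset.mem_univ j))⟩
  refine ⟨K + M, fun j => u j i ^ M • t j, ?_, ?_⟩
  · change u i i ^ M • t i = σ
    have h := ht i (U i) le_rfl le_rfl
    rw [mres_self, mres_self, huu, map_one, one_pow, one_smul] at h
    rw [h, huu, one_pow, one_smul]
  · intro j l V hj hl
    obtain ⟨e, rfl⟩ : ∃ e, M = N j l + e := Nat.exists_eq_add_of_le (hM j l)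
    have h2 : X.presheaf.map (homOfLE hj).op (u j i) ^ (N j l + e) •
        (F.presheaf.map (homOfLE hj).op (t j) -
          X.presheaf.map (homOfLE hj).op (u j l) ^ K • F.presheaf.map (homOfLE hl).op (t l)) = 0 := by
      rw [add_comm, pow_add, mul_smul, hN j l V hj hl, smul_zero]
    rw [smul_sub, sub_eq_zero] at h2
    rw [Scheme.Modules.map_smul, Scheme.Modules.map_smul, map_pow, map_pow, h2, smul_smul, smul_smul]
    rw [hmul j l i V hj hl]
    congr 1
    ring

/-- A morphism whose image contains generators on the members of an affine cover is epi. -/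
theorem epi_of_surjective_on_cover {G F : X.Modules} (φ : G ⟶ F) (hF : Coh.IsQCoh F) {ι : Type*}
    (U : ι → X.Opens) (hUaff : ∀ j, IsAffineOpen (U j)) (hU : ∀ x, ∃ j, x ∈ U j)
    (h : ∀ j, ∃ S : Set Γ(F, U j), Submodule.span Γ(X, U j) S = ⊤ ∧ ∀ σ ∈ S, ∃ a, φ.app (U j) a = σ) :
    Epi φ := by
  refine H11Tilde.epi_of_locally_surjective φ fun W t x hx => ?_
  obtain ⟨j, hj⟩ := hU x
  obtain ⟨r, hrW, hxr⟩ := (hUaff j).exists_basicOpen_le (V := W) ⟨x, hx⟩ hj
  refine ⟨X.basicOpen r, hrW, hxr, ?_⟩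
  obtain ⟨n, s, hs⟩ := H29Blow.exists_pow_smul_eq_res F hF (hUaff j) r (F.presheaf.map (homOfLE hrW).op t)
  obtain ⟨S, hspan, hS⟩ := h j
  have hsS : s ∈ Submodule.span Γ(X, U j) S := hspan ▸ Submodule.mem_top
  have hsur : ∃ a, φ.app (U j) a = s := by
    clear hs
    induction hsS using Submodule.span_induction with
    | mem y hy => exact hS y hy
    | zero => exact ⟨0, map_zero _⟩
    | add y z _ _ hy hz =>
      obtain ⟨a, rfl⟩ := hy
      obtain ⟨b, rfl⟩ := hz
      exact ⟨a + b, map_add _ _ _⟩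
    | smul c y _ hy =>
      obtain ⟨a, rfl⟩ := hy
      exact ⟨c • a, Scheme.Modules.Hom.app_smul _ _ _⟩
  obtain ⟨a, ha⟩ := hsur
  have hu : IsUnit (X.presheaf.map (homOfLE (X.basicOpen_le r)).op (r ^ n)) := by
    rw [map_pow]
    exact (X.toRingedSpace.isUnit_res_basicOpen r).pow n
  refine ⟨(↑hu.unit⁻¹ : Γ(X, X.basicOpen r)) • G.presheaf.map (homOfLE (X.basicOpen_le r)).op a, ?_⟩
  refine (Scheme.Modules.Hom.app_smul φ _ _).trans ?_
  rw [H17.PrinOmega.app_res φ (X.basicOpen_le r) a, ha, hs, smul_smul, IsUnit.val_inv_mul, one_smul]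

end Groth.Agent.H10Coh
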