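import Groth.Agent.H10Coh.TensorBasics
import Groth.Agent.H10Coh.Bounded
import Groth.Agent.H10Coh.Serre
import Groth.Agent.H10Coh.AmpleCriterion
import Groth.Agent.H11Ample.Global
import Groth.Agent.H8Props.FinLocFree.Global
import Groth.Agent.H16Derived.KFlat.LocFreeOps
import Groth.Agent.H17.InvertibleTensor
import Groth.Agent.H28Pinch.DirectImageTrivial

/-!
# A scheme on which negative powers of an ample module have no higher cohomology is affine
-/

set_option autoImplicit false
set_option linter.style.haveILetI false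

noncomputable section

universe u

open CategoryTheory CategoryTheory.Limits AlgebraicGeometry Opposite TopologicalSpace
open Groth.Agent.H11Tilde Groth.Agent.H11Ample Groth.Agent.H8Props.FinLocFree

namespace Groth.Agent.H10Coh.Tw

attribute [local instance 10000] hasSheafifyAb hasWeakSheafifyAb hasExtAb enoughInjAb

variable {X : Scheme.{u}}

/-- The linear map on sections. -/
def appLinAA {M N : X.Modules} (φ : M ⟶ N) (V : X.Opens) : Γ(M, V) →ₗ[Γ(X, V)] Γ(N, V) where
  toFun := φ.app V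
  map_add' := map_add _
  map_smul' := φ.app_smul

theorem isCoh_of_vb {F : X.Modules} (hF : FlatMod.IsFinLocFree F) : Coh.IsCoh F :=
  (isCoh_iff_finite_sections F).2
    ⟨isQCoh_of_isFinLocFree F hF, fun _ hU => (finite_projective_sections F hF hU).1⟩

theorem isFinLocFree_kernel {E F : X.Modules} (τ : E ⟶ F) [Epi τ] (hE : FlatMod.IsFinLocFree E)
    (hF : FlatMod.IsFinLocFree F) : FlatMod.IsFinLocFree (kernel τ) := by
  haveI : E.IsQuasicoherent := isQCoh_of_isFinLocFree _ hE
  haveI : F.IsQuasicoherent := isQCoh_of_isFinLocFree _ hF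
  refine isFinLocFree_of_sections _ (isQuasicoherent_kernel τ) fun x => ?_
  obtain ⟨V, hV, hxV, -⟩ := exists_isAffineOpen_mem_and_subset (X := X) (U := ⊤) (x := x) trivial
  obtain ⟨hEf, hEp⟩ := finite_projective_sections E hE hV
  obtain ⟨hFf, hFp⟩ := finite_projective_sections F hF hV
  haveI := hEf; haveI := hEp; haveI := hFp
  let g := appLinAA τ V
  let i := appLinAA (kernel.ι τ) V
  have hg : Function.Surjective g := surjective_app_of_epi τ hV
  obtain ⟨s, hs⟩ := Module.projective_lifting_property g LinearMap.id hg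
  have hgi : ∀ k, g (i k) = 0 := fun k =>
    congrArg (fun φ : kernel τ ⟶ F => φ.app V k) (kernel.condition τ)
  have hex : ∀ z, ∃ k, i k = z - s (g z) := fun z =>
    exists_app_eq_of_exact (shortExact_kernel τ) V (z - s (g z))
      ((map_sub g z (s (g z))).trans (sub_eq_zero.2 (LinearMap.congr_fun hs (g z)).symm))
  choose p hp using hex
  have hi : Function.Injective i := injective_app_of_mono' (kernel.ι τ) V
  let P : Γ(E, V) →ₗ[Γ(X, V)] Γ(kernel τ, V) :=
    { toFun := p
      map_add' := fun a b => hi (by simp only [hp, map_add]; abel)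
      map_smul' := fun r a => hi (by simp only [hp, map_smul, RingHom.id_apply, smul_sub]) }
  have hPi : ∀ k, P (i k) = k := fun k => hi ((hp _).trans (by rw [hgi, map_zero, sub_zero]))
  haveI : Module.Projective Γ(X, V) Γ(kernel τ, V) := Module.Projective.of_split i P (LinearMap.ext hPi)
  haveI : Module.Finite Γ(X, V) Γ(kernel τ, V) := Module.Finite.of_surjective P fun k => ⟨_, hPi k⟩
  exact ⟨V, hV, hxV, Module.finitePresentation_of_projective _ _, inferInstance⟩

theorem exists_epi_sigma [CompactSpace X] [QuasiSeparatedSpace X] {L : X.Modules} (hL : CohB1.IsAmple L)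
    {F : X.Modules} (hF : Coh.IsCoh F) (n₁ : ℕ) :
    ∃ (k : ℕ) (r : ℕ) (ψ : (∐ fun _ : Fin r => Coh.structureModule X) ⟶
      CohB1.tensorMod F (CohB1.tensorPow L k)), n₁ ≤ k ∧ Epi ψ := by
  obtain ⟨n₀, h⟩ := eventually_spanning hL hF
  obtain ⟨ι, _, g, hg⟩ := h (max n₀ n₁) (le_max_left _ _)
  let q : Fin (Fintype.card ι) ≃ ι := (Fintype.equivFin ι).symm
  let M := CohB1.tensorMod F (CohB1.tensorPow L (max n₀ n₁))
  refine ⟨max n₀ n₁, Fintype.card ι, Sigma.desc fun a => homOfGlobal M (g (q a)), le_max_right _ _,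
    H11Tilde.epi_of_locally_surjective _ fun W t x hx => ?_⟩
  obtain ⟨V, hV, hxV, ht⟩ := hg W t x hx
  refine ⟨V, hV, hxV, ?_⟩
  generalize M.presheaf.map (homOfLE hV).op t = t' at ht ⊢
  induction ht using Submodule.span_induction with
  | mem y hy =>
    obtain ⟨i, rfl⟩ := hy
    refine ⟨(Sigma.ι (fun _ : Fin (Fintype.card ι) => Coh.structureModule X) (q.symm i)).app V (one V), ?_⟩
    refine (congr($(congrArg (fun k => Scheme.Modules.Hom.app k V)
      (Sigma.ι_desc (fun a => homOfGlobal M (g (q a))) (q.symm i))) (one V))).trans ?_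
    change (1 : Γ(X, V)) • M.presheaf.map (homOfLE (le_top : V ≤ ⊤)).op (g (q (q.symm i))) = _
    rw [one_smul, Equiv.apply_symm_apply]
  | zero => exact ⟨0, map_zero _⟩
  | add y z _ _ hy hz =>
    obtain ⟨y', rfl⟩ := hy
    obtain ⟨z', rfl⟩ := hz
    exact ⟨y' + z', map_add _ _ _⟩
  | smul r y _ hy =>
    obtain ⟨y', rfl⟩ := hy
    exact ⟨r • y', Scheme.Modules.Hom.app_smul _ _ _⟩

theorem isFinLocFree_tensorMod {M N : X.Modules} (hM : FlatMod.IsFinLocFree M)
    (hN : FlatMod.IsFinLocFree N) : FlatMod.IsFinLocFree (CohB1.tensorMod M N) :=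
  H16Derived.KFlat.Stalk.isFinLocFree_tensor hM hN

theorem subsingleton_vb [CompactSpace X] [QuasiSeparatedSpace X] {L L' : X.Modules} (hL : CohB1.IsAmple L)
    (hL' : PicF.IsInvertible L') (e : CohB1.tensorMod L L' ≅ Coh.structureModule X) {n₀ : ℕ}
    (h : ∀ n : ℕ, n₀ ≤ n → ∀ p : ℕ, 0 < p → Subsingleton (HnM (CohB1.tensorPow L' n) p ⊤))
    {F : X.Modules} (hF : FlatMod.IsFinLocFree F) {p : ℕ} (hp : 0 < p) :
    Subsingleton (HnM F p ⊤) := by
  obtain ⟨d, hd⟩ := exists_bound (X := X)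
  suffices ∀ j (G : X.Modules), FlatMod.IsFinLocFree G → ∀ p, 0 < p → d ≤ p + j →
      Subsingleton (HnM G p ⊤) from this d F hF p hp (Nat.le_add_left _ _)
  intro j
  induction j with
  | zero =>
    exact fun G hG p _ hdp => @Equiv.subsingleton _ _ (HHEquiv G p).toEquiv.symm
      (hd G (isQCoh_of_isFinLocFree G hG) p hdp)
  | succ j ih =>
    intro G hG p hp hdp
    obtain ⟨k, r, ψ, hk, hψ⟩ := exists_epi_sigma hL (isCoh_of_vb hG) n₀
    let N := CohB1.tensorPow L' k
    have hN : PicF.IsInvertible N := isInvertible_tensorPow hL' k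
    obtain ⟨ee⟩ := nonempty_tensorPow_inverse e hL.1 hL' k
    have hsum : FlatMod.IsFinLocFree (∐ fun _ : Fin r => Coh.structureModule X) :=
      H16Derived.KFlat.Stalk.isFinLocFree_sigma _ fun _ =>
        H28Pinch.isFinLocFree_of_isInvertible (isInvertible_tensorPow hL.1 0)
    have hK := isFinLocFree_kernel ψ hsum (isFinLocFree_tensorMod hG
      (H28Pinch.isFinLocFree_of_isInvertible (isInvertible_tensorPow hL.1 k)))
    have key := subsingleton_quot_tensor ψ hN p (U := ⊤)
      (fun _ => subsingleton_of_iso (leftUnitIso N).symm (h k hk p hp))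
      (ih _ (isFinLocFree_tensorMod hK (H28Pinch.isFinLocFree_of_isInvertible hN)) (p + 1)
        (Nat.succ_pos _) (by omega))
    exact subsingleton_of_iso (assoc G _ _ ≪≫
      ((DCoh.tensorBi (X := X)).obj G).mapIso ee ≪≫ rightUnitIso G) key

theorem basicOpen_le_gen {L N : X.Modules} (hL : PicF.IsInvertible L) (hN : PicF.IsInvertible N)
    (e : CohB1.tensorMod L N ≅ Coh.structureModule X) (g : Γ(L, ⊤))
    (w : Γ(CohB1.tensorMod (Coh.structureModule X) N, ⊤)) :
    X.basicOpen (show Γ(X, ⊤) from (LimSh.tensorModMap (homOfGlobal L g) N ≫ e.hom).app ⊤ w) ≤ gen L g := by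
  intro y hy
  obtain ⟨V, hV, ε, m, hyV, hε, hm⟩ := exists_eq_tm hN w (show y ∈ (⊤ : X.Opens) from trivial)
  obtain ⟨U, η, hyU, hη⟩ := exists_gen hL y
  let W := V ⊓ U
  have hηW := hη.res (inf_le_right : W ≤ U)
  have hεW := hε.res (inf_le_left : W ≤ V)
  obtain ⟨a, ha⟩ := exists_coeff hηW (L.presheaf.map (homOfLE (le_top : W ≤ ⊤)).op g)
  let c : Γ(X, W) := (Coh.structureModule X).presheaf.map (homOfLE (inf_le_left : W ≤ V)).op m
  have hw : (CohB1.tensorMod (Coh.structureModule X) N).presheaf.map (homOfLE (le_top : W ≤ ⊤)).op w =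
      tm (show Γ(Coh.structureModule X, W) from c) (N.presheaf.map (homOfLE (inf_le_left : W ≤ V)).op ε) := by
    rw [← tm_res, ← hm, mres_mres]
  let f : Γ(Coh.structureModule X, ⊤) := (LimSh.tensorModMap (homOfGlobal L g) N ≫ e.hom).app ⊤ w
  let d : Γ(X, W) := e.hom.app W (tm (L.presheaf.map (homOfLE (inf_le_right : W ≤ U)).op η)
    (N.presheaf.map (homOfLE (inf_le_left : W ≤ V)).op ε))
  have hf : (Coh.structureModule X).presheaf.map (homOfLE (le_top : W ≤ ⊤)).op f =
      (show Γ(Coh.structureModule X, W) from (c * a) * d) := by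
    refine (app_map_apply (LimSh.tensorModMap (homOfGlobal L g) N ≫ e.hom) (le_top : W ≤ ⊤) w).symm.trans ?_
    rw [hw]
    refine (congrArg (e.hom.app W) (map_tm (homOfGlobal L g) N _ _)).trans ?_
    have hh : (homOfGlobal L g).app W (show Γ(Coh.structureModule X, W) from c) =
        c • L.presheaf.map (homOfLE (le_top : W ≤ ⊤)).op g := rfl
    rw [hh, ha, smul_smul, tm_smul_left, Scheme.Modules.Hom.app_smul]
    rfl
  have hf' : X.presheaf.map (homOfLE (le_top : W ≤ ⊤)).op (show Γ(X, ⊤) from f) = (c * a) * d := hf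
  have hy' : y ∈ X.basicOpen (X.presheaf.map (homOfLE (le_top : W ≤ ⊤)).op (show Γ(X, ⊤) from f)) := by
    rw [Scheme.basicOpen_res]
    exact ⟨⟨hyV, hyU⟩, hy⟩
  rw [hf', Scheme.basicOpen_mul, Scheme.basicOpen_mul] at hy'
  exact ((gen_inf_eq_basicOpen hηW g a ha).ge hy'.1.2).1

theorem isAffine_of_vanishing_neg {L L' : X.Modules} (hL : CohB1.IsAmple L)
    (e : CohB1.tensorMod L L' ≅ Coh.structureModule X) {n₀ : ℕ}
    (h : ∀ n : ℕ, n₀ ≤ n → ∀ p : ℕ, 0 < p → Subsingleton (HnM (CohB1.tensorPow L' n) p ⊤)) :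
    IsAffine X := by
  classical
  haveI : CompactSpace X := hL.2.1
  haveI : QuasiSeparatedSpace X := quasiSeparatedSpace_of_isAmple hL
  have hL' : PicF.IsInvertible L' :=
    H17.InvertibleTensor.isInvertible_of_tensor_iso L' L (commIso L' L ≪≫ e)
  obtain ⟨hLi, -, hpts⟩ := isAmple_iff.1 hL
  choose n s hn hxs haff using hpts
  obtain ⟨t, ht⟩ := CompactSpace.elim_nhds_subcover (fun x => (gen _ (s x) : Set X))
    fun x => (gen _ (s x)).isOpen.mem_nhds (hxs x)
  let q : Fin t.card → X := fun j => (t.equivFin.symm j).1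
  let P : Fin t.card → X.Modules := fun j => CohB1.tensorMod (Coh.structureModule X) (CohB1.tensorPow L' (n (q j)))
  let ee := fun j => (nonempty_tensorPow_inverse e hLi hL' (n (q j))).some
  let v : ∀ j, P j ⟶ Coh.structureModule X := fun j =>
    LimSh.tensorModMap (homOfGlobal _ (s (q j))) (CohB1.tensorPow L' (n (q j))) ≫ (ee j).hom
  let τ : (∐ P) ⟶ Coh.structureModule X := Sigma.desc v
  haveI : Epi τ := H11Tilde.epi_of_locally_surjective _ fun W z x hx => by
    obtain ⟨x', hx't, hxg⟩ : ∃ x' ∈ t, x ∈ gen _ (s x') := by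
      simpa using ht.ge (Set.mem_univ x)
    obtain ⟨j, rfl⟩ : ∃ j, q j = x' := ⟨t.equivFin ⟨x', hx't⟩, by simp [q]⟩
    obtain ⟨V, ε, hxV, hε⟩ := exists_gen (isInvertible_tensorPow hL' (n (q j))) x
    let U := gen _ (s (q j)) ⊓ V ⊓ W
    have hU₁ : U ≤ gen _ (s (q j)) := inf_le_left.trans inf_le_left
    have hgen := isGen_map_iso (ee j) (isGen_tm ((isGen_gen (s (q j))).res hU₁)
      (hε.res (inf_le_left.trans inf_le_right : U ≤ V)))
    obtain ⟨c, hc⟩ := exists_coeff hgen ((Coh.structureModule X).presheaf.map (homOfLE (inf_le_right : U ≤ W)).op z)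
    refine ⟨U, inf_le_right, ⟨⟨hxg, hxV⟩, hx⟩, (Sigma.ι P j).app U (tm (show Γ(Coh.structureModule X, U) from c)
      ((CohB1.tensorPow L' (n (q j))).presheaf.map (homOfLE (inf_le_left.trans inf_le_right : U ≤ V)).op ε)), ?_⟩
    refine (congr($(congrArg (fun k => Scheme.Modules.Hom.app k U) (Sigma.ι_desc v j)) _)).trans ?_
    refine (congrArg ((ee j).hom.app U) (map_tm _ _ _ _)).trans ?_
    have hh : (homOfGlobal _ (s (q j))).app U (show Γ(Coh.structureModule X, U) from c) =
        c • (CohB1.tensorPow L (n (q j))).presheaf.map (homOfLE (le_top : U ≤ ⊤)).op (s (q j)) := rfl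
    rw [hh, tm_smul_left, Scheme.Modules.Hom.app_smul, hc, mres_mres]
  have hO : FlatMod.IsFinLocFree (Coh.structureModule X) :=
    H28Pinch.isFinLocFree_of_isInvertible (isInvertible_tensorPow hLi 0)
  have hK := isFinLocFree_kernel τ (H16Derived.KFlat.Stalk.isFinLocFree_sigma P fun j =>
    isFinLocFree_tensorMod hO (H28Pinch.isFinLocFree_of_isInvertible (isInvertible_tensorPow hL' _))) hO
  obtain ⟨w, hw⟩ := surjective_app_of_subsingleton_HnM (shortExact_kernel τ) ⊤
    (subsingleton_vb hL hL' e h hK Nat.one_pos) (one ⊤)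
  let π : ∀ j, (∐ P) ⟶ P j := fun j => (biproduct.isoCoproduct P).inv ≫ biproduct.π P j
  have hτ : τ = ∑ j, π j ≫ v j := by
    refine Sigma.hom_ext _ _ fun j => ?_
    rw [Sigma.ι_desc, Preadditive.comp_sum, Finset.sum_eq_single j]
    · have : Sigma.ι P j ≫ π j = 𝟙 _ := by simp [π]
      rw [← Category.assoc, this, Category.id_comp]
    · intro i _ hij
      have : Sigma.ι P j ≫ π i = 0 := by simp [π, hij.symm]
      rw [← Category.assoc, this, Limits.zero_comp]
    · simp
  let f : Fin t.card → Γ(X, ⊤) := fun j => (v j).app ⊤ ((π j).app ⊤ w)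
  have hsum : ∑ j, f j = 1 := by
    refine Eq.trans ?_ hw
    rw [hτ]
    let E : ((∐ P) ⟶ Coh.structureModule X) →+ Γ(Coh.structureModule X, ⊤) :=
      AddMonoidHom.mk' (fun φ => φ.app ⊤ w) fun _ _ => rfl
    exact (map_sum E (fun j => π j ≫ v j) Finset.univ).symm
  refine isAffine_of_isAffineOpen_basicOpen (Set.range f) ((Ideal.eq_top_iff_one _).2 ?_) ?_
  · rw [← hsum]
    exact Ideal.sum_mem _ fun j _ => Ideal.subset_span ⟨j, rfl⟩
  · rintro _ ⟨j, rfl⟩
    have hle : X.basicOpen (f j) ≤ gen _ (s (q j)) :=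
      basicOpen_le_gen (isInvertible_tensorPow hLi _) (isInvertible_tensorPow hL' _) (ee j) (s (q j)) _
    have := (haff (q j)).basicOpen (X.presheaf.map (homOfLE (le_top : gen _ (s (q j)) ≤ ⊤)).op (f j))
    rwa [Scheme.basicOpen_res, inf_eq_right.2 hle] at this

end Groth.Agent.H10Coh.Tw
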