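import Groth.Agent.H10Coh.ExtPowSeq
import Groth.Agent.H10Coh.HHSeq
import Groth.Agent.H10Coh.TensorBasics
import Groth.Agent.H22Alg.KExists
import Groth.Agent.H22Alg.ExtPowSES
import Groth.Agent.H22Alg.ESZPush

/-!
# Cohomology of twists of exterior powers of free modules
-/

set_option autoImplicit false
set_option linter.style.haveILetI false
set_option backward.isDefEq.respectTransparency.types false

noncomputable section

universe u

open CategoryTheory CategoryTheory.Limits AlgebraicGeometry Opposite TopologicalSpace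

namespace Groth.Agent.H10Coh.ExtPowFree

variable {X : Scheme.{u}}

/-- `O^r`, built one summand at a time. -/
def F (X : Scheme.{u}) : ℕ → X.Modules
  | 0 => FlatMod.freeMod X 0
  | r + 1 => F X r ⊞ Coh.structureModule X

theorem nonempty_iso_freeMod : ∀ r, Nonempty (F X r ≅ FlatMod.freeMod X r)
  | 0 => ⟨Iso.refl _⟩
  | r + 1 => by
    obtain ⟨e⟩ := nonempty_iso_freeMod r
    let c : Fin (r + 1) → X.Modules := fun _ => Coh.structureModule X
    refine ⟨biprod.mapIso e (Iso.refl _) ≪≫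
      { hom := biprod.desc (Sigma.desc fun i => Sigma.ι c i.castSucc) (Sigma.ι c (Fin.last r))
        inv := Sigma.desc (Fin.lastCases biprod.inr fun i =>
          Sigma.ι (fun _ : Fin r => Coh.structureModule X) i ≫ biprod.inl)
        hom_inv_id := ?_
        inv_hom_id := ?_ }⟩
    · refine biprod.hom_ext' _ _ (Sigma.hom_ext _ _ fun i => ?_) ?_
      · simp [c]
      · simp [c]
    · refine Sigma.hom_ext _ _ fun i => ?_
      induction i using Fin.lastCases with
      | last => simp [c]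
      | cast i => simp [c]

theorem isQCoh_F (r : ℕ) : Coh.IsQCoh (F X r) := by
  obtain ⟨e⟩ := nonempty_iso_freeMod (X := X) r
  exact (SheafOfModules.isQuasicoherent.{u} (R := X.ringCatSheaf)).prop_of_iso e.symm
    (H8Props.FinLocFree.isQCoh_of_isFinLocFree _ (H22Alg.KModel.finLocFree_free r))

/-- The split sequence. -/
def splitSeq (X : Scheme.{u}) (r : ℕ) : ShortComplex X.Modules :=
  ShortComplex.mk (biprod.inl : F X r ⟶ F X r ⊞ Coh.structureModule X) biprod.snd biprod.inl_snd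

theorem shortExact_split (r : ℕ) : (splitSeq X r).ShortExact :=
  ShortComplex.Splitting.shortExact
    { r := biprod.fst, s := biprod.inr, f_r := biprod.inl_fst, s_g := biprod.inr_snd, id := biprod.total }

theorem isZero_extPow {p : ℕ} {E L : X.Modules} (h : IsZero E) (hL : ExtPow.IsExtPow (p + 1) E L) : IsZero L := by
  rw [IsZero.iff_id_eq_zero]
  obtain ⟨φ, -⟩ := hL
  refine H17.AffHom.hom_ext fun U x => ?_
  haveI : Subsingleton Γ(E, U.1) := ⟨fun a b => by
    have h0 : (𝟙 E : E ⟶ E) = 0 := h.eq_of_src _ _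
    have := fun c : Γ(E, U.1) => congr($(congrArg (fun k => Scheme.Modules.Hom.app k U.1) h0) c)
    exact ((this a).trans (this b).symm)⟩
  let φ' : Γ(L, U.1) ≃ₗ[Γ(X, U.1)] ↥(⋀[Γ(X, U.1)]^(p + 1) Γ(E, U.1)) := φ U
  refine φ'.injective ?_
  have hsub : ∀ y : ↥(⋀[Γ(X, U.1)]^(p + 1) Γ(E, U.1)), y = 0 := fun y => by
    induction y using H22Alg.ExtPowAlg.induction with
    | hgen e => exact (exteriorPower.ιMulti Γ(X, U.1) (p + 1)).map_coord_zero 0 (Subsingleton.elim _ _)
    | h0 => rfl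
    | hadd a b ha hb => rw [ha, hb, add_zero]
    | hsmul r a ha => rw [ha, smul_zero]
  rw [hsub (φ' _), hsub (φ' _)]

/-- The sequence of exterior powers of the split sequence, with given exterior powers at the ends. -/
theorem exists_seq (r p : ℕ) {L : X.Modules} (hL : ExtPow.IsExtPow (p + 1) (F X (r + 1)) L) :
    ∃ S : ShortComplex X.Modules, S.ShortExact ∧ S.X₂ = L ∧ ExtPow.IsExtPow (p + 1) (F X r) S.X₁ ∧
      ExtPow.IsExtPow p (F X r) S.X₃ := by
  obtain ⟨C⟩ := H22Alg.Koszul.nonempty_cx (0 : F X r ⟶ Coh.structureModule X) (isQCoh_F r)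
  obtain ⟨D⟩ := H22Alg.Koszul.nonempty_cx (splitSeq X r).g (isQCoh_F (r + 1))
  obtain ⟨i, g, w, hS⟩ := ExtPowSeq.exists_shortExact (splitSeq X r).zero (shortExact_split r) (isQCoh_F (r + 1))
    C D p
  obtain ⟨e⟩ := H22Alg.ExtPowHom.nonempty_iso (D.isExtPow (p + 1)) hL
  refine ⟨ShortComplex.mk (i ≫ e.hom) (e.inv ≫ g) (by simp [w]), ?_, rfl, C.isExtPow _, C.isExtPow _⟩
  exact ShortComplex.shortExact_of_iso (S₁ := ShortComplex.mk i g w)
    (ShortComplex.isoMk (Iso.refl _) e (Iso.refl _) (by simp) (by simp)) hS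

theorem isZero_of_lt : ∀ (r p : ℕ), r < p → ∀ {L : X.Modules}, ExtPow.IsExtPow p (F X r) L → IsZero L
  | 0, 0, h, _, _ => absurd h (lt_irrefl 0)
  | 0, p + 1, _, L, hL => isZero_extPow (by
      rw [IsZero.iff_id_eq_zero]
      exact Sigma.hom_ext _ _ fun i => i.elim0) hL
  | r + 1, 0, h, _, _ => absurd h (Nat.not_lt_zero _)
  | r + 1, p + 1, h, L, hL => by
    obtain ⟨S, hS, rfl, h₁, h₃⟩ := exists_seq r p hL
    exact hS.exact.isZero_X₂ ((isZero_of_lt r (p + 1) (by omega) h₁).eq_of_src _ _)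
      ((isZero_of_lt r p (by omega) h₃).eq_of_tgt _ _)

variable {N : X.Modules} (hN : PicF.IsInvertible N)

theorem subsingleton_HH_of_isZero {M : X.Modules} (h : IsZero M) (q : ℕ) : Subsingleton (Coh.HH X M q) :=
  subsingleton_of_forall_eq 0 fun x =>
    ((LeadFF.Hm_id M q x).symm.trans (congrArg (fun k => LeadFF.Hm k q x) (h.eq_of_src (𝟙 M) 0))).trans
      (LeadFF.Hm_zero q x)

include hN in
/-- `H^q(⋀^p O^r ⊗ N) = 0` when `H^q(N) = 0`. -/
theorem subsingleton_HH {q : ℕ} (h : Subsingleton (Coh.HH X N q)) :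
    ∀ (r p : ℕ) {L : X.Modules}, ExtPow.IsExtPow p (F X r) L → Subsingleton (Coh.HH X (CohB1.tensorMod L N) q)
  | r, 0, L, hL => by
    obtain ⟨e⟩ := H22Alg.ExtPowHom.nonempty_iso (H22Alg.KExists.isExtPow_zero (F X r)) hL
    exact subsingleton_HH_of_iso ((Tw.leftUnitIso N).symm ≪≫ PicGrp.tensorModIso e (Iso.refl N)) q h
  | 0, p + 1, L, hL =>
    subsingleton_HH_of_isZero (H22Alg.ESZ.isZero_tensor (isZero_of_lt 0 (p + 1) (Nat.succ_pos p) hL) N) q
  | r + 1, p + 1, L, hL => by
    obtain ⟨S, hS, rfl, h₁, h₃⟩ := exists_seq r p hL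
    exact HHSeq.subsingleton₂ (Tw.shortExact_seq hS hN) (subsingleton_HH h r (p + 1) h₁) (subsingleton_HH h r p h₃)

end Groth.Agent.H10Coh.ExtPowFree
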