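import Groth.Agent.H16Derived.QCohD.Tensor
import Groth.Agent.H11Ample.Twist
import Groth.Agent.H11Ample.Ample
import Groth.Prelude.Def_KoszTw
import Groth.Agent.H10Coh.FinType2

/-!
# Tensor products of quasi-coherent modules
-/

set_option autoImplicit false
set_option linter.style.haveILetI false

noncomputable section

universe u

open CategoryTheory CategoryTheory.Limits AlgebraicGeometry Opposite TopologicalSpace
open Groth.Agent.H11Tilde Groth.Agent.H11Ample Groth.Agent.H16Derived.KFlat.Stalk Groth.Agent.H16Derived.QCohD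
open scoped TensorProduct

namespace Groth.Agent.H10Coh.TT

variable {A : CommRingCat.{u}}

/-- `M → Γ(tilde M)`. -/
def toG (M : ModuleCat.{u} A) : M →ₗ[A] Γ((tilde.functor A).obj M, ⊤) :=
  ((tilde.adjunction (R := A)).unit.app M).hom

theorem bijective_toG (M : ModuleCat.{u} A) : Function.Bijective (toG M) :=
  ConcreteCategory.bijective_of_isIso ((tilde.adjunction (R := A)).unit.app M)

theorem toG_naturality {M N : ModuleCat.{u} A} (g : M ⟶ N) (x : M) :
    ((tilde.functor A).map g).app ⊤ (toG M x) = toG N (g x) :=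
  (ConcreteCategory.congr_hom ((tilde.adjunction (R := A)).unit.naturality g) x).symm

theorem tm_smul_left' {X : Scheme.{u}} {F G : X.Modules} {U : X.Opens} (r : Γ(X, U)) (m : Γ(F, U)) (n : Γ(G, U)) :
    tm (r • m) n = r • tm m n := tm_smul_left r m n

theorem tm_smul_Spec_left {F G : (Spec A).Modules} (r : A) (m : Γ(F, ⊤)) (n : Γ(G, ⊤)) :
    tm (r • m) n = r • tm m n := by
  rw [Scheme.Modules.smul_Spec_def, Scheme.Modules.smul_Spec_def]
  exact tm_smul_left' _ m n

theorem tm_smul_Spec_right {F G : (Spec A).Modules} (r : A) (m : Γ(F, ⊤)) (n : Γ(G, ⊤)) :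
    tm m (r • n) = r • tm m n := by
  rw [Scheme.Modules.smul_Spec_def, Scheme.Modules.smul_Spec_def]
  exact tm_smul_right _ m n

/-- `tilde M ⊗ -`. -/
abbrev GT (M : ModuleCat.{u} A) : ModuleCat.{u} A ⥤ (Spec A).Modules :=
  tilde.functor A ⋙ (DCoh.tensorBi (X := Spec (CommRingCat.of A))).obj ((tilde.functor A).obj M)

/-- `M ⊗ N → Γ(tilde M ⊗ tilde N)`. -/
def mulG (M N : ModuleCat.{u} A) :
    M ⊗[A] N →ₗ[A] (moduleSpecΓFunctor (R := A)).obj ((GT M).obj N) :=
  TensorProduct.lift (LinearMap.mk₂ A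
    (fun m n => (show ((moduleSpecΓFunctor (R := A)).obj ((GT M).obj N) : Type u) from
      (tm (toG M m) (toG N n) : Γ(CohB1.tensorMod ((tilde.functor A).obj M) ((tilde.functor A).obj N), ⊤))))
    (fun m m' n => (congrArg (fun z => tm z (toG N n)) (_root_.map_add (toG M) m m')).trans (tm_add_left _ _ _))
    (fun r m n => (congrArg (fun z => tm z (toG N n)) (_root_.map_smul (toG M) r m)).trans
      (tm_smul_Spec_left r _ _))
    (fun m n n' => (congrArg (tm (toG M m)) (_root_.map_add (toG N) n n')).trans (tm_add_right _ _ _))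
    (fun r m n => (congrArg (tm (toG M m)) (_root_.map_smul (toG N) r n)).trans (tm_smul_Spec_right r _ _)))

theorem mulG_tmul (M N : ModuleCat.{u} A) (m : M) (n : N) :
    mulG M N (m ⊗ₜ n) = tm (toG M m) (toG N n) := rfl

/-- `N ↦ M ⊗ N`. -/
abbrev tL (M : ModuleCat.{u} A) : ModuleCat.{u} A ⥤ ModuleCat.{u} A := MonoidalCategory.tensorLeft M

/-- The multiplication as a morphism. -/
def mulHom (M N : ModuleCat.{u} A) : (tL M).obj N ⟶ (moduleSpecΓFunctor (R := A)).obj ((GT M).obj N) :=
  ModuleCat.homEquiv.symm (mulG M N)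

/-- The comparison. -/
def cmp (M N : ModuleCat.{u} A) : (tilde.functor A).obj ((tL M).obj N) ⟶ (GT M).obj N :=
  ((tilde.adjunction (R := A)).homEquiv _ _).symm (mulHom M N)

theorem cmp_toG (M N : ModuleCat.{u} A) (t : M ⊗[A] N) :
    (cmp M N).app ⊤ (toG ((tL M).obj N) t) = mulG M N t := by
  have h : (tilde.adjunction (R := A)).unit.app ((tL M).obj N) ≫
      (moduleSpecΓFunctor (R := A)).map (cmp M N) = mulHom M N :=
    (Adjunction.homEquiv_unit (tilde.adjunction (R := A)) ((tL M).obj N) ((GT M).obj N) (cmp M N)).symm.trans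
      (((tilde.adjunction (R := A)).homEquiv ((tL M).obj N) ((GT M).obj N)).apply_symm_apply (mulHom M N))
  exact congrArg (fun k => (ModuleCat.Hom.hom k) t) h

theorem GT_map_tm (M : ModuleCat.{u} A) {N N' : ModuleCat.{u} A} (g : N ⟶ N')
    (a : Γ((tilde.functor A).obj M, ⊤)) (b : Γ((tilde.functor A).obj N, ⊤)) :
    ((GT M).map g).app ⊤ (tm a b) = tm a (((tilde.functor A).map g).app ⊤ b) := by
  have h := KoszTw.tensorMap_tmul (𝟙 ((tilde.functor A).obj M)) ((tilde.functor A).map g) ⊤ a b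
  have e : KoszTw.tensorMap (𝟙 ((tilde.functor A).obj M)) ((tilde.functor A).map g) = (GT M).map g := by
    simp [KoszTw.tensorMap]
    try rfl
  rw [e] at h
  exact h

/-- The comparison as a natural transformation. -/
def cmpNat (M : ModuleCat.{u} A) : tL M ⋙ tilde.functor A ⟶ GT M where
  app N := cmp M N
  naturality N N' g := by
    refine ((tilde.adjunction (R := A)).homEquiv _ _).injective ?_
    rw [Adjunction.homEquiv_unit, Adjunction.homEquiv_unit]
    refine ModuleCat.hom_ext (TensorProduct.ext' fun m n => ?_)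
    change ((cmp M N').app ⊤) (((tilde.functor A).map ((tL M).map g)).app ⊤ (toG ((tL M).obj N) (m ⊗ₜ n))) =
      ((GT M).map g).app ⊤ ((cmp M N).app ⊤ (toG ((tL M).obj N) (m ⊗ₜ n)))
    rw [toG_naturality, cmp_toG, cmp_toG, mulG_tmul, GT_map_tm, toG_naturality]
    exact mulG_tmul M N' m (g n)

theorem isIso_app_of_colimit {C D J : Type*} [Category C] [Category D] [Category J] {F G : C ⥤ D} (α : F ⟶ G)
    {K : J ⥤ C} {c : Cocone K} (hc : IsColimit c) [PreservesColimit K F] [PreservesColimit K G]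
    (h : ∀ j, IsIso (α.app (K.obj j))) : IsIso (α.app c.pt) := by
  let w : K ⋙ F ≅ K ⋙ G := NatIso.ofComponents (fun j => @asIso _ _ _ _ _ (h j))
    fun {i j} f => α.naturality (K.map f)
  let e := (isColimitOfPreserves F hc).coconePointsIsoOfNatIso (isColimitOfPreserves G hc) w
  have he : e.hom = α.app c.pt := (isColimitOfPreserves F hc).hom_ext fun j => by
    refine (IsColimit.comp_coconePointsIsoOfNatIso_hom (isColimitOfPreserves F hc)
      (isColimitOfPreserves G hc) w j).trans ?_
    exact (α.naturality (c.ι.app j)).symm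
  rw [← he]
  infer_instance

theorem isGen_toG_one : IsGen ((tilde.functor A).obj (ModuleCat.of A A)) (toG (ModuleCat.of A A) (1 : A)) := by
  have h : (toG (ModuleCat.of A A) (1 : A) : Γ(Coh.structureModule (Spec A), ⊤)) = one ⊤ := by
    refine Subtype.ext (funext fun x => ?_)
    change LocalizedModule.mk (1 : A) 1 = (1 : Localization.AtPrime x.1.asIdeal)
    exact OreLocalization.one_def.symm
  exact h.symm ▸ isGen_one (X := Spec A) ⊤

theorem isIso_cmp (M N : ModuleCat.{u} A) : IsIso (cmp M N) := by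
  haveI : PreservesColimitsOfSize.{u, u} (tilde.functor A) :=
    (tilde.adjunction (R := A)).leftAdjoint_preservesColimits
  haveI : PreservesColimitsOfSize.{u, u} (GT M) := comp_preservesColimits _ _
  haveI : PreservesColimitsOfSize.{u, u} (tL M ⋙ tilde.functor A) := comp_preservesColimits _ _
  haveI := preservesColimitsOfSize_shrink.{0, u, 0, u} (GT M)
  haveI := preservesColimitsOfSize_shrink.{0, u, 0, u} (tL M ⋙ tilde.functor A)
  have hA : IsIso (cmp M (ModuleCat.of A A)) := by
    have hbij : Function.Bijective ((cmp M (ModuleCat.of A A)).app ⊤) := by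
      have h1 := bijective_tm (F := (tilde.functor A).obj M) (isGen_toG_one (A := A)) (le_refl ⊤)
      simp only [mres_self] at h1
      have h2 : Function.Bijective fun m : M => (cmp M (ModuleCat.of A A)).app ⊤
          (toG ((tL M).obj (ModuleCat.of A A)) (m ⊗ₜ (1 : A))) := by
        refine Eq.mpr (congrArg Function.Bijective (funext fun m => ?_)) (h1.comp (bijective_toG M))
        exact cmp_toG M (ModuleCat.of A A) _
      refine (Function.Bijective.of_comp_iff _
        ((bijective_toG ((tL M).obj (ModuleCat.of A A))).comp (TensorProduct.rid A M).symm.bijective)).1 ?_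
      exact h2
    exact isIso_of_bijective_app_top A (isQCoh_tf (↑A) _)
      (isQCoh_tensor_tilde (A := ↑A) M (ModuleCat.of A A)) _ hbij
  have hfree : ∀ I : Type u, IsIso (cmp M (∐ fun _ : I => ModuleCat.of A A)) := fun I =>
    isIso_app_of_colimit (cmpNat M) (coproductIsCoproduct fun _ : I => ModuleCat.of A A) fun _ => hA
  obtain ⟨I, J, f, ⟨e⟩⟩ := exists_presentation (A := ↑A) N
  have hc : IsIso ((cmpNat M).app (cokernel f)) :=
    isIso_app_of_colimit (cmpNat M) (colimit.isColimit (parallelPair f 0)) fun j => by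
      cases j
      · exact hfree I
      · exact hfree J
  haveI := hc
  haveI h2 : IsIso ((tL M ⋙ tilde.functor A).map e.hom ≫ (cmpNat M).app N) :=
    ((cmpNat M).naturality e.hom).symm ▸ (inferInstance : IsIso ((cmpNat M).app (cokernel f) ≫ (GT M).map e.hom))
  exact @IsIso.of_isIso_comp_left _ _ _ _ _ ((tL M ⋙ tilde.functor A).map e.hom) ((cmpNat M).app N) _ h2

end Groth.Agent.H10Coh.TT

namespace Groth.Agent.H10Coh.TT

/-- `tilde M ⊗ tilde N ≅ tilde (M ⊗ N)`. -/
def tensorTildeIso {A : CommRingCat.{u}} (M N : ModuleCat.{u} A) :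
    CohB1.tensorMod ((tilde.functor A).obj M) ((tilde.functor A).obj N) ≅ (tilde.functor A).obj ((tL M).obj N) :=
  (@asIso _ _ _ _ (cmp M N) (isIso_cmp M N)).symm

theorem finite_top_of_finite_ΓSpec {R : CommRingCat.{u}} (M : (Spec R).Modules)
    [Module.Finite R ((ΓSpec R).obj M)] : Module.Finite Γ(Spec R, ⊤) Γ(M, ⊤) := by
  refine finite_of_semilinear (M := (ΓSpec R).obj M) (Scheme.ΓSpecIso R).inv.hom (AddMonoidHom.id _)
    (fun a m => ?_) fun n => ⟨n, rfl⟩
  have h := Scheme.Modules.smul_Spec_def (M := M) (U := ⊤) a m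
  have hid : (⊤ : (Spec R).Opens).leTop.op = 𝟙 _ := Subsingleton.elim _ _
  rw [hid, CategoryTheory.Functor.map_id] at h
  exact h

variable {X : Scheme.{u}}

theorem exists_tensor_restrict_iso (F G : X.Modules) [F.IsQuasicoherent] [G.IsQuasicoherent] {U : X.Opens}
    (hU : IsAffineOpen U) :
    Nonempty ((CohB1.tensorMod F G).restrict hU.fromSpec ≅ (tilde.functor Γ(X, U)).obj
      ((tL ((ΓSpec Γ(X, U)).obj (F.restrict hU.fromSpec))).obj ((ΓSpec Γ(X, U)).obj (G.restrict hU.fromSpec)))) := by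
  haveI := Scheme.Modules.isQuasicoherent_restrictFunctor hU.fromSpec F
  haveI := Scheme.Modules.isQuasicoherent_restrictFunctor hU.fromSpec G
  let r := Scheme.Modules.restrictFunctorIsoPullback hU.fromSpec
  let a : CohB1.tensorMod ((Scheme.Modules.pullback hU.fromSpec).obj F) ((Scheme.Modules.pullback hU.fromSpec).obj G) ≅
      CohB1.tensorMod ((tilde.functor Γ(X, U)).obj ((ΓSpec Γ(X, U)).obj (F.restrict hU.fromSpec)))
        ((tilde.functor Γ(X, U)).obj ((ΓSpec Γ(X, U)).obj (G.restrict hU.fromSpec))) :=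
    PicGrp.tensorModIso ((r.app F).symm ≪≫ (tildeIso (F.restrict hU.fromSpec)).symm)
      ((r.app G).symm ≪≫ (tildeIso (G.restrict hU.fromSpec)).symm)
  exact ⟨r.app _ ≪≫ (H16Derived.KFlat.Stalk.pullTensorLIso hU.fromSpec G).app F ≪≫ a ≪≫ tensorTildeIso _ _⟩

theorem isQCoh_tensorMod (F G : X.Modules) [F.IsQuasicoherent] [G.IsQuasicoherent] :
    (CohB1.tensorMod F G).IsQuasicoherent := by
  refine isQuasicoherent_of_forall_affine _ fun U hU => ?_
  obtain ⟨e⟩ := exists_tensor_restrict_iso F G hU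
  exact isQCoh_iso e.symm (isQCoh_tf _ _)

theorem finite_sections_tensorMod (F G : X.Modules) [F.IsQuasicoherent] [G.IsQuasicoherent] {U : X.Opens}
    (hU : IsAffineOpen U) (hF : Module.Finite Γ(X, U) Γ(F, U)) (hG : Module.Finite Γ(X, U) Γ(G, U)) :
    Module.Finite Γ(X, U) Γ(CohB1.tensorMod F G, U) := by
  obtain ⟨e⟩ := exists_tensor_restrict_iso F G hU
  have htop : hU.fromSpec ''ᵁ ⊤ = U := by rw [Scheme.Hom.image_top_eq_opensRange, hU.opensRange_fromSpec]
  haveI : Module.Finite Γ(X, U) ((ΓSpec Γ(X, U)).obj (F.restrict hU.fromSpec)) :=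
    @finite_ΓSpec _ _ ((finite_restrict_iff hU.fromSpec F ⊤).2 (finite_of_eq F htop.symm hF))
  haveI : Module.Finite Γ(X, U) ((ΓSpec Γ(X, U)).obj (G.restrict hU.fromSpec)) :=
    @finite_ΓSpec _ _ ((finite_restrict_iff hU.fromSpec G ⊤).2 (finite_of_eq G htop.symm hG))
  let T := (tL ((ΓSpec Γ(X, U)).obj (F.restrict hU.fromSpec))).obj ((ΓSpec Γ(X, U)).obj (G.restrict hU.fromSpec))
  haveI hT : Module.Finite Γ(X, U) T := Module.Finite.tensorProduct _ _ _
  let i : (T : ModuleCat Γ(X, U)) ≅ (ΓSpec Γ(X, U)).obj ((CohB1.tensorMod F G).restrict hU.fromSpec) :=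
    @asIso _ _ _ _ ((tilde.adjunction (R := Γ(X, U))).unit.app T) (NatIso.isIso_app_of_isIso _ _) ≪≫
      (ΓSpec Γ(X, U)).mapIso e.symm
  haveI : Module.Finite Γ(X, U) ((ΓSpec Γ(X, U)).obj ((CohB1.tensorMod F G).restrict hU.fromSpec)) :=
    Module.Finite.equiv i.toLinearEquiv
  exact finite_of_eq _ htop ((finite_restrict_iff hU.fromSpec _ ⊤).1 (finite_top_of_finite_ΓSpec _))

theorem isCoh_tensorMod {F G : X.Modules} (hF : Coh.IsCoh F) (hG : Coh.IsCoh G) :
    Coh.IsCoh (CohB1.tensorMod F G) := by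
  haveI : F.IsQuasicoherent := hF.1
  haveI : G.IsQuasicoherent := hG.1
  exact (isCoh_iff_finite_sections _).2 ⟨isQCoh_tensorMod F G, fun U hU => finite_sections_tensorMod F G hU
    (((isCoh_iff_finite_sections F).1 hF).2 U hU) (((isCoh_iff_finite_sections G).1 hG).2 U hU)⟩

end Groth.Agent.H10Coh.TT
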