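import Groth.Agent.H10Coh.HigherDirect2
import Groth.Agent.H10Coh.AffinePush
import Groth.Agent.H10Coh.Proj.Projective

/-!
# Coherence of higher direct images from finiteness of cohomology over affine opens
-/

universe u

open CategoryTheory CategoryTheory.Limits AlgebraicGeometry Opposite TopologicalSpace

namespace Groth.Agent.H10Coh

attribute [local instance 10000] hasSheafifyAb hasWeakSheafifyAb hasExtAb enoughInjAb
attribute [local instance] enoughInjMod

/-- Cocycles modulo coboundaries are generated by finitely many, when the cohomology is finite. -/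
theorem exists_finset_cocycles {X : Scheme.{u}} {A : Type u} [CommRing A] (φ : A →+* Γ(X, ⊤)) (R : MRes X)
    (n : ℕ) (U : X.Opens) (h : FinH φ (R.Z 0) n U) :
    ∃ (k : ℕ) (z : Fin k → Γ(R.Z n, U)), ∀ w : Γ(R.Z n, U), ∃ c : Fin k → A,
      mcls R n U (w - ∑ j, gres (φ (c j)) U • z j) = 0 := by
  letI := (actM φ (R.Z 0)).mod n U
  haveI : Module.Finite A (HnM (R.Z 0) n U) := h
  obtain ⟨k, x, hx⟩ := Module.Finite.exists_fin (R := A) (M := HnM (R.Z 0) n U)
  choose z hz using fun j => mcls_surjective R n U (x j)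
  refine ⟨k, z, fun w => ?_⟩
  have hw : mcls R n U w ∈ Submodule.span A (Set.range x) := hx ▸ Submodule.mem_top
  obtain ⟨c, hc⟩ := (Submodule.mem_span_range_iff_exists_fun A).1 hw
  refine ⟨c, ?_⟩
  rw [map_sub, map_sum, sub_eq_zero, ← hc]
  refine Finset.sum_congr rfl fun j _ => ?_
  rw [← hz j]
  exact smulH_mcls R n U (φ (c j)) (z j)

variable {X S : Scheme.{u}} (f : X ⟶ S) [QuasiCompact f] [QuasiSeparated f] (R : MRes X) (n : ℕ)
  [(R.Z 0).IsQuasicoherent]

/-- The scalars of an affine open of the base, on its preimage. -/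
noncomputable def preΓ (W : S.Opens) : Γ(S, W) →+* Γ((f ⁻¹ᵁ W).toScheme, ⊤) :=
  ((f ⁻¹ᵁ W).topIso.inv).hom.comp (f.app W).hom

theorem finite_sections_hdir {W : S.Opens} (hW : IsAffineOpen W)
    (h : FinH (preΓ f W) ((R.restrict (f ⁻¹ᵁ W).ι).Z 0) (n + 1) ⊤) :
    Module.Finite Γ(S, W) Γ(hdir f R n, W) := by
  classical
  let U := f ⁻¹ᵁ W
  have htop : U.ι ''ᵁ ⊤ = U := U.ι_image_top
  obtain ⟨k, z, hz⟩ := exists_finset_cocycles (preΓ f W) (R.restrict U.ι) (n + 1) ⊤ h
  let y : Fin k → Γ(hdir f R n, W) := fun j =>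
    piA f R n W (rs _ htop.ge (show Γ(R.Z (n + 1), U.ι ''ᵁ ⊤) from z j))
  refine Module.Finite.of_surjective (Fintype.linearCombination Γ(S, W) y) fun s => ?_
  obtain ⟨w, rfl⟩ := piA_surjective f R n hW s
  obtain ⟨c, hc⟩ := hz (show Γ((R.restrict U.ι).Z (n + 1), ⊤) from rs _ htop.le w)
  refine ⟨c, ?_⟩
  rw [mcls_eq_zero_iff] at hc
  have hB := Bd.res R (n + 1) htop.ge ((Bd_restrict R U n _ _).1 hc)
  have hzero := piA_eq_zero_of_Bd f R n W _ hB
  have key : ∀ (a : Γ(S, W)) (b : Γ(R.Z (n + 1), U.ι ''ᵁ ⊤)),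
      rs _ htop.ge (show Γ(R.Z (n + 1), U.ι ''ᵁ ⊤) from
        (gres (preΓ f W a) (⊤ : U.toScheme.Opens) • (show Γ((R.restrict U.ι).Z (n + 1), ⊤) from b))) =
        f.app W a • rs _ htop.ge b := by
    intro a b
    have e := restrict_smul_pow U (R.Z (n + 1)) (f.app W a) ⊤ htop.le 1 b
    simp only [pow_one] at e
    refine (congrArg (rs _ htop.ge) e).trans ((Scheme.Modules.map_smul _ (homOfLE htop.ge) _ _).trans ?_)
    refine congrArg₂ (fun (c : Γ(X, U)) (x : Γ(R.Z (n + 1), U)) => c • x) ?_ rfl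
    exact (rres_rres htop.le htop.ge _).trans (by simp)
  let A' : Γ(R.Z (n + 1), U.ι ''ᵁ ⊤) := rs _ htop.le w
  let B' : Γ(R.Z (n + 1), U.ι ''ᵁ ⊤) := show Γ(R.Z (n + 1), U.ι ''ᵁ ⊤) from
    ∑ j, (gres (preΓ f W (c j)) (⊤ : U.toScheme.Opens) • z j : Γ((R.restrict U.ι).Z (n + 1), ⊤))
  replace hzero : piA f R n W (rs _ htop.ge A') = piA f R n W (rs _ htop.ge B') :=
    sub_eq_zero.1 (((map_sub (piA f R n W) (rs _ htop.ge A') (rs _ htop.ge B')).symm.trans
      (congrArg (piA f R n W) (map_sub (rs (R.Z (n + 1)) htop.ge) A' B').symm)).trans hzero)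
  refine Eq.trans ?_ ((congrArg (piA f R n W) ((rs_rs (R.Z (n + 1)) htop.le htop.ge w).trans (rs_self _ _ w))).symm.trans hzero).symm
  rw [Fintype.linearCombination_apply]
  refine Eq.trans (Finset.sum_congr rfl fun j _ => (piA_smul f R n W (c j) _).symm) ?_
  refine (map_sum (piA f R n W) _ _).symm.trans (congrArg (piA f R n W) ?_)
  refine Eq.trans ?_ (map_sum (rs (R.Z (n + 1)) htop.ge) _ _).symm
  exact Finset.sum_congr rfl fun j _ => (key (c j) _).symm

/-- Coherence of `R^{n+1} f_*`. -/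
theorem isCoh_hdir (h : ∀ W : S.Opens, IsAffineOpen W →
    FinH (preΓ f W) ((R.restrict (f ⁻¹ᵁ W).ι).Z 0) (n + 1) ⊤) : Coh.IsCoh (hdir f R n) := by
  haveI := isQuasicoherent_hdir f R n
  exact (isCoh_iff_finite_sections _).2 ⟨inferInstance, fun W hW => finite_sections_hdir f R n hW (h W hW)⟩

omit [QuasiCompact f] [QuasiSeparated f] in
/-- `preΓ` comes from the morphism to the spectrum. -/
theorem preΓ_eq_toΓ {W : S.Opens} (hW : IsAffineOpen W) :
    preΓ f W = toΓ ((f ∣_ W) ≫ hW.isoSpec.hom) := by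
  rw [toΓ_comp]
  ext a
  have h1 : ((Scheme.ΓSpecIso Γ(S, W)).inv ≫ hW.isoSpec.hom.appTop) a = W.topIso.inv a := by
    rw [hW.isoSpec_hom_appTop, Iso.inv_hom_id_assoc]
  refine Eq.trans ?_ (congrArg (f ∣_ W).appTop h1).symm
  have h2 : f.app W ≫ (f ⁻¹ᵁ W).topIso.inv = W.topIso.inv ≫ (f ∣_ W).appTop := by
    rw [Scheme.Hom.appTop, morphismRestrict_app', Scheme.Opens.topIso_inv, Scheme.Opens.topIso_inv]
    simp only [Scheme.Hom.appLE]
    exact ((f.naturality_assoc _ _).trans (congrArg (f.app W ≫ ·)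
      ((X.presheaf.map_comp _ _).symm.trans (congrArg X.presheaf.map (Subsingleton.elim _ _))))).symm
  exact congr($h2 a)

end Groth.Agent.H10Coh
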