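import Groth.Agent.H15Site.CechLeray
import Groth.Agent.H10Coh.Affine
import Groth.Prelude.Def_CohB1

/-!
# Čech cohomology of quasi-coherent modules on affine-intersection coverings
-/

universe u

open CategoryTheory CategoryTheory.Limits AlgebraicGeometry Opposite TopologicalSpace

namespace Groth.Agent.H10Coh

attribute [local instance 10000] hasSheafifyAb hasWeakSheafifyAb hasExtAb enoughInjAb

variable {X : Scheme.{u}}

/-- Leray: Čech cohomology for a family with affine finite intersections is cohomology of the union. -/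
theorem nonempty_cechH_HnM {ι : Type u} (U : ι → X.Opens) (M : X.Modules) [M.IsQuasicoherent]
    (hU : ∀ (p : ℕ) (a : Fin (p + 1) → ι), IsAffineOpen (⨅ k, U (a k))) (p : ℕ) :
    Nonempty (CohB1.cechH U M p ≃+ HnM M p (iSup U)) :=
  Groth.Agent.H15Site.CechLeray.nonempty_cechH_equiv (U := U) (iSup U) (le_iSup U) le_rfl p (sh M)
    (fun _ a q => subsingleton_HnM_of_isAffineOpen M (hU _ a) q)

theorem isAffineOpen_iInf_of_finset {ι : Type u} (U : ι → X.Opens)
    (hU : ∀ s : Finset ι, s.Nonempty → IsAffineOpen (⨅ i ∈ s, U i)) (p : ℕ) (a : Fin (p + 1) → ι) :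
    IsAffineOpen (⨅ k, U (a k)) := by
  classical
  have h := hU (Finset.univ.image a) (Finset.univ_nonempty.image a)
  rwa [Finset.iInf_finset_image, iInf_congr fun k => iInf_pos (Finset.mem_univ k)] at h

theorem isAffineOpen_iInf_basicOpen {R : CommRingCat.{u}} {κ : Type} [Fintype κ] [Nonempty κ] (g : κ → R) :
    IsAffineOpen (X := Spec R) (⨅ k, PrimeSpectrum.basicOpen (g k)) := by
  classical
  have h0 : ∀ t : Finset κ, (t.inf fun k => (PrimeSpectrum.basicOpen (g k) : (Spec R).Opens)) =
      PrimeSpectrum.basicOpen (∏ k ∈ t, g k) := fun t => by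
    induction t using Finset.induction with
    | empty => simp only [Finset.inf_empty, Finset.prod_empty, PrimeSpectrum.basicOpen_one]
    | insert a t ha ih => rw [Finset.inf_insert, Finset.prod_insert ha, PrimeSpectrum.basicOpen_mul, ih]
  have h : (⨅ k, (PrimeSpectrum.basicOpen (g k) : (Spec R).Opens)) =
      PrimeSpectrum.basicOpen (∏ k, g k) :=
    (Finset.inf_univ_eq_iInf _).symm.trans (h0 Finset.univ)
  exact h ▸ IsAffineOpen.Spec_basicOpen _

theorem isZero_cechH_tilde (R : CommRingCat.{u}) (M : ModuleCat.{u} R) {ι : Type u} (g : ι → R)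
    (hg : Ideal.span (Set.range g) = ⊤) {p : ℕ} (hp : 0 < p) :
    IsZero (CohB1.cechH (X := Spec R) (fun i => PrimeSpectrum.basicOpen (g i)) (tilde M) p) := by
  obtain ⟨e⟩ := nonempty_cechH_HnM (X := Spec R) (fun i => PrimeSpectrum.basicOpen (g i)) (tilde M)
    (fun _ a => isAffineOpen_iInf_basicOpen fun k => g (a k)) p
  obtain ⟨n, rfl⟩ := Nat.exists_eq_succ_of_ne_zero hp.ne'
  have h : (⨆ i, (PrimeSpectrum.basicOpen (g i) : (Spec R).Opens)) = ⊤ :=
    PrimeSpectrum.iSup_basicOpen_eq_top_iff.2 hg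
  have : Subsingleton (HnM (X := Spec R) (tilde M) (n + 1) (⨆ i, (PrimeSpectrum.basicOpen (g i) : (Spec R).Opens))) := by
    exact h ▸ subsingleton_HnM_of_isAffineOpen _ (isAffineOpen_top (Spec R)) n
  have := e.toEquiv.subsingleton
  exact AddCommGrpCat.isZero_of_subsingleton _

end Groth.Agent.H10Coh
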