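import Groth.Agent.H25Transversal.HypChart
import Groth.Agent.H11Tilde.QCoh
import Groth.Agent.H22Alg.ProjDim2
import Groth.Prelude.Def_LefPen

/-!
# The support of a complete intersection and the dimensions of its components
-/

set_option autoImplicit false
set_option linter.style.haveILetI false
set_option backward.isDefEq.respectTransparency.types false

noncomputable section

universe u

open CategoryTheory AlgebraicGeometry TopologicalSpace LefPen
open Groth.Agent.H22Alg Groth.Agent.H11Tilde

namespace Groth.Agent.H10Coh.CISupport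

variable {k : Type u} [Field k] {n : ℕ}

theorem mem_support_hypIdeal {d : ℕ} (G : Form n k d) (x : CohB1.ProjSpace n k) :
    x ∈ (hypIdeal G).support ↔ G.1 ∈ x.asHomogeneousIdeal := by
  obtain ⟨j, hj⟩ : ∃ j : Fin (n + 1), (MvPolynomial.X j : MvPolynomial (Fin (n + 1)) k) ∉ x.asHomogeneousIdeal := by
    by_contra h
    push Not at h
    refine x.not_irrelevant_le ?_
    show (HomogeneousIdeal.irrelevant (CohB1.polyGrading n k)).toIdeal ≤ x.asHomogeneousIdeal.toIdeal
    rw [ProjDim.irrelevant_eq_ker]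
    intro f hf
    refine (Ideal.span_le.2 (by rintro _ ⟨i, -, rfl⟩; exact h i) :
      Ideal.span (MvPolynomial.X '' Set.univ) ≤ x.asHomogeneousIdeal.toIdeal)
        (MvPolynomial.mem_ideal_span_X_image.2 fun m hm => ?_)
    by_contra hne
    push Not at hne
    have hm0 : m = 0 := Finsupp.ext fun i => hne i trivial
    rw [RingHom.mem_ker, MvPolynomial.constantCoeff_eq] at hf
    exact MvPolynomial.mem_support_iff.1 hm (hm0 ▸ hf)
  rw [Scheme.IdealSheafData.mem_support_iff_of_mem (U := H25Transversal.chartU n k j) hj,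
    H25Transversal.hypIdeal_ideal_chart]
  show x ∈ (CohB1.ProjSpace n k).zeroLocus (U := chart n k j)
    ((Ideal.span {dehom G j} : Ideal Γ(CohB1.ProjSpace n k, chart n k j)) : Set Γ(CohB1.ProjSpace n k, chart n k j)) ↔ _
  rw [Scheme.zeroLocus_span, Scheme.zeroLocus_singleton]
  have hb : (CohB1.ProjSpace n k).basicOpen (dehom G j) =
      Proj.basicOpen (CohB1.polyGrading n k) (MvPolynomial.X j * G.1) :=
    basicOpen_eq_of_fval (CohB1.polyGrading n k) (k := d) (dehom G j) fun y hy =>
      fval_awayToSection (CohB1.polyGrading n k) (X_mem n k j) d G.1 _ y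
  rw [hb]
  refine ⟨fun h => ?_, fun h hc => hc (x.asHomogeneousIdeal.toIdeal.mul_mem_left _ h)⟩
  by_contra hG
  exact h fun hc => ((Ideal.IsPrime.mem_or_mem x.isPrime hc).elim hj hG)

theorem mem_support_ciIdeal {r : ℕ} {a : Fin r → ℕ} (G : ∀ j : Fin r, Form n k (a j))
    (x : CohB1.ProjSpace n k) : x ∈ (ciIdeal G).support ↔ ∀ j, (G j).1 ∈ x.asHomogeneousIdeal := by
  rw [ciIdeal, Scheme.IdealSheafData.support_iSup]
  simp only [Closeds.mem_iInf, mem_support_hypIdeal]

open ProjDim in
/-- Every component of the common zero set of `r` forms has dimension at least `n - r`. -/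
theorem dim_component {r : ℕ} {a : Fin r → ℕ} (G : ∀ j : Fin r, Form n k (a j))
    {A : Set (ProjectiveSpectrum (CohB1.polyGrading n k))} (hA : IsClosed A)
    (hAG : ∀ x, x ∈ A ↔ ∀ j, (G j).1 ∈ x.asHomogeneousIdeal) {d : ℕ} (hd : topologicalKrullDim A = d)
    (hrd : r + d ≤ n) {C : Set A} (hC : C ∈ irreducibleComponents A) :
    topologicalKrullDim C = (d : WithBot ℕ∞) := by
  classical
  obtain ⟨y, hyA, hmin, hdim⟩ := exists_point_of_component k n hA hC
  rw [hdim]
  have hpos := qdim_pos k n y
  have hle : ((qdim k n y - 1 : ℕ) : WithBot ℕ∞) ≤ topologicalKrullDim A := le_dim k n hA hyA (by omega)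
  rw [hd] at hle
  let s : Finset (MvPolynomial (Fin (n + 1)) k) := Finset.univ.image fun j => (G j).1
  have hs : ∀ z : ProjectiveSpectrum (CohB1.polyGrading n k),
      Ideal.span (s : Set (MvPolynomial (Fin (n + 1)) k)) ≤ z.asHomogeneousIdeal.toIdeal ↔ z ∈ A := fun z => by
    rw [Ideal.span_le, hAG]
    simp [s, Set.range_subset_iff]
  obtain ⟨x, hx, hxq⟩ := exists_bot_point k n
  haveI := x.isPrime
  have hhom : (Ideal.span (s : Set (MvPolynomial (Fin (n + 1)) k))).IsHomogeneous (CohB1.polyGrading n k) :=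
    Ideal.homogeneous_span _ _ fun f hf => by
      obtain ⟨j, -, rfl⟩ := Finset.mem_image.1 hf
      exact ⟨a j, (G j).2⟩
  have hy := mem_minimalPrimes_of_minimal k n _ hhom y ((hs y).2 hyA) fun z hz hzy => hmin z ((hs z).1 hz) hzy
  haveI := y.isPrime
  have h := IntersectDim.dim_le_dim_add_of_minimalPrimes k x.asHomogeneousIdeal.toIdeal y.asHomogeneousIdeal.toIdeal s
    (by rw [hx, bot_sup_eq]; exact hy)
  rw [qdim_spec k n x, qdim_spec k n y, hxq] at h
  have h' : n + 1 ≤ qdim k n y + s.card := by exact_mod_cast h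
  have hcard : s.card ≤ r := Finset.card_image_le.trans (by simp)
  have hle' : qdim k n y - 1 ≤ d := by exact_mod_cast hle
  exact_mod_cast (show qdim k n y - 1 = d by omega)

end Groth.Agent.H10Coh.CISupport
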