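import Groth.Agent.H10Coh.CohLocal
import Groth.Agent.H10Coh.SchemeH
import Groth.Prelude.Def_ega3

/-!
# `H^q(X_f, M) = H^q(X, M)_f`
-/

universe u

open CategoryTheory CategoryTheory.Limits AlgebraicGeometry Opposite TopologicalSpace

namespace Groth.Agent.H10Coh

attribute [local instance 10000] hasSheafifyAb hasWeakSheafifyAb hasExtAb enoughInjAb
attribute [local instance] enoughInjMod

variable {X : Scheme.{u}}

/-- A ring homomorphism to endomorphisms, from its axioms. -/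
def endRingHom {R : Type*} [Semiring R] {A : Type*} [AddCommGroup A] (φ : R → AddMonoid.End A)
    (h1 : φ 1 = 1) (hmul : ∀ r s, φ (r * s) = φ r * φ s) (h0 : φ 0 = 0)
    (hadd : ∀ r s, φ (r + s) = φ r + φ s) : R →+* AddMonoid.End A where
  toFun := φ
  map_one' := h1
  map_mul' := hmul
  map_zero' := h0
  map_add' := hadd

/-- The class of a cocycle, with the domain typed as sections of a module. -/
noncomputable def mcls (R : MRes X) (n : ℕ) (U : X.Opens) : Γ(R.Z n, U) →+ HnM (R.Z 0) n U :=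
  FRes.cls n R.toF U

theorem mcls_surjective (R : MRes X) (n : ℕ) (U : X.Opens) : Function.Surjective (mcls R n U) :=
  FRes.cls_surjective n R.toF U

theorem mcls_eq_zero_iff (R : MRes X) (n : ℕ) {U : X.Opens} (z : Γ(R.Z n, U)) :
    mcls R n U z = 0 ↔ Bd R n z :=
  (Bd.iff_cls R n z).symm

theorem mcls_eq_iff (R : MRes X) (n : ℕ) {U : X.Opens} (a b : Γ(R.Z n, U)) :
    mcls R n U a = mcls R n U b ↔ Bd R n (a - b) := by
  rw [← mcls_eq_zero_iff, map_sub, sub_eq_zero]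

theorem mcls_res (R : MRes X) (n : ℕ) {U V : X.Opens} (h : V ≤ U) (z : Γ(R.Z n, U)) :
    mcls R n V (rs _ h z) = resH (sh (R.Z 0)) n h (mcls R n U z) :=
  FRes.cls_res n R.toF h z

/-- Multiplication by a global function, as an endomorphism of `sh M`. -/
noncomputable def smulSh (M : X.Modules) (r : Γ(X, ⊤)) : sh M ⟶ sh M := Coh.smulAb M r

/-- Functoriality of `H^n(U, ·)`. -/
noncomputable def compMk₀ {F G : CohTop.Ab X.toTopCat} (g : F ⟶ G) (n : ℕ) (U : X.Opens) :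
    Hn F n U →+ Hn G n U := (Abelian.Ext.mk₀ g).postcomp (Zsh U) (add_zero n)

theorem compMk₀_apply {F G : CohTop.Ab X.toTopCat} (g : F ⟶ G) (n : ℕ) (U : X.Opens)
    (x : Hn F n U) : compMk₀ g n U x = x.comp (Abelian.Ext.mk₀ g) (add_zero n) := rfl

theorem resH_compMk₀ {F G : CohTop.Ab X.toTopCat} (g : F ⟶ G) (n : ℕ) {U V : X.Opens} (h : V ≤ U)
    (x : Hn F n U) : resH G n h (compMk₀ g n U x) = compMk₀ g n V (resH F n h x) := by
  rw [compMk₀_apply, compMk₀_apply, resH_comp]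

/-- Multiplication by a global function on `H^q(U, M)`. -/
noncomputable def smulH (M : X.Modules) (n : ℕ) (U : X.Opens) (r : Γ(X, ⊤)) :
    AddMonoid.End (HnM M n U) :=
  compMk₀ (smulSh M r) n U

theorem smulH_apply (M : X.Modules) (n : ℕ) (U : X.Opens) (r : Γ(X, ⊤)) (x : HnM M n U) :
    smulH M n U r x = compMk₀ (smulSh M r) n U x := rfl

theorem smulH_mcls (R : MRes X) (n : ℕ) (U : X.Opens) (r : Γ(X, ⊤)) (z : Γ(R.Z n, U)) :
    smulH (R.Z 0) n U r (mcls R n U z) = mcls R n U (gres r U • z) := by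
  rw [smulH_apply, compMk₀_apply]
  exact (cls_smul R n U r z).symm

theorem compMk₀_id {F : CohTop.Ab X.toTopCat} (n : ℕ) (U : X.Opens) (x : Hn F n U) :
    compMk₀ (𝟙 F) n U x = x := by
  rw [compMk₀_apply, Abelian.Ext.comp_mk₀_id]

theorem compMk₀_comp {F G K : CohTop.Ab X.toTopCat} (g : F ⟶ G) (g' : G ⟶ K) (n : ℕ) (U : X.Opens)
    (x : Hn F n U) : compMk₀ (g ≫ g') n U x = compMk₀ g' n U (compMk₀ g n U x) := by
  rw [compMk₀_apply, compMk₀_apply, compMk₀_apply, ← Abelian.Ext.mk₀_comp_mk₀,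
    Abelian.Ext.comp_assoc_of_second_deg_zero]

theorem compMk₀_add {F G : CohTop.Ab X.toTopCat} (g g' : F ⟶ G) (n : ℕ) (U : X.Opens)
    (x : Hn F n U) : compMk₀ (g + g') n U x = compMk₀ g n U x + compMk₀ g' n U x := by
  rw [compMk₀_apply, compMk₀_apply, compMk₀_apply, Abelian.Ext.mk₀_add, Abelian.Ext.comp_add]

theorem compMk₀_zero {F G : CohTop.Ab X.toTopCat} (n : ℕ) (U : X.Opens) (x : Hn F n U) :
    compMk₀ (0 : F ⟶ G) n U x = 0 := by
  rw [compMk₀_apply, Abelian.Ext.mk₀_zero, Abelian.Ext.comp_zero]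

theorem smulSh_one (M : X.Modules) : smulSh M 1 = 𝟙 _ := Coh.smulAb_one M

theorem smulSh_zero (M : X.Modules) : smulSh M 0 = 0 := Coh.smulAb_zero M

theorem smulSh_mul (M : X.Modules) (r s : Γ(X, ⊤)) :
    smulSh M (r * s) = smulSh M s ≫ smulSh M r := Coh.smulAb_mul M r s

theorem smulSh_add (M : X.Modules) (r s : Γ(X, ⊤)) :
    smulSh M (r + s) = smulSh M r + smulSh M s := Coh.smulAb_add M r s

theorem smulH_one (M : X.Modules) (n : ℕ) (U : X.Opens) : smulH M n U 1 = 1 :=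
  DFunLike.ext _ _ fun x => by
    rw [smulH_apply, smulSh_one, compMk₀_id]
    rfl

theorem smulH_mul (M : X.Modules) (n : ℕ) (U : X.Opens) (r s : Γ(X, ⊤)) :
    smulH M n U (r * s) = smulH M n U r * smulH M n U s :=
  DFunLike.ext _ _ fun x => by
    rw [AddMonoid.End.coe_mul, Function.comp_apply, smulH_apply, smulH_apply, smulH_apply,
      smulSh_mul, compMk₀_comp]

theorem smulH_zero (M : X.Modules) (n : ℕ) (U : X.Opens) : smulH M n U 0 = 0 :=
  DFunLike.ext _ _ fun x => by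
    rw [smulH_apply, smulSh_zero, compMk₀_zero]
    rfl

theorem smulH_add (M : X.Modules) (n : ℕ) (U : X.Opens) (r s : Γ(X, ⊤)) :
    smulH M n U (r + s) = smulH M n U r + smulH M n U s :=
  DFunLike.ext _ _ fun x => by
    rw [smulH_apply, smulSh_add, compMk₀_add]
    rfl

/-- The action of global functions on `H^q(U, M)`. -/
noncomputable def ringHomH (M : X.Modules) (n : ℕ) (U : X.Opens) :
    Γ(X, ⊤) →+* AddMonoid.End (HnM M n U) :=
  endRingHom (smulH M n U) (smulH_one M n U) (smulH_mul M n U) (smulH_zero M n U) (smulH_add M n U)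

theorem bijective_smulH (R : MRes X) (n : ℕ) (f : Γ(X, ⊤)) :
    Function.Bijective (smulH (R.Z 0) n (X.basicOpen f) f) := by
  have hu : IsUnit (gres f (X.basicOpen f)) := RingedSpace.isUnit_res_basicOpen _ f
  obtain ⟨c, hc⟩ := hu.exists_left_inv
  constructor
  · rw [injective_iff_map_eq_zero]
    intro x hx
    obtain ⟨z, rfl⟩ := mcls_surjective R n (X.basicOpen f) x
    rw [smulH_mcls, mcls_eq_zero_iff] at hx
    refine (mcls_eq_zero_iff R n z).2 ?_
    have h := Bd.smul R n c hx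
    rwa [smul_smul, hc, one_smul] at h
  · intro x
    obtain ⟨z, rfl⟩ := mcls_surjective R n (X.basicOpen f) x
    refine ⟨mcls R n _ (c • z), ?_⟩
    rw [smulH_mcls, smul_smul, mul_comm, hc, one_smul]

theorem smulH_resH (M : X.Modules) (n : ℕ) {U V : X.Opens} (h : V ≤ U) (r : Γ(X, ⊤))
    (x : HnM M n U) :
    resH (sh M) n h (smulH M n U r x) = smulH M n V r (resH (sh M) n h x) :=
  by rw [smulH_apply, smulH_apply, resH_compMk₀]

theorem HHEquiv_smul (M : X.Modules) (n : ℕ) (r : Γ(X, ⊤)) (x : Coh.HH X M n) :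
    HHEquiv M n (r • x) = smulH M n ⊤ r (HHEquiv M n x) :=
  (topEquiv_map (smulSh M r) n x).trans (compMk₀_apply (smulSh M r) n ⊤ _).symm

section

variable (R : MRes X) (f : Γ(X, ⊤)) (q : ℕ)

/-- Restriction `H^q(X, M) → H^q(X_f, M)`, on the prelude's cohomology group. -/
noncomputable def resHH : Coh.HH X (R.Z 0) q →+ HnM (R.Z 0) q (X.basicOpen f) :=
  AddMonoidHom.mk' (fun x => resH (sh (R.Z 0)) q (le_top : X.basicOpen f ≤ ⊤) (HHEquiv (R.Z 0) q x))
    (fun a b => by rw [map_add, map_add])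

theorem resHH_apply (x : Coh.HH X (R.Z 0) q) :
    resHH R f q x = resH (sh (R.Z 0)) q (le_top : X.basicOpen f ≤ ⊤) (HHEquiv (R.Z 0) q x) :=
  rfl

theorem resHH_smul (r : Γ(X, ⊤)) (x : Coh.HH X (R.Z 0) q) :
    resHH R f q (r • x) = smulH (R.Z 0) q (X.basicOpen f) r (resHH R f q x) := by
  rw [resHH_apply, resHH_apply, HHEquiv_smul, smulH_resH]

theorem resHH_mcls (z : Γ(R.Z q, ⊤)) :
    resHH R f q ((HHEquiv (R.Z 0) q).symm (mcls R q ⊤ z)) =
      mcls R q (X.basicOpen f) (rs _ le_top z) := by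
  rw [resHH_apply, AddEquiv.apply_symm_apply, mcls_res]

variable [CompactSpace X] [QuasiSeparatedSpace X] [(R.Z 0).IsQuasicoherent]

theorem exists_smul_eq_resHH (y : HnM (R.Z 0) q (X.basicOpen f)) :
    ∃ (N : ℕ) (x : Coh.HH X (R.Z 0) q),
      smulH (R.Z 0) q (X.basicOpen f) (f ^ N) y = resHH R f q x := by
  obtain ⟨z, rfl⟩ := mcls_surjective R q (X.basicOpen f) y
  have e : (⊤ : X.Opens) ⊓ X.basicOpen f = X.basicOpen f := top_inf_eq _
  obtain ⟨N, z₀, hN⟩ := (injAt_surjAt R f q ⊤ (by simpa using isCompact_univ)).2 (rs _ e.le z)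
  refine ⟨N, (HHEquiv (R.Z 0) q).symm (mcls R q ⊤ z₀), ?_⟩
  rw [resHH_mcls, smulH_mcls, mcls_eq_iff]
  have h := Bd.res R q e.ge hN
  rw [map_sub, rs_smul, rs_rs, rs_rs, rs_self] at h
  have hg : gres (f ^ N) (X.basicOpen f) = gres f (X.basicOpen f) ^ N := map_pow _ f N
  rw [hg]
  have := Bd.smul R q (-1) h
  simpa using this

theorem exists_pow_smul_eq_zero_of_resHH (x : Coh.HH X (R.Z 0) q) (hx : resHH R f q x = 0) :
    ∃ N : ℕ, f ^ N • x = 0 := by
  obtain ⟨z, hz⟩ := mcls_surjective R q ⊤ (HHEquiv (R.Z 0) q x)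
  rw [resHH_apply, ← hz, ← mcls_res, mcls_eq_zero_iff] at hx
  have h2 := Bd.res R q (inf_le_right : (⊤ : X.Opens) ⊓ X.basicOpen f ≤ X.basicOpen f) hx
  rw [rs_rs] at h2
  obtain ⟨N, hN⟩ := (injAt_surjAt R f q ⊤ (by simpa using isCompact_univ)).1 z h2
  refine ⟨N, (HHEquiv (R.Z 0) q).injective ?_⟩
  have hg : gres (f ^ N) (⊤ : X.Opens) = gres f ⊤ ^ N := map_pow _ f N
  rw [HHEquiv_smul, map_zero, ← hz, smulH_mcls, hg, mcls_eq_zero_iff]
  exact hN

/-- `H^q(X, M)_f ≅ H^q(X_f, M)`. -/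
theorem nonempty_localizedH :
    Nonempty (HnM (R.Z 0) q (X.basicOpen f) ≃+
      LocalizedModule (Submonoid.powers f) (Coh.HH X (R.Z 0) q)) := by
  let : Module Γ(X, ⊤) (HnM (R.Z 0) q (X.basicOpen f)) :=
    Module.compHom _ (ringHomH (R.Z 0) q (X.basicOpen f))
  let φ : Coh.HH X (R.Z 0) q →ₗ[Γ(X, ⊤)] HnM (R.Z 0) q (X.basicOpen f) :=
    { toFun := resHH R f q
      map_add' := map_add _
      map_smul' := resHH_smul R f q }
  have hL : IsLocalizedModule (Submonoid.powers f) φ := by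
    refine { map_units := ?_, surj := fun y => ?_, exists_of_eq := fun {a b} h => ?_ }
    · rintro ⟨_, k, rfl⟩
      have h1 : IsUnit (algebraMap Γ(X, ⊤) (Module.End Γ(X, ⊤) (HnM (R.Z 0) q (X.basicOpen f))) f) := by
        rw [Module.End.isUnit_iff]
        exact bijective_smulH R q f
      simpa [map_pow] using h1.pow k
    · obtain ⟨N, x, hx⟩ := exists_smul_eq_resHH R f q y
      exact ⟨(x, ⟨f ^ N, N, rfl⟩), hx⟩
    · obtain ⟨N, hN⟩ := exists_pow_smul_eq_zero_of_resHH R f q (a - b)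
        (by rw [map_sub]; exact sub_eq_zero.2 h)
      rw [smul_sub, sub_eq_zero] at hN
      exact ⟨⟨f ^ N, N, rfl⟩, hN⟩
  exact ⟨(@IsLocalizedModule.iso _ _ (Submonoid.powers f) _ _ _ _ _ _ φ hL).toAddEquiv.symm⟩

end

theorem nonempty_HHon_localized (M : X.Modules) [CompactSpace X] [QuasiSeparatedSpace X]
    [hM : M.IsQuasicoherent] (f : Γ(X, ⊤)) (q : ℕ) :
    Nonempty (Coh.HHon X M (X.basicOpen f) q ≃+
      LocalizedModule (Submonoid.powers f) (Coh.HH X M q)) := by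
  have : ((MRes.inj M).Z 0).IsQuasicoherent := hM
  obtain ⟨e⟩ := nonempty_localizedH (MRes.inj M) f q
  have himg : (X.basicOpen f).ι ''ᵁ ⊤ = X.basicOpen f := by
    rw [Scheme.Hom.image_top_eq_opensRange, Scheme.Opens.opensRange_ι]
  exact ⟨(HHEquiv _ q).trans ((restrEquivM (X.basicOpen f).ι M q ⊤).symm.trans
    ((himg.symm ▸ AddEquiv.refl _ : HnM M q ((X.basicOpen f).ι ''ᵁ ⊤) ≃+ HnM M q (X.basicOpen f)).trans e))⟩

end Groth.Agent.H10Coh
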