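import Groth.Agent.H10Coh.SerreVanishing2
import Groth.Agent.H10Coh.TensorTilde
import Groth.Agent.H11Proj.Graded
import Groth.Prelude.Def_Twist2
import Mathlib.AlgebraicGeometry.ProjectiveSpectrum.Proper

/-!
# Serre vanishing on Proj of a Noetherian graded ring
-/

set_option autoImplicit false
set_option linter.style.haveILetI false

noncomputable section

universe u

open CategoryTheory CategoryTheory.Limits AlgebraicGeometry Opposite TopologicalSpace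
open Groth.Agent.H11Tilde Groth.Agent.H11Ample GrMod

namespace Groth.Agent.H10Coh.Tw

attribute [local instance 10000] hasSheafifyAb hasWeakSheafifyAb hasExtAb enoughInjAb

variable {R A : Type u} [CommRing R] [CommRing A] [Algebra R A] (𝒜 : ℕ → Submodule R A) [GradedAlgebra 𝒜]

theorem cover_mul {D : ℕ} (h : ∀ x : Proj 𝒜, ∃ f ∈ 𝒜 D, f ∉ x.asHomogeneousIdeal) (k : ℕ) (x : Proj 𝒜) :
    ∃ (i j : ℕ) (a b : A), a ∈ 𝒜 i ∧ b ∈ 𝒜 j ∧ (i : ℤ) = j + ((k * D : ℕ) : ℤ) ∧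
      a ∉ x.asHomogeneousIdeal ∧ b ∉ x.asHomogeneousIdeal := by
  obtain ⟨f, hf, hfx⟩ := h x
  exact ⟨k * D, 0, f ^ k, 1, SetLike.pow_mem_graded k hf, SetLike.one_mem_graded 𝒜, by simp,
    pow_notMem 𝒜 hfx k, one_notMem 𝒜 x⟩

theorem isGen_globalSec' {D : ℕ} {f : A} (hf : f ∈ 𝒜 D) :
    IsGen (tilde 𝒜 𝒜 (D : ℤ)) ((tilde 𝒜 𝒜 (D : ℤ)).presheaf.map
      (homOfLE (le_top : Proj.basicOpen 𝒜 f ≤ ⊤)).op (globalSec 𝒜 hf)) :=
  isGen_of_bijective fun W hW => by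
    refine Eq.mpr (congrArg Function.Bijective (funext fun r => ?_)) (bijective_smul_globalSec 𝒜 hf hW)
    rw [mres_mres]

variable [IsNoetherianRing A]

theorem exists_period : ∃ D : ℕ, 0 < D ∧ CohB1.IsAmple (tilde 𝒜 𝒜 (D : ℤ)) ∧
    (∀ p : ℤ, ∀ k : ℕ, Nonempty (CohB1.tensorMod (tilde 𝒜 𝒜 p) (tilde 𝒜 𝒜 ((k * D : ℕ) : ℤ)) ≅
      tilde 𝒜 𝒜 (p + ((k * D : ℕ) : ℤ)))) := by
  obtain ⟨D, ι, hι, g, hD, hg, hcov⟩ :=
    ProjQ.exists_cover_single_degree 𝒜 (IsNoetherian.noetherian (HomogeneousIdeal.irrelevant 𝒜).toIdeal)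
  have hc : ∀ x : Proj 𝒜, ∃ f ∈ 𝒜 D, f ∉ x.asHomogeneousIdeal := fun x => by
    obtain ⟨i, hi⟩ := hcov x
    exact ⟨g i, hg i, hi⟩
  haveI : IsNoetherian (Proj 𝒜) := ProjQ.isNoetherian_proj 𝒜
  have hinv : PicF.IsInvertible (tilde 𝒜 𝒜 (D : ℤ)) := isInvertible_of_gen fun x => by
    obtain ⟨f, hf, hfx⟩ := hc x
    exact ⟨_, _, hfx, isGen_globalSec' 𝒜 hf⟩
  refine ⟨D, hD, isAmple_iff.2 ⟨hinv, inferInstance, fun x => ?_⟩,
    fun p k => nonempty_tilde_tensor_iso 𝒜 𝒜 rfl (cover_mul 𝒜 hc k)⟩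
  obtain ⟨f, hf, hfx⟩ := hc x
  have hgen : gen (tilde 𝒜 𝒜 (D : ℤ)) (globalSec 𝒜 hf) = Proj.basicOpen 𝒜 f := genLocus_globalSec 𝒜 hf hc
  refine ⟨1, spow (globalSec 𝒜 hf) 1, one_pos, ?_⟩
  rw [gen_spow hinv _ 1 one_pos, hgen]
  exact ⟨hfx, Proj.isAffineOpen_basicOpen 𝒜 f hf hD⟩

omit [IsNoetherianRing A] in
/-- Vanishing for a periodic family of twists. -/
theorem exists_vanishing_periodic {X : Scheme.{u}} {B : Type u} [CommRing B] [IsNoetherianRing B]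
    (q : X ⟶ Spec (CommRingCat.of B)) [IsProper q] (T : ℤ → X.Modules) (hTc : ∀ d, Coh.IsCoh (T d)) {D : ℕ}
    (hD : 0 < D) (hA : CohB1.IsAmple (T (D : ℤ))) (h0 : Nonempty (T 0 ≅ Coh.structureModule X))
    (hT : ∀ p : ℤ, ∀ k : ℕ, Nonempty (CohB1.tensorMod (T p) (T ((k * D : ℕ) : ℤ)) ≅ T (p + ((k * D : ℕ) : ℤ))))
    (F : X.Modules) (hF : Coh.IsCoh F) :
    ∃ d₀ : ℤ, ∀ d : ℤ, d₀ ≤ d → ∀ p, 0 < p → Subsingleton (HnM (CohB1.tensorMod F (T d)) p ⊤) := by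
  let G : ℕ → X.Modules := fun r => CohB1.tensorMod F (T (r : ℤ))
  have hG : ∀ r, Coh.IsCoh (G r) := fun r => TT.isCoh_tensorMod hF (hTc _)
  have hpow : ∀ k : ℕ, Nonempty (CohB1.tensorPow (T (D : ℤ)) k ≅ T ((k * D : ℕ) : ℤ)) := by
    intro k
    induction k with
    | zero =>
      rw [Nat.zero_mul, Nat.cast_zero]
      exact ⟨h0.some.symm⟩
    | succ k ih =>
      obtain ⟨e⟩ := ih
      obtain ⟨e'⟩ := hT ((k * D : ℕ) : ℤ) 1
      have h : ((k * D : ℕ) : ℤ) + ((1 * D : ℕ) : ℤ) = (((k + 1) * D : ℕ) : ℤ) := by push_cast; ring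
      rw [h, Nat.one_mul] at e'
      exact ⟨PicGrp.tensorModIso e (Iso.refl _) ≪≫ e'⟩
  choose K hK using fun r => exists_vanishing_ample q hA (G r) (hG r)
  refine ⟨((D * (∑ r ∈ Finset.range D, K r) + D : ℕ) : ℤ), fun d hd p hp => ?_⟩
  obtain ⟨n, rfl⟩ := Int.eq_ofNat_of_zero_le (le_trans (Int.natCast_nonneg _) hd)
  obtain ⟨k, r, hr, rfl⟩ : ∃ k r, r < D ∧ n = r + k * D :=
    ⟨n / D, n % D, Nat.mod_lt _ hD, by rw [mul_comm]; exact (Nat.mod_add_div n D).symm⟩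
  have hk : K r ≤ k := by
    refine le_trans (Finset.single_le_sum (fun i _ => Nat.zero_le (K i)) (Finset.mem_range.2 hr)) ?_
    by_contra hlt
    have hd' : D * (∑ r ∈ Finset.range D, K r) + D ≤ r + k * D := by exact_mod_cast hd
    have h2 : D * (k + 1) ≤ D * ∑ r ∈ Finset.range D, K r := Nat.mul_le_mul_left D (by omega)
    rw [Nat.mul_add, mul_one, mul_comm D k] at h2
    omega
  obtain ⟨e⟩ := hpow k
  obtain ⟨e'⟩ := hT (r : ℤ) k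
  have h : ((r : ℤ) + ((k * D : ℕ) : ℤ)) = ((r + k * D : ℕ) : ℤ) := by push_cast; ring
  rw [h] at e'
  exact subsingleton_of_iso (assoc F _ _ ≪≫ PicGrp.tensorModIso (Iso.refl F)
    (PicGrp.tensorModIso (Iso.refl _) e ≪≫ e')) (hK r k hk p hp)

theorem exists_vanishing_twistBy (F : (Proj 𝒜).Modules) (hF : Coh.IsCoh F) :
    ∃ d₀ : ℤ, ∀ d : ℤ, d₀ ≤ d → ∀ p, 0 < p → Subsingleton (HnM (Twist.twistBy 𝒜 F d) p ⊤) := by
  obtain ⟨D, hD, hA, hT⟩ := exists_period 𝒜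
  haveI : IsNoetherianRing (𝒜 0) := ((H11Proj.isNoetherianRing_iff 𝒜).1 inferInstance).1
  haveI : Algebra.FiniteType (𝒜 0) A := ((H11Proj.isNoetherianRing_iff 𝒜).1 inferInstance).2
  haveI : IsProper (Proj.toSpecZero 𝒜) := inferInstance
  exact exists_vanishing_periodic (Proj.toSpecZero 𝒜) (fun d => tilde 𝒜 𝒜 d)
    (ProjQ.isCoh_tilde_twist 𝒜) hD hA (nonempty_twist_zero_iso 𝒜) hT F hF

end Groth.Agent.H10Coh.Tw
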