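import Groth.Agent.H10Coh.PushEdge
import Groth.Agent.H10Coh.QCohOps
import Groth.Agent.H10Coh.SerreVanishing
import Groth.Agent.H10Coh.BaseChange

/-!
# The acyclic embedding of a quasi-coherent module given by a finite affine cover with affine intersections
-/

set_option autoImplicit false
set_option linter.style.haveILetI false

noncomputable section

universe u

open CategoryTheory CategoryTheory.Limits AlgebraicGeometry Opposite TopologicalSpace

namespace Groth.Agent.H10Coh

attribute [local instance 10000] hasSheafifyAb hasWeakSheafifyAb hasExtAb enoughInjAb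

/-- A finite affine cover all whose pairwise intersections with affine opens are affine. -/
structure SCov (X : Scheme.{u}) where
  n : ℕ
  U : Fin n → X.Opens
  cover : ∀ x : X, ∃ i, x ∈ U i
  aff : ∀ i, IsAffineOpen (U i)
  inter : ∀ i (W : X.Opens), IsAffineOpen W → IsAffineOpen (U i ⊓ W)

variable {X : Scheme.{u}}

theorem nonempty_sCov [CompactSpace X]
    (hd : ∀ V W : X.Opens, IsAffineOpen V → IsAffineOpen W → IsAffineOpen (V ⊓ W)) :
    Nonempty (SCov X) := by
  choose V hV hxV using fun x : X => H11Ample.exists_isAffineOpen_mem x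
  obtain ⟨t, ht⟩ := CompactSpace.elim_nhds_subcover (fun x => (V x : Set X))
    fun x => (V x).isOpen.mem_nhds (hxV x)
  refine ⟨⟨t.card, fun j => V (t.equivFin.symm j).1, fun x => ?_, fun j => hV _,
    fun j W hW => hd _ W (hV _) hW⟩⟩
  obtain ⟨x', hx', hx⟩ := Set.mem_iUnion₂.1 (ht.ge (Set.mem_univ x))
  exact ⟨t.equivFin ⟨x', hx'⟩, by simpa using hx⟩

namespace SCov

variable (C : SCov X)

theorem isAffineHom_ι (i : Fin C.n) : IsAffineHom (C.U i).ι :=
  ⟨fun W hW => (C.U i).ι.isAffineOpen_iff_of_isOpenImmersion.1 (by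
    rw [Scheme.Hom.image_preimage_eq_opensRange_inf, Scheme.Opens.opensRange_ι]
    exact C.inter i W hW)⟩

/-- The direct image of a restriction. -/
def part (M : X.Modules) (i : Fin C.n) : X.Modules :=
  (Scheme.Modules.pushforward (C.U i).ι).obj (M.restrict (C.U i).ι)

theorem isQuasicoherent_part (M : X.Modules) [M.IsQuasicoherent] (i : Fin C.n) :
    (C.part M i).IsQuasicoherent := by
  haveI := C.isAffineHom_ι i
  haveI : (M.restrict (C.U i).ι).IsQuasicoherent :=
    Scheme.Modules.isQuasicoherent_restrictFunctor (C.U i).ι M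
  exact isQuasicoherent_pushforward_of_isAffineHom (C.U i).ι (M.restrict (C.U i).ι)

/-- The acyclic module. -/
def J (M : X.Modules) : X.Modules := ⨁ C.part M

/-- The embedding. -/
def emb (M : X.Modules) : M ⟶ C.J M :=
  biproduct.lift fun i => (Scheme.Modules.restrictAdjunction (C.U i).ι).unit.app M

theorem isQuasicoherent_J (M : X.Modules) [M.IsQuasicoherent] : (C.J M).IsQuasicoherent := by
  haveI : ∀ i, (C.part M i).IsQuasicoherent := C.isQuasicoherent_part M
  exact isQuasicoherent_biproduct _

theorem mono_emb (M : X.Modules) : Mono (C.emb M) := by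
  refine H11Tilde.mono_of_injective _ fun W t ht x hx => ?_
  obtain ⟨i, hi⟩ := C.cover x
  refine ⟨C.U i ⊓ W, inf_le_right, ⟨hi, hx⟩, ?_⟩
  have h0 : ((Scheme.Modules.restrictAdjunction (C.U i).ι).unit.app M).app W t = 0 := by
    have h := congr($(congrArg (fun k => Scheme.Modules.Hom.app k W) (biproduct.lift_π
      (fun i => (Scheme.Modules.restrictAdjunction (C.U i).ι).unit.app M) i)) t)
    refine h.symm.trans ?_
    exact (congrArg ((biproduct.π (C.part M) i).app W) ht).trans (map_zero _)
  rw [Scheme.Modules.restrictAdjunction_unit_app_app] at h0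
  have he : (C.U i).ι ''ᵁ ((C.U i).ι ⁻¹ᵁ W) = C.U i ⊓ W := by
    rw [Scheme.Hom.image_preimage_eq_opensRange_inf, Scheme.Opens.opensRange_ι]
  rw [show M.presheaf.map (homOfLE (inf_le_right : C.U i ⊓ W ≤ W)).op t =
    M.presheaf.map (homOfLE he.ge).op
      (M.presheaf.map (homOfLE ((C.U i).ι.image_preimage_le W)).op t) from (H10Coh.mres_mres M _ _ _).symm]
  exact (congrArg _ h0).trans (map_zero _)

theorem subsingleton_HH_part (M : X.Modules) [M.IsQuasicoherent] (i : Fin C.n) {p : ℕ} (hp : 0 < p) :
    Subsingleton (Coh.HH X (C.part M i) p) := by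
  haveI := C.isAffineHom_ι i
  haveI : (M.restrict (C.U i).ι).IsQuasicoherent :=
    Scheme.Modules.isQuasicoherent_restrictFunctor (C.U i).ι M
  haveI : IsAffine (C.U i) := C.aff i
  haveI := enoughInjMod (C.U i)
  exact @Equiv.subsingleton _ _
    (Equiv.ofBijective _ (bijective_pushEdge (C.U i).ι (M.restrict (C.U i).ι)
      (isAcyclic_push_of_isAffineHom (C.U i).ι _) p))
    (subsingleton_HH_of_isAffine _ hp)

theorem subsingleton_HH_J (M : X.Modules) [M.IsQuasicoherent] {p : ℕ} (hp : 0 < p) :
    Subsingleton (Coh.HH X (C.J M) p) := by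
  refine @Equiv.subsingleton _ _ (HHEquiv (C.J M) p).toEquiv ?_
  refine Tw.subsingleton_of_sum_eq_id (fun i => (shF X).map (biproduct.π (C.part M) i))
    (fun i => (shF X).map (biproduct.ι (C.part M) i)) ?_
    fun i => @Equiv.subsingleton _ _ (HHEquiv (C.part M i) p).toEquiv.symm (C.subsingleton_HH_part M i hp)
  simp only [← Functor.map_comp]
  rw [← (shF X).map_sum, biproduct.total]
  exact (shF X).map_id _

end SCov

end Groth.Agent.H10Coh
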