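import Groth.Agent.H10Coh.SheafH
import Mathlib.Topology.Sheaves.SheafCondition.UniqueGluing

/-!
# Flasqueness is local
-/

set_option autoImplicit false

noncomputable section

universe u

open CategoryTheory CategoryTheory.Limits Opposite TopologicalSpace

namespace Groth.Agent.H10Coh

variable {X : TopCat.{u}}

/-- Surjectivity of restriction maps inside `U`. -/
def FlasqueOn (U : Opens X) (F : CohTop.Ab X) : Prop :=
  ∀ ⦃W V : Opens X⦄ (h : V ≤ W), W ≤ U → Function.Surjective (F.obj.map (homOfLE h).op)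

theorem res_res (F : CohTop.Ab X) {U V W : Opens X} (h₁ : V ≤ U) (h₂ : W ≤ V) (s : F.obj.obj (op U)) :
    F.obj.map (homOfLE h₂).op (F.obj.map (homOfLE h₁).op s) = F.obj.map (homOfLE (h₂.trans h₁)).op s :=
  (ConcreteCategory.comp_apply _ _ s).symm.trans
    (congrArg (fun k : F.obj.obj (op U) ⟶ F.obj.obj (op W) => k s)
      ((F.obj.map_comp _ _).symm.trans (congrArg F.obj.map (Subsingleton.elim _ _))))

theorem res_self (F : CohTop.Ab X) {U : Opens X} (h : U ≤ U) (s : F.obj.obj (op U)) :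
    F.obj.map (homOfLE h).op s = s := by
  rw [show (homOfLE h).op = 𝟙 (op U) from Subsingleton.elim _ _, CategoryTheory.Functor.map_id]
  rfl

theorem eq_of_cover (F : CohTop.Ab X) {ι : Type u} (U : ι → Opens X) {V : Opens X} (hU : ∀ i, U i ≤ V)
    (hc : V ≤ iSup U) (a b : F.obj.obj (op V))
    (h : ∀ i, F.obj.map (homOfLE (hU i)).op a = F.obj.map (homOfLE (hU i)).op b) : a = b :=
  TopCat.Sheaf.eq_of_locally_eq' (F := F) U V (fun i => homOfLE (hU i)) hc a b h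

/-- Flasqueness is local on the space. -/
theorem flasque_of_flasqueOn (F : CohTop.Ab X) (hF : ∀ x : X, ∃ U : Opens X, x ∈ U ∧ FlasqueOn U F) :
    Flasque F := by
  intro T V hVT s
  let P := {p : Σ W : Opens X, F.obj.obj (op W) //
    p.1 ≤ T ∧ ∃ h : V ≤ p.1, F.obj.map (homOfLE h).op p.2 = s}
  let r : P → P → Prop := fun a b => ∃ h : a.1.1 ≤ b.1.1, F.obj.map (homOfLE h).op b.1.2 = a.1.2
  have htrans : ∀ {a b c : P}, r a b → r b c → r a c := by
    rintro a b c ⟨h₁, e₁⟩ ⟨h₂, e₂⟩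
    exact ⟨h₁.trans h₂, by rw [← res_res F h₂ h₁, e₂, e₁]⟩
  obtain ⟨m, hm⟩ : ∃ m : P, ∀ a, r m a → r a m := by
    refine exists_maximal_of_chains_bounded (fun c hc => ?_) htrans
    rcases c.eq_empty_or_nonempty with rfl | ⟨a₀, ha₀⟩
    · exact ⟨⟨⟨V, s⟩, hVT, le_rfl, res_self F _ s⟩, fun a ha => ha.elim⟩
    let U : c → Opens X := fun a => a.1.1.1
    have hcmp : TopCat.Presheaf.IsCompatible F.obj U fun a => a.1.1.2 := fun a b => by
      rcases eq_or_ne a b with rfl | hne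
      · rfl
      rcases hc a.2 b.2 (fun h => hne (Subtype.ext h)) with ⟨h, e⟩ | ⟨h, e⟩
      · show F.obj.map _ a.1.1.2 = F.obj.map _ b.1.1.2
        rw [← e]
        exact res_res F h _ _
      · show F.obj.map _ a.1.1.2 = F.obj.map _ b.1.1.2
        rw [← e]
        exact (res_res F h _ _).symm
    obtain ⟨g, hg, -⟩ := TopCat.Sheaf.existsUnique_gluing (F := F) U (fun a => a.1.1.2) hcmp
    have hle : ∀ a : c, U a ≤ iSup U := le_iSup U
    have hg' : ∀ a : c, F.obj.map (homOfLE (hle a)).op g = a.1.1.2 := fun a => hg a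
    obtain ⟨hV₀, e₀⟩ := a₀.2.2
    refine ⟨⟨⟨iSup U, g⟩, iSup_le fun a => a.1.2.1, hV₀.trans (hle ⟨a₀, ha₀⟩), ?_⟩,
      fun a ha => ⟨hle ⟨a, ha⟩, hg' ⟨a, ha⟩⟩⟩
    rw [← res_res F (hle ⟨a₀, ha₀⟩) hV₀, hg' ⟨a₀, ha₀⟩, e₀]
  by_cases htop : T ≤ m.1.1
  · obtain ⟨hVm, em⟩ := m.2.2
    exact ⟨F.obj.map (homOfLE htop).op m.1.2, (res_res F htop hVT _).trans em⟩
  exfalso
  obtain ⟨x, hxT, hxm⟩ := SetLike.not_le_iff_exists.1 htop
  obtain ⟨U, hxU, hU⟩ := hF x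
  let W := U ⊓ T
  obtain ⟨t, ht⟩ := hU (inf_le_right : m.1.1 ⊓ W ≤ W) inf_le_left
    (F.obj.map (homOfLE (inf_le_left : m.1.1 ⊓ W ≤ m.1.1)).op m.1.2)
  let G : ULift.{u} Bool → Opens X := fun b => cond b.down m.1.1 W
  let g : ∀ b, F.obj.obj (op (G b)) := fun b => match b with
    | ⟨true⟩ => m.1.2
    | ⟨false⟩ => t
  have hcmp : TopCat.Presheaf.IsCompatible F.obj G g := by
    rintro ⟨_ | _⟩ ⟨_ | _⟩
    · rfl
    · show F.obj.map _ t = F.obj.map _ m.1.2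
      refine ((res_res F (inf_le_right : m.1.1 ⊓ W ≤ W) (le_inf inf_le_right inf_le_left : W ⊓ m.1.1 ≤ m.1.1 ⊓ W)
        t).symm.trans ?_).trans (res_res F (inf_le_left : m.1.1 ⊓ W ≤ m.1.1)
        (le_inf inf_le_right inf_le_left : W ⊓ m.1.1 ≤ m.1.1 ⊓ W) m.1.2)
      exact congrArg _ ht
    · show F.obj.map _ m.1.2 = F.obj.map _ t
      exact ht.symm
    · rfl
  obtain ⟨gl, hgl, -⟩ := TopCat.Sheaf.existsUnique_gluing (F := F) G g hcmp
  have hmle : m.1.1 ≤ iSup G := le_iSup G ⟨true⟩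
  have hm' : F.obj.map (homOfLE hmle).op gl = m.1.2 := hgl ⟨true⟩
  obtain ⟨hVm, em⟩ := m.2.2
  obtain ⟨h', -⟩ := hm ⟨⟨iSup G, gl⟩, iSup_le (fun b => by
      rcases b with ⟨_ | _⟩
      · exact inf_le_right
      · exact m.2.1), hVm.trans hmle, by rw [← res_res F hmle hVm, hm', em]⟩ ⟨hmle, hm'⟩
  exact hxm (h' ((le_iSup G ⟨false⟩ : W ≤ iSup G) ⟨hxU, hxT⟩))

end Groth.Agent.H10Coh
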