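import Groth.Agent.H10Coh.AmpleDevissage
import Groth.Agent.LeadDev.Rules
import Groth.Agent.LeadAff.Chevalley

/-!
# Ampleness descends along finite surjective morphisms
-/

set_option autoImplicit false
set_option linter.style.haveILetI false
set_option linter.unusedSectionVars false

noncomputable section

universe u

open CategoryTheory CategoryTheory.Limits AlgebraicGeometry Opposite TopologicalSpace

namespace Groth.Agent.H10Coh.AmpleFS

open Groth.Agent.H10Coh.Tw Groth.Agent.H11Ample

attribute [local instance 10000] H10Coh.hasSheafifyAb H10Coh.hasWeakSheafifyAb H10Coh.hasExtAb H10Coh.enoughInjAb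

section step

variable {X T : Scheme.{u}} [IsNoetherian X] (g : T ⟶ X) [IsFinite g] [IsIntegral T]

theorem mem_basicOpen_iff {W : X.Opens} (c : Γ(X, W)) :
    g (genericPoint T) ∈ X.basicOpen c ↔ g.app W c ≠ 0 := by
  rw [Ne, ← basicOpen_eq_bot_iff]
  constructor
  · intro h hb
    have h' : genericPoint T ∈ g ⁻¹ᵁ X.basicOpen c := h
    rw [Scheme.preimage_basicOpen, hb] at h'
    exact h'
  · intro hb
    obtain ⟨z, hz⟩ : (T.basicOpen (g.app W c) : Set T).Nonempty := by
      by_contra he
      exact hb (Opens.ext (Set.not_nonempty_iff_eq_empty.1 he))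
    have : genericPoint T ∈ T.basicOpen (g.app W c) :=
      ((genericPoint_spec T).mem_open_set_iff (T.basicOpen (g.app W c)).2).2 ⟨z, trivial, hz⟩
    rw [← Scheme.preimage_basicOpen] at this
    exact this

theorem mem_support : g (genericPoint T) ∈ CohB1.support ((Coh.push g).obj (Coh.structureModule T)) := by
  by_contra hc
  obtain ⟨W, hW, hξW, -⟩ := exists_isAffineOpen_mem_and_subset (U := (⊤ : X.Opens)) (x := g (genericPoint T)) trivial
  haveI : (Coh.structureModule T).IsQuasicoherent := H10Coh.isQuasicoherent_unit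
  obtain ⟨c, hc', hc0⟩ := LeadDev.exists_unitAt_smul_eq_zero hW hξW _
    (H10Coh.isQuasicoherent_pushforward_of_isAffineHom g (Coh.structureModule T)) hc
    (show Γ((Coh.push g).obj (Coh.structureModule T), W) from (1 : Γ(T, g ⁻¹ᵁ W)))
  exact (mem_basicOpen_iff g c).1 hc' ((mul_one _).symm.trans hc0)

/-- The push forward of the inverse image ideal maps into the multiples of the ideal. -/
theorem exists_mono_idealMul (J : X.IdealSheafData) (hJ : g (genericPoint T) ∉ (J.support : Set X))
    {W : X.Opens} (hW : IsAffineOpen W) (hξW : g (genericPoint T) ∈ W) :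
    ∃ (K : T.Modules) (ι' : (Coh.push g).obj K ⟶ (Dual3.idealMul J).obj ((Coh.push g).obj (Coh.structureModule T))),
      Coh.IsCoh K ∧ Mono ι' ∧ LeadDev.SurjAt (g (genericPoint T)) W (ι' ≫ Dual3.idealMulι J _) := by
  haveI : IsLocallyNoetherian T := LocallyOfFiniteType.isLocallyNoetherian g
  haveI : CompactSpace T := QuasiCompact.compactSpace_of_compactSpace g
  haveI : IsNoetherian T := ⟨⟩
  haveI : (Coh.structureModule T).IsQuasicoherent := H10Coh.isQuasicoherent_unit
  have hO : Coh.IsCoh (Coh.structureModule T) := LeadAff.isCoh_structureModule T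
  set G := (Coh.push g).obj (Coh.structureModule T)
  have hG : Coh.IsCoh G := H10Coh.isCoh_push_of_isFinite g _ hO
  let K := (Dual3.idealMul (J.comap g)).obj (Coh.structureModule T)
  have hK : Coh.IsCoh K := LeadDev.isCoh_idealMul _ _ hO
  haveI : K.IsQuasicoherent := hK.1
  let μ : (Coh.push g).obj K ⟶ G := (Coh.push g).map (Dual3.idealMulι (J.comap g) _)
  haveI : Mono μ := inferInstanceAs (Mono ((Coh.push g).map (Dual3.idealMulι (J.comap g) _)))
  let η := (Scheme.Modules.pullbackPushforwardAdjunction J.subschemeι).unit.app G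
  have hideal : ∀ U : X.affineOpens, (J.comap g).ideal ⟨g ⁻¹ᵁ U.1, U.2.preimage g⟩ = (J.ideal U).map (g.app U.1).hom :=
    fun U => by rw [H29Blow.ideal_comap J g U ⟨g ⁻¹ᵁ U.1, U.2.preimage g⟩ le_rfl, Scheme.Hom.appLE_eq_app]
  have hμη : μ ≫ η = 0 := by
    haveI := hG.1
    haveI : ((Scheme.Modules.pullback J.subschemeι).obj G).IsQuasicoherent := H29Fitt.isQCoh_pullback _ G hG.1
    refine LeadAff.hom_ext_affine _ _ fun U hU s => ?_
    have hm := LeadDev.idealMulι_app_mem (J.comap g) (Coh.structureModule T) hO ⟨g ⁻¹ᵁ U, hU.preimage g⟩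
      (show Γ(K, g ⁻¹ᵁ U) from s)
    have hall : ∀ b ∈ (J.ideal ⟨U, hU⟩).map (g.app U).hom, ∀ t : Γ(T, g ⁻¹ᵁ U),
        η.app U (show Γ(G, U) from (b * t : Γ(T, g ⁻¹ᵁ U))) = 0 := by
      intro b hb
      induction hb using Submodule.span_induction with
      | mem x hx =>
        obtain ⟨a, ha, rfl⟩ := hx
        intro t
        obtain ⟨w, hw⟩ := LeadDev.exists_idealMulι_app_eq J G hG ⟨U, hU⟩ a ha (show Γ(G, U) from t)
        refine (congrArg (η.app U) hw.symm).trans ?_
        exact congr($(congr(Scheme.Modules.Hom.app $(kernel.condition η) U)) w)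
      | zero => intro t; rw [zero_mul]; exact map_zero _
      | add x y _ _ hx hy => intro t; rw [add_mul]; exact (map_add (η.app U).hom _ _).trans (by erw [hx t, hy t, add_zero])
      | smul a x _ hx => intro t; rw [smul_eq_mul, mul_comm a x, mul_assoc]; exact hx (a * t)
    show η.app U (show Γ(G, U) from (Dual3.idealMulι (J.comap g) (Coh.structureModule T)).app (g ⁻¹ᵁ U) s) = 0
    refine Submodule.smul_induction_on
      (p := fun z : Γ(Coh.structureModule T, g ⁻¹ᵁ U) => η.app U (show Γ(G, U) from z) = 0) hm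
      (fun b hb t _ => hall b ((hideal ⟨U, hU⟩).le hb) t)
      fun x y hx hy => (map_add (η.app U).hom _ _).trans (by erw [hx, hy, add_zero])
  refine ⟨K, kernel.lift η μ hμη, hK, mono_of_mono_fac (kernel.lift_ι η μ hμη), ?_⟩
  refine Eq.mpr (congrArg (LeadDev.SurjAt (g (genericPoint T)) W) (kernel.lift_ι η μ hμη)) ?_
  intro y
  have h : g (genericPoint T) ∉ X.zeroLocus (U := W) (J.ideal ⟨W, hW⟩ : Set Γ(X, W)) := fun hz =>
    hJ ((J.coe_support_inter ⟨W, hW⟩).ge ⟨hz, hξW⟩).1
  rw [Scheme.mem_zeroLocus_iff] at h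
  push Not at h
  obtain ⟨a, ha, haξ⟩ := h
  obtain ⟨z, hz⟩ := LeadDev.exists_idealMulι_app_eq (J.comap g) (Coh.structureModule T) hO
    ⟨g ⁻¹ᵁ W, hW.preimage g⟩ (g.app W a) ((hideal ⟨W, hW⟩).ge (Ideal.mem_map_of_mem _ ha))
    (show Γ(Coh.structureModule T, g ⁻¹ᵁ W) from y)
  exact ⟨a, z, haξ, hz⟩

end step

/-- An invertible module on a proper scheme over a Noetherian ring is ample if its inverse image by a
finite surjective morphism is ample. -/
theorem isAmple_of_finite_surjective {R : Type u} [CommRing R] [IsNoetherianRing R] {X Y : Scheme.{u}}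
    (q : X ⟶ Spec (CommRingCat.of R)) [IsProper q] (f : Y ⟶ X) [IsFinite f] [Surjective f]
    {L : X.Modules} (hL : PicF.IsInvertible L) (ha : CohB1.IsAmple ((Scheme.Modules.pullback f).obj L)) :
    CohB1.IsAmple L := by
  haveI : IsLocallyNoetherian X := LocallyOfFiniteType.isLocallyNoetherian q
  haveI : CompactSpace X := QuasiCompact.compactSpace_of_compactSpace q
  haveI : IsNoetherian X := ⟨⟩
  haveI : IsLocallyNoetherian Y := LocallyOfFiniteType.isLocallyNoetherian f
  haveI : CompactSpace Y := QuasiCompact.compactSpace_of_compactSpace f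
  haveI : IsNoetherian Y := ⟨⟩
  refine isAmple_of_evVan q hL fun F hF => ?_
  have hretr : ∀ (M N : X.Modules) (i : N ⟶ M) (r : M ⟶ N), i ≫ r = 𝟙 N → EvVan L 1 M → EvVan L 1 N := by
    rintro M N i r hir ⟨n₀, h⟩
    refine ⟨n₀, fun n hn p hp => subsingleton_of_sum_eq_id (ι := Unit)
      (P := fun _ => sh (CohB1.tensorMod M (CohB1.tensorPow L n)))
      (fun _ => (shF X).map (LimSh.tensorModMap i _)) (fun _ => (shF X).map (LimSh.tensorModMap r _)) ?_
      fun _ => h n hn p hp⟩
    rw [Fintype.sum_unique, ← Functor.map_comp, ← LimSh.tensorModMap_comp, hir, LimSh.tensorModMap_id]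
    exact (shF X).map_id _
  have h0 : ∀ M : X.Modules, IsZero M → EvVan L 1 M := fun M hM =>
    ⟨0, fun n _ p _ => subsingleton_of_forall_eq 0 fun x => by
      have hz : IsZero (CohB1.tensorMod M (CohB1.tensorPow L n)) := (IsZero.iff_id_eq_zero _).2 <| by
        rw [← LimSh.tensorModMap_id, hM.eq_of_src (𝟙 M) 0]
        exact (mapHom M M (isInvertible_tensorPow hL n)).map_zero
      rw [← Abelian.Ext.comp_mk₀_id x, ((shF X).map_isZero hz).eq_of_src (𝟙 _) 0, Abelian.Ext.mk₀_zero,
        Abelian.Ext.comp_zero]⟩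
  refine LeadDev.devissage_induction Set.univ (EvVan L 1) (fun M N ⟨e⟩ h => h.of_iso e) h0
    (fun S hS _ _ _ h1 h3 => h1.X₂ hL hS h3) ?_ F hF (Set.subset_univ _)
  intro Z i _ _ _ hsmall I₀ ι₀ _ hI₀
  obtain ⟨y, hy⟩ := f.surjective (i (genericPoint Z))
  obtain ⟨T, j, hT, -, hj, hjr⟩ :=
    H17.ConsProp.exists_integral_closed (closure {y}) isClosed_closure isIrreducible_singleton.closure
  haveI := hT
  haveI := hj
  let g := j ≫ f
  haveI : IsFinite g := inferInstanceAs (IsFinite (j ≫ f))
  have hgen : j (genericPoint T) = y := by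
    have h1 : IsGenericPoint (j (genericPoint T)) (closure {y}) :=
      ((LeadDev.range_eq_closure j (ξ := j (genericPoint T)) rfl).symm.trans hjr)
    exact h1.eq rfl
  have hξ : i (genericPoint Z) = g (genericPoint T) := by
    show _ = f (j (genericPoint T)); rw [hgen, hy]
  have hag : CohB1.IsAmple ((Scheme.Modules.pullback g).obj L) :=
    (isAmple_pullback_comp_iff j f L).2 (isAmple_pullback_of_isAffineHom j ha)
  obtain ⟨W, hW, hξW, -⟩ := exists_isAffineOpen_mem_and_subset (U := (⊤ : X.Opens)) (x := i (genericPoint Z)) trivial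
  haveI : (Coh.structureModule T).IsQuasicoherent := H10Coh.isQuasicoherent_unit
  have hG : Coh.IsCoh ((Coh.push g).obj (Coh.structureModule T)) :=
    H10Coh.isCoh_push_of_isFinite g _ (LeadAff.isCoh_structureModule _)
  obtain ⟨r, hr, -, -, hPr⟩ := LeadDev.key_step i rfl I₀ ι₀ hI₀ (EvVan L 1) h0 hsmall
    (fun S hS _ _ _ _ h1 h3 => h1.X₂ hL hS h3) hW hξW _ hG (hξ ▸ mem_support g)
    (fun a ha s => ⟨1, LeadDev.unitAt_one hξW, by
      have h0' : g.app W a = 0 := by
        by_contra h
        exact ha (hξ ▸ (mem_basicOpen_iff g a).2 h)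
      rw [one_smul]
      show g.app W a * (show Γ(T, g ⁻¹ᵁ W) from s) = 0
      rw [h0', zero_mul]⟩)
    (fun J hJ => by
      obtain ⟨K, ι', hK, hι', hs⟩ := exists_mono_idealMul g J (hξ ▸ hJ) hW (hξ ▸ hξW)
      exact ⟨_, ι', hι', H10Coh.isCoh_push_of_isFinite g K hK, hξ ▸ hs, evVan_push q g hL hag K hK⟩)
  exact hretr _ _ (biproduct.ι (fun _ : Fin r => (Coh.push i).obj I₀) ⟨0, hr⟩) (biproduct.π _ ⟨0, hr⟩)
    (biproduct.ι_π_self _ _) hPr

end Groth.Agent.H10Coh.AmpleFS
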