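import Groth.Agent.H10Coh.PushEdge
import Groth.Agent.H10Coh.FlatBC.Main
import Groth.Agent.LeadFF.Geom

/-!
# Base change of cohomology along a finite projective extension of the base ring
-/

set_option autoImplicit false
set_option linter.style.haveILetI false

noncomputable section

universe u

open CategoryTheory CategoryTheory.Limits AlgebraicGeometry Opposite TopologicalSpace Abelian TensorProduct

namespace Groth.Agent.H10Coh.FPBC

attribute [local instance 10000] hasSheafifyAb hasWeakSheafifyAb hasExtAb enoughInjAb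

open Scheme.Modules (pushforward pullbackPushforwardAdjunction)

section post

variable {X : Scheme.{u}}

/-- Postcomposition on cohomology. -/
def post {P Q : X.Modules} (φ : P ⟶ Q) (n : ℕ) : Coh.HH X P n →+ Coh.HH X Q n :=
  Sheaf.H.map ((shF X).map φ) n

theorem post_comp {P Q R : X.Modules} (φ : P ⟶ Q) (ψ : Q ⟶ R) (n : ℕ) (x : Coh.HH X P n) :
    post ψ n (post φ n x) = post (φ ≫ ψ) n x := by
  rw [post, post, post, Functor.map_comp]
  exact (Sheaf.H.map_comp_apply _ _ _).symm

theorem post_id {P : X.Modules} (n : ℕ) (x : Coh.HH X P n) : post (𝟙 P) n x = x := by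
  rw [post, CategoryTheory.Functor.map_id]
  exact Sheaf.H.map_id_apply _

theorem post_sum {P Q : X.Modules} {ι : Type} (s : Finset ι) (φ : ι → (P ⟶ Q)) (n : ℕ) (x : Coh.HH X P n) :
    post (∑ j ∈ s, φ j) n x = ∑ j ∈ s, post (φ j) n x := by
  classical
  induction s using Finset.induction_on with
  | empty =>
    simp only [Finset.sum_empty, post, Functor.map_zero]
    change ((Sheaf.functorH _ n).map (0 : sh P ⟶ sh Q)).hom x = 0
    rw [Functor.map_zero]
    rfl
  | insert j s hj ih =>
    rw [Finset.sum_insert hj, Finset.sum_insert hj, ← ih, post, post, post, Functor.map_add]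
    exact Sheaf.H.map_add_apply _ _ _

theorem app_sum {P Q : X.Modules} {ι : Type} [Fintype ι] (φ : ι → (P ⟶ Q)) (U : X.Opens) (x : Γ(P, U)) :
    (∑ j, φ j).app U x = ∑ j, (φ j).app U x :=
  map_sum (AddMonoidHom.mk' (fun ψ : P ⟶ Q => ψ.app U x) fun _ _ => rfl) φ Finset.univ

theorem smul_eq_post {A : Type u} [CommRing A] [X.Over (Spec (CommRingCat.of A))] (M : X.Modules) (n : ℕ)
    (a : A) (x : Coh.HH X M n) : a • x = post (Formal.smulMod A M a) n x := by
  show Sheaf.H.map (Coh.smulAb M _) n x = Sheaf.H.map ((shF X).map (Formal.smulMod A M a)) n x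
  congr 2

end post

variable {A B : Type u} [CommRing A] [CommRing B] [Algebra A B] {X X' : Scheme.{u}}
  [X.Over (Spec (CommRingCat.of A))] [X'.Over (Spec (CommRingCat.of B))] {q : X' ⟶ X}
  (hsq : IsPullback q (X' ↘ Spec (CommRingCat.of B)) (X ↘ Spec (CommRingCat.of A))
    (Spec.map (CommRingCat.ofHom (algebraMap A B))))
  (M : X.Modules)

variable (q) in
/-- `q_* q^* M`. -/
abbrev P : X.Modules := (pushforward q).obj ((Scheme.Modules.pullback q).obj M)

variable (q) in
/-- Multiplication by a scalar of the new base on `q_* q^* M`. -/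
def μ (b : B) : P q M ⟶ P q M :=
  (pushforward q).map (Formal.smulMod B ((Scheme.Modules.pullback q).obj M) b)

variable (q) in
/-- `m ↦ b • (1 ⊗ m)`. -/
def ins (b : B) : M ⟶ P q M := (pullbackPushforwardAdjunction q).unit.app M ≫ μ q M b

theorem ins_app (b : B) (U : X.Opens) (m : Γ(M, U)) :
    (ins q M b).app U m =
      LeadFF.scal (X' ↘ Spec (CommRingCat.of B)) (q ⁻¹ᵁ U) b • OmegaSh.pullSect q M U m := rfl

theorem ins_sum {ι : Type} (s : Finset ι) (b : ι → B) : ins q M (∑ j ∈ s, b j) = ∑ j ∈ s, ins q M (b j) := by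
  classical
  induction s using Finset.induction_on with
  | empty =>
    refine LeadFF.hom_ext_sections _ _ fun U m => ?_
    rw [Finset.sum_empty, Finset.sum_empty, ins_app, map_zero, zero_smul]
    rfl
  | insert j s hj ih =>
    rw [Finset.sum_insert hj, Finset.sum_insert hj, ← ih]
    refine LeadFF.hom_ext_sections _ _ fun U m => ?_
    rw [ins_app, map_add, add_smul]
    rfl

include hsq in
theorem smul_ins (a : A) (b : B) :
    Formal.smulMod A M a ≫ ins q M b = ins q M (algebraMap A B a * b) := by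
  refine LeadFF.hom_ext_sections _ _ fun U m => ?_
  show (ins q M b).app U ((Formal.smulMod A M a).app U m) = _
  rw [LeadFF.smulMod_app, ins_app, ins_app, map_mul]
  rw [show OmegaSh.pullSect q M U (LeadFF.scal (X ↘ Spec (CommRingCat.of A)) U a • m) =
      q.app U (LeadFF.scal (X ↘ Spec (CommRingCat.of A)) U a) • OmegaSh.pullSect q M U m from
    Scheme.Modules.Hom.app_smul _ _ m, LeadFF.app_scal hsq, ← mul_smul, mul_comm]

variable {k : ℕ} (bb : Fin k → B) (ℓ : Fin k → B →ₗ[A] A) (hdual : ∀ b, ∑ j, ℓ j b • bb j = b)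

/-- The map from a finite direct sum of copies. -/
def π : (⨁ fun _ : Fin k => M) ⟶ P q M := biproduct.desc fun j => ins q M (bb j)

include hsq hdual in
theorem ins_eq (b : B) :
    ins q M b = ∑ j, Formal.smulMod A M (ℓ j b) ≫ ins q M (bb j) := by
  rw [Finset.sum_congr rfl fun j _ => smul_ins hsq M (ℓ j b) (bb j), ← ins_sum]
  refine congrArg (ins q M) ((hdual b).symm.trans (Finset.sum_congr rfl fun j _ => ?_))
  exact Algebra.smul_def _ _

include hsq hdual in
theorem epi_π (hM : Coh.IsQCoh M) : Epi (π (q := q) M bb) := by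
  refine Preadditive.epi_of_cancel_zero _ fun {T} t ht => ?_
  refine LeadFF.hom_ext_affine _ _ fun U hU => ?_
  refine (LeadFF.exists_sections hsq M hM hU).1 _ (map_zero _) (fun x y hx hy => ?_) fun s m => ?_
  · exact (map_add (t.app U).hom x y).trans ((congrArg₂ (· + ·) hx hy).trans
      (map_add ((0 : P q M ⟶ T).app U).hom x y).symm)
  · show t.app U ((ins q M s).app U m) = 0
    have hz : ins q M s ≫ t = 0 := by
      rw [ins_eq hsq M bb ℓ hdual s, Preadditive.sum_comp]
      refine Finset.sum_eq_zero fun j _ => ?_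
      have hj : ins q M (bb j) ≫ t = 0 := by
        have := congrArg (biproduct.ι (fun _ : Fin k => M) j ≫ ·) ht
        simpa [π] using this
      rw [Category.assoc, hj, comp_zero]
    exact congr($(congrArg (fun φ => Scheme.Modules.Hom.app φ U) hz) m)

include hsq hdual in
/-- The coordinate projection attached to a functional. -/
theorem exists_proj (hM : Coh.IsQCoh M) (i : Fin k) :
    ∃ L : P q M ⟶ M, ∀ b : B, ins q M b ≫ L = Formal.smulMod A M (ℓ i b) := by
  haveI := epi_π hsq M bb ℓ hdual hM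
  let t : (⨁ fun _ : Fin k => M) ⟶ M := biproduct.desc fun j => Formal.smulMod A M (ℓ i (bb j))
  have ht : kernel.ι (π (q := q) M bb) ≫ t = 0 := by
    refine LeadFF.hom_ext_affine _ _ fun U hU z => ?_
    let w : Γ((⨁ fun _ : Fin k => M), U) := (kernel.ι (π (q := q) M bb)).app U z
    have hw : (π (q := q) M bb).app U w = 0 :=
      congr($(congrArg (fun φ => Scheme.Modules.Hom.app φ U) (kernel.condition (π (q := q) M bb))) z)
    obtain ⟨L₀, hL₀⟩ := (LeadFF.exists_sections hsq M hM hU).2 (ℓ i) (fun x y => map_add _ x y)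
      (fun a x => by rw [← Algebra.smul_def, map_smul, smul_eq_mul])
    show t.app U w = 0
    have e1 : (π (q := q) M bb) = ∑ j, biproduct.π (fun _ : Fin k => M) j ≫ ins q M (bb j) := by
      simp [π, biproduct.desc_eq]
    have e2 : t = ∑ j, biproduct.π (fun _ : Fin k => M) j ≫ Formal.smulMod A M (ℓ i (bb j)) := by
      simp [t, biproduct.desc_eq]
    let L₁ : Γ(P q M, U) →+ Γ(M, U) := L₀
    have hL₁ : ∀ (s : B) (m : Γ(M, U)), L₁ ((ins q M s).app U m) =
        LeadFF.scal (X ↘ Spec (CommRingCat.of A)) U (ℓ i s) • m := hL₀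
    have e3 : L₁ ((π (q := q) M bb).app U w) = t.app U w := by
      rw [e1, e2, app_sum, app_sum, map_sum]
      exact Finset.sum_congr rfl fun j _ => hL₁ (bb j) _
    rw [← e3, hw, map_zero]
  let L : P q M ⟶ M := Abelian.epiDesc (π (q := q) M bb) t ht
  refine ⟨L, fun b => ?_⟩
  have hj : ∀ j, ins q M (bb j) ≫ L = Formal.smulMod A M (ℓ i (bb j)) := fun j => by
    have h := congrArg (biproduct.ι (fun _ : Fin k => M) j ≫ ·) (Abelian.comp_epiDesc (π (q := q) M bb) t ht)
    exact (((congrArg (· ≫ L) (biproduct.ι_desc (fun j => ins q M (bb j)) j)).symm.trans (Category.assoc _ _ _)).trans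
      h).trans (biproduct.ι_desc _ _)
  rw [ins_eq hsq M bb ℓ hdual b, Preadditive.sum_comp]
  refine LeadFF.hom_ext_sections _ _ fun U m => ?_
  rw [app_sum]
  simp only [Category.assoc, hj]
  show ∑ j, (Formal.smulMod A M (ℓ i (bb j))).app U ((Formal.smulMod A M (ℓ j b)).app U m) = _
  simp only [LeadFF.smulMod_app, ← mul_smul, ← map_mul, ← Finset.sum_smul, ← map_sum]
  congr 2
  conv_rhs => rw [← hdual b, map_sum]
  exact Finset.sum_congr rfl fun j _ => by rw [map_smul, smul_eq_mul, mul_comm]

include hsq hdual in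
theorem sum_proj (hM : Coh.IsQCoh M) (L : Fin k → (P q M ⟶ M))
    (hL : ∀ i b, ins q M b ≫ L i = Formal.smulMod A M (ℓ i b)) : ∑ i, L i ≫ ins q M (bb i) = 𝟙 _ := by
  haveI := epi_π hsq M bb ℓ hdual hM
  refine (cancel_epi (π (q := q) M bb)).1 (biproduct.hom_ext' _ _ fun j => ?_)
  simp only [π, biproduct.ι_desc_assoc, Preadditive.comp_sum, Category.comp_id, biproduct.ι_desc]
  simp only [← Category.assoc, hL]
  exact (ins_eq hsq M bb ℓ hdual (bb j)).symm

include hsq in
/-- The base change map, `b ⊗ x ↦ b • x`. -/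
theorem exists_bcEquiv [Module.Finite A B] [Module.Projective A B] (hM : Coh.IsQCoh M) (n : ℕ) :
    Nonempty (B ⊗[A] Coh.HH X M n ≃ₗ[B] Coh.HH X' ((Scheme.Modules.pullback q).obj M) n) := by
  classical
  obtain ⟨k, f, hf⟩ := Module.Finite.exists_fin' A B
  obtain ⟨g, hg⟩ := Module.projective_lifting_property f LinearMap.id hf
  let bb : Fin k → B := fun j => f (Pi.single j 1)
  let ℓ : Fin k → B →ₗ[A] A := fun j => (LinearMap.proj j).comp g
  have hdual : ∀ b, ∑ j, ℓ j b • bb j = b := fun b => by
    have e : f (g b) = b := congr($hg b)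
    refine Eq.trans ?_ e
    conv_rhs => rw [pi_eq_sum_univ' (g b)]
    rw [map_sum]
    exact Finset.sum_congr rfl fun j _ => by simp [ℓ, bb]
  choose L hL using exists_proj hsq M bb ℓ hdual hM
  haveI := LeadFF.isAffineHom_fst hsq
  haveI := enoughInjMod X'
  haveI : ((Scheme.Modules.pullback q).obj M).IsQuasicoherent := H29Fitt.isQCoh_pullback q M hM
  let e : Coh.HH X (P q M) n →+ Coh.HH X' ((Scheme.Modules.pullback q).obj M) n :=
    CohPull.pushEdge q ((Scheme.Modules.pullback q).obj M) n
  have he : Function.Bijective e := bijective_pushEdge q _ (isAcyclic_push_of_isAffineHom q _) n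
  have heμ : ∀ (b : B) (y : Coh.HH X (P q M) n), e (post (μ q M b) n y) = b • e y := fun b y => by
    rw [smul_eq_post]
    refine (pushEdge_eq q _ n _).trans ?_
    refine Eq.trans ?_ (congrArg (post (Formal.smulMod B ((Scheme.Modules.pullback q).obj M) b) n)
      (pushEdge_eq q _ n y)).symm
    exact edgeAb_naturality q.base ((shF X').map (Formal.smulMod B ((Scheme.Modules.pullback q).obj M) b)) n y
  letI : Module A (Coh.HH X' ((Scheme.Modules.pullback q).obj M) n) := Module.compHom _ (algebraMap A B)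
  haveI : IsScalarTower A B (Coh.HH X' ((Scheme.Modules.pullback q).obj M) n) :=
    .of_algebraMap_smul fun _ _ => rfl
  have hins : ∀ (b : B) (x : Coh.HH X M n),
      e (post (ins q M b) n x) = b • e (post ((pullbackPushforwardAdjunction q).unit.app M) n x) := fun b x => by
    rw [← heμ]
    exact congrArg e (post_comp _ _ n x).symm
  let η : Coh.HH X M n →ₗ[A] Coh.HH X' ((Scheme.Modules.pullback q).obj M) n :=
    { toFun := fun x => e (post (ins q M (1 : B)) n x)
      map_add' := fun x y => by rw [map_add, map_add]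
      map_smul' := fun a x => by
        show e (post (ins q M (1 : B)) n (a • x)) = algebraMap A B a • e (post (ins q M (1 : B)) n x)
        rw [smul_eq_post, post_comp, smul_ins hsq, mul_one, hins, hins, one_smul] }
  let Φ := LinearMap.liftBaseChange B η
  have hΦ : ∀ (b : B) (x : Coh.HH X M n), Φ (b ⊗ₜ x) = e (post (ins q M b) n x) := fun b x => by
    rw [LinearMap.liftBaseChange_tmul]
    show b • e (post (ins q M (1 : B)) n x) = _
    rw [hins, hins, one_smul]
  let Ψ₀ : Coh.HH X (P q M) n → B ⊗[A] Coh.HH X M n := fun y => ∑ j, bb j ⊗ₜ post (L j) n y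
  have hΨ : ∀ z, ∃ y, e y = Φ z ∧ Ψ₀ y = z := fun z => by
    induction z using TensorProduct.induction_on with
    | zero => exact ⟨0, by rw [map_zero, map_zero], by simp [Ψ₀]⟩
    | add x y hx hy =>
      obtain ⟨u, hu, hu'⟩ := hx
      obtain ⟨v, hv, hv'⟩ := hy
      exact ⟨u + v, by rw [map_add, map_add, hu, hv],
        by simp only [Ψ₀, map_add, TensorProduct.tmul_add, Finset.sum_add_distrib]; exact congrArg₂ (· + ·) hu' hv'⟩
    | tmul b x =>
      refine ⟨post (ins q M b) n x, (hΦ b x).symm, ?_⟩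
      simp only [Ψ₀, post_comp, hL, ← smul_eq_post, TensorProduct.tmul_smul, TensorProduct.smul_tmul',
        ← TensorProduct.sum_tmul, hdual]
  refine ⟨LinearEquiv.ofBijective Φ ⟨(injective_iff_map_eq_zero Φ).2 fun z hz => ?_, fun y' => ?_⟩⟩
  · obtain ⟨y, hy, hy'⟩ := hΨ z
    rw [← hy', show y = 0 from he.1 (hy.trans (hz.trans (map_zero e).symm))]
    simp [Ψ₀]
  · obtain ⟨y, rfl⟩ := he.2 y'
    refine ⟨Ψ₀ y, ?_⟩
    simp only [Ψ₀, map_sum, hΦ, post_comp]
    rw [← map_sum, ← post_sum, sum_proj hsq M bb ℓ hdual hM L hL, post_id]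

end Groth.Agent.H10Coh.FPBC
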