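import Groth.Agent.H10Coh.FibreLift.Points
import Groth.Agent.LeadBC.GenBC.Crit
import Groth.Agent.LeadBC.GenBC.PullSectOn
import Groth.Agent.H28Pinch.DirectImageTrivial
import Groth.Agent.H29RR.Generation
import Groth.Agent.H11Ample.Tensor
import Groth.Agent.H06Mod.StalkPullback
import Groth.Agent.H13Desc.FTOpen
import Groth.Agent.H16Derived.ProjFormula.ClosedImm
import Groth.Agent.H10Coh.Pn.Results

/-! # Global generation from the closed fibres and the direct image -/

set_option autoImplicit false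
set_option backward.isDefEq.respectTransparency.types false
set_option linter.style.haveILetI false

universe u

open CategoryTheory CategoryTheory.Limits AlgebraicGeometry TopologicalSpace Opposite
open Groth.Agent.LeadBC Groth.Agent.LeadBC.GenBC Groth.Agent.LeadFF

noncomputable section

namespace Groth.Agent.H10Coh.GGFibre

variable {X Y : Scheme.{u}}

/-- The submodule of stalk elements vanishing at the point. -/
def vanSub (M : X.Modules) (x : X) : Submodule (X.presheaf.stalk x) (M.presheaf.stalk x) :=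
  (IsLocalRing.maximalIdeal (X.presheaf.stalk x)) • ⊤

theorem notMem_van_of_gen {L : X.Modules} (hL : PicF.IsInvertible L) (g : Γ(L, ⊤)) (x : X)
    (hx : x ∈ H11Ample.gen L g) : L.presheaf.germ ⊤ x trivial g ∉ vanSub L x := by
  intro hmem
  have hb := (H11Ample.mem_gen_iff hL g x).1 hx
  obtain ⟨c, hc, hcg⟩ : ∃ c ∈ IsLocalRing.maximalIdeal (X.presheaf.stalk x),
      c • L.presheaf.germ ⊤ x trivial g = L.presheaf.germ ⊤ x trivial g := by
    have htop : (⊤ : Submodule (X.presheaf.stalk x) (L.presheaf.stalk x)) =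
        Submodule.span (X.presheaf.stalk x) {L.presheaf.germ ⊤ x trivial g} :=
      (Submodule.eq_top_iff'.2 fun v => Submodule.mem_span_singleton.2 (hb.2 v)).symm
    rw [vanSub, htop, Submodule.mem_smul_span_singleton] at hmem
    exact hmem
  have h1 : c = 1 := hb.1 (hcg.trans (one_smul _ _).symm)
  exact (IsLocalRing.maximalIdeal.isMaximal (X.presheaf.stalk x)).ne_top ((Ideal.eq_top_iff_one _).2 (h1 ▸ hc))

theorem gen_of_notMem_van {L : X.Modules} (hL : PicF.IsInvertible L) (g : Γ(L, ⊤)) (x : X)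
    (h : L.presheaf.germ ⊤ x trivial g ∉ vanSub L x) : x ∈ H11Ample.gen L g := by
  obtain ⟨V, e, hxV, he⟩ := H11Ample.exists_gen hL x
  obtain ⟨c, hc⟩ := H11Ample.exists_coeff he (L.presheaf.map (homOfLE (le_top : V ≤ ⊤)).op g)
  have hu : IsUnit (X.presheaf.germ V x hxV c) := by
    by_contra hu
    refine h ?_
    rw [← TopCat.Presheaf.germ_res_apply L.presheaf (homOfLE (le_top : V ≤ ⊤)) x hxV g, hc, H06Mod.germ_smul]
    exact Submodule.smul_mem_smul ((IsLocalRing.mem_maximalIdeal _).2 hu) trivial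
  exact ((H11Ample.gen_inf_eq_basicOpen he g c hc).ge ((X.mem_basicOpen c x hxV).2 hu)).1

theorem pullStalk_mem_van (f : X ⟶ Y) (M : Y.Modules) (x : X) {m : M.presheaf.stalk (f.base x)}
    (hm : m ∈ vanSub M (f.base x)) : H06Mod.pullStalk f M x m ∈ vanSub ((Scheme.Modules.pullback f).obj M) x := by
  refine Submodule.smul_induction_on hm (fun c hc v _ => ?_) fun a b ha hb => ?_
  · rw [H06Mod.pullStalk_smul]
    refine Submodule.smul_mem_smul ?_ trivial
    rw [IsLocalRing.mem_maximalIdeal] at hc ⊢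
    exact map_nonunit (f.stalkMap x).hom c hc
  · rw [map_add]
    exact add_mem ha hb

theorem stalkLin_mem_van {M N : X.Modules} (φ : M ⟶ N) (x : X) {m : M.presheaf.stalk x}
    (hm : m ∈ vanSub M x) : H06Mod.stalkLin φ x m ∈ vanSub N x := by
  refine Submodule.smul_induction_on hm (fun c hc v _ => ?_) fun a b ha hb => ?_
  · rw [map_smul]
    exact Submodule.smul_mem_smul hc trivial
  · rw [map_add]
    exact add_mem ha hb

theorem ps_surjective (j : X ⟶ Y) [IsOpenImmersion j] (M : Y.Modules)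
    (t : Γ((Scheme.Modules.pullback j).obj M, ⊤)) :
    ∃ y : Γ(M, j ''ᵁ ⊤), ps j M (j ''ᵁ ⊤) y ⊤ (j.preimage_image_eq ⊤).ge = t := by
  let θ := (Scheme.Modules.restrictFunctorIsoPullback j).inv.app M
  haveI : IsIso (θ.app ⊤) := inferInstance
  refine ⟨θ.app ⊤ t, (ConcreteCategory.bijective_of_isIso (θ.app ⊤)).1 ?_⟩
  refine (iso_ps j M _ _ _ _).trans ?_
  exact H10Coh.mres_self M _ _

/-- A globally generated module is spanned by global germs at every point. -/
theorem span_globals (E : Y.Modules) (h : Curv2.IsGloballyGenerated E) (x : Y) :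
    Submodule.span (Y.presheaf.stalk x) (Set.range fun g : Γ(E, ⊤) => E.presheaf.germ ⊤ x trivial g) = ⊤ := by
  obtain ⟨ι, a', ha'⟩ := h
  let a : H10Coh.freeMod Y ι ⟶ E := a'
  haveI : Epi a := ha'
  let P : Submodule (Y.presheaf.stalk x) (E.presheaf.stalk x) :=
    Submodule.span _ (Set.range fun g : Γ(E, ⊤) => E.presheaf.germ ⊤ x trivial g)
  let ψ : E ⟶ H06Mod.sky x (E.presheaf.stalk x ⧸ P) := H06Mod.homOfStalk P.mkQ
  have h0 : a ≫ ψ = a ≫ 0 := by
    refine H10Coh.free_hom_ext _ _ fun i => ?_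
    refine Scheme.Modules.hom_ext _ _ fun W => ?_
    ext r
    refine H06Mod.skyEval_ext (x := x) (N := E.presheaf.stalk x ⧸ P) fun hxW => ?_
    let g := (H10Coh.freeIncl ι i ≫ a).app ⊤ (show Γ(Coh.structureModule Y, ⊤) from (1 : Γ(Y, ⊤)))
    have hr : (H10Coh.freeIncl ι i ≫ a).app W r =
        (show Γ(Y, W) from r) • E.presheaf.map (homOfLE (le_top : W ≤ ⊤)).op g :=
      H06Mod.app_unit _ W r
    change H06Mod.skyEval x _ W hxW (ψ.app W ((H10Coh.freeIncl ι i ≫ a).app W r)) = _
    rw [hr, H06Mod.skyEval_homOfStalk, H06Mod.germ_smul, TopCat.Presheaf.germ_res_apply]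
    exact (Submodule.Quotient.mk_eq_zero P).2 (P.smul_mem _ (Submodule.subset_span ⟨g, rfl⟩))
  have h1 : ψ = 0 := (cancel_epi a).1 h0
  refine Submodule.eq_top_iff'.2 fun v => ?_
  obtain ⟨W, hxW, m, rfl⟩ := E.presheaf.exists_germ_eq v
  refine (Submodule.Quotient.mk_eq_zero P).1 ?_
  have h2 := congr($(congrArg (fun r => Scheme.Modules.Hom.app r W) h1) m)
  have h3 := congrArg (H06Mod.skyEval x (E.presheaf.stalk x ⧸ P) W hxW) h2
  rw [H06Mod.skyEval_homOfStalk] at h3
  exact h3.trans (map_zero _)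

attribute [local instance 10000] H10Coh.hasSheafifyAb H10Coh.hasWeakSheafifyAb H10Coh.hasExtAb H10Coh.enoughInjAb

variable (f : X ⟶ Y) [IsProper f] [Flat f] [IsLocallyNoetherian Y]

set_option maxHeartbeats 1000000 in
/-- Near a fibre without `H¹` on which `L` is generated, a section of the direct image is nonzero at the point. -/
theorem exists_local_section {L : X.Modules} (hL : PicF.IsInvertible L) (y : Y) (z : f.fiber y)
    (h1 : Subsingleton (Coh.HH (f.fiber y) ((Scheme.Modules.pullback (f.fiberι y)).obj L) 1))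
    (hg : Curv2.IsGloballyGenerated ((Scheme.Modules.pullback (f.fiberι y)).obj L)) :
    ∃ (V : Y.Opens) (_ : y ∈ V) (hz : f.fiberι y z ∈ f ⁻¹ᵁ V) (t : Γ(L, f ⁻¹ᵁ V)),
      L.presheaf.germ (f ⁻¹ᵁ V) (f.fiberι y z) hz t ∉ vanSub L (f.fiberι y z) := by
  obtain ⟨V, hV, hyV, -⟩ := exists_isAffineOpen_mem_and_subset (x := y) (U := ⊤) trivial
  obtain ⟨φ, hφ, -, hfrac⟩ := FibreLift.exists_chart_field hV y hyV
  letI := φ.toAlgebra
  haveI : IsNoetherianRing Γ(Y, V) := IsLocallyNoetherian.component_noetherian ⟨V, hV⟩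
  letI := preOver f hV
  letI : (f.fiber y).Over (Spec (CommRingCat.of (Y.residueField y))) := ⟨f.fiberToSpecResidueField y⟩
  let U := f ⁻¹ᵁ V
  let f' := U.toScheme ↘ Spec (CommRingCat.of Γ(Y, V))
  haveI : IsProper f' := inferInstanceAs (IsProper ((f ∣_ V) ≫ hV.isoSpec.hom))
  haveI : Flat f' := inferInstanceAs (Flat ((f ∣_ V) ≫ hV.isoSpec.hom))
  haveI : IsLocallyNoetherian U.toScheme := LocallyOfFiniteType.isLocallyNoetherian f'
  have hrange : Set.range (f.fiberι y) ⊆ Set.range U.ι := by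
    rw [Scheme.Hom.range_fiberι, Scheme.Opens.range_ι]
    intro a ha
    show f a ∈ V
    rw [show f a = y from ha]
    exact hyV
  let q := IsOpenImmersion.lift U.ι (f.fiberι y) hrange
  have hq : q ≫ U.ι = f.fiberι y := IsOpenImmersion.lift_fac _ _ _
  have hpre : IsPullback U.ι f' f hV.fromSpec := isPullback_preOver f hV
  have hsq : IsPullback q ((f.fiber y) ↘ Spec (CommRingCat.of (Y.residueField y))) f'
      (Spec.map (CommRingCat.ofHom (algebraMap Γ(Y, V) (Y.residueField y)))) :=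
    IsPullback.of_right (h₁₂ := U.ι) (v₁₃ := f) (h₂₂ := hV.fromSpec)
      (by rw [hq, show Spec.map (CommRingCat.ofHom (algebraMap Γ(Y, V) (Y.residueField y))) ≫ hV.fromSpec =
              Y.fromSpecResidueField y from hφ]
          exact IsPullback.of_hasPullback f (Y.fromSpecResidueField y))
      (by
        refine (cancel_mono hV.fromSpec).1 ?_
        rw [Category.assoc, Category.assoc, ← hpre.w, ← Category.assoc, hq]
        refine (f.fiber_fac y).trans ?_
        exact congrArg (f.fiberToSpecResidueField y ≫ ·) hφ.symm)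
      hpre
  let F := (Scheme.Modules.pullback U.ι).obj L
  have hFi := H11Ample.isInvertible_pullback U.ι hL
  have hFl := H28Pinch.isFinLocFree_of_isInvertible hFi
  have hFc := H16Derived.KFlat.Stalk.isCoh_of_isFinLocFree hFl
  haveI := hFc.1
  let Φ : (Scheme.Modules.pullback q).obj F ≅ (Scheme.Modules.pullback (f.fiberι y)).obj L :=
    (Scheme.Modules.pullbackComp q U.ι).app L ≪≫ (Scheme.Modules.pullbackCongr hq).app L
  obtain ⟨σ, hσ⟩ := H11Ample.exists_mem_gen_of_isGloballyGenerated (H11Ample.isInvertible_pullback _ hL) hg z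
  have hσv := notMem_van_of_gen (H11Ample.isInvertible_pullback _ hL) σ z hσ
  obtain ⟨a, ha, s, hs⟩ := FibreLift.exists_pullSect_eq F hsq hfrac hFc
    (SheafHom.isFlatOver_of_isFinLocFree f' F hFl) (H10Coh.subsingleton_HH_of_iso Φ.symm 1 h1) (Φ.inv.app ⊤ σ)
  obtain ⟨w, rfl⟩ := ps_surjective U.ι L s
  have htop : U.ι ''ᵁ ⊤ = U := U.ι_image_top
  refine ⟨V, hyV, hrange ⟨z, rfl⟩ |> fun h => by rwa [Scheme.Opens.range_ι] at h,
    L.presheaf.map (homOfLE htop.ge).op w, fun hmem => hσv ?_⟩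
  rw [TopCat.Presheaf.germ_res_apply] at hmem
  have hle : (⊤ : (f.fiber y).Opens) ≤ f.fiberι y ⁻¹ᵁ (U.ι ''ᵁ ⊤) := fun b _ => by
    show f.fiberι y b ∈ U.ι ''ᵁ ⊤
    rw [htop, ← SetLike.mem_coe, ← Scheme.Opens.range_ι]
    exact hrange ⟨b, rfl⟩
  have h2 : Φ.hom.app ⊤ (scal ((f.fiber y) ↘ Spec (CommRingCat.of (Y.residueField y))) ⊤
      (algebraMap Γ(Y, V) (Y.residueField y) a) • Φ.inv.app ⊤ σ) = ps (f.fiberι y) L _ w ⊤ hle := by
    rw [← hs]
    show ((Scheme.Modules.pullbackCongr hq).hom.app L).app ⊤ (((Scheme.Modules.pullbackComp q U.ι).hom.app L).app ⊤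
      (OmegaSh.pullSect q _ ⊤ (ps U.ι L (U.ι ''ᵁ ⊤) w ⊤ _))) = _
    rw [show OmegaSh.pullSect q ((Scheme.Modules.pullback U.ι).obj L) ⊤ (ps U.ι L (U.ι ''ᵁ ⊤) w ⊤ _) =
      ps q _ ⊤ (ps U.ι L (U.ι ''ᵁ ⊤) w ⊤ (U.ι.preimage_image_eq ⊤).ge) ⊤ le_rfl from
      (H10Coh.mres_self _ _ _).symm, ps_comp, ps_congr]
  have h3 : Φ.hom.app ⊤ (Φ.inv.app ⊤ σ) = σ :=
    congr($(congrArg (fun r => Scheme.Modules.Hom.app r ⊤) Φ.inv_hom_id) σ)
  rw [Scheme.Modules.Hom.app_smul, h3] at h2
  have hu : IsUnit ((f.fiber y).presheaf.germ ⊤ z trivial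
      (scal ((f.fiber y) ↘ Spec (CommRingCat.of (Y.residueField y))) ⊤ (algebraMap Γ(Y, V) (Y.residueField y) a))) :=
    ((isUnit_iff_ne_zero.2 ha).map _).map _
  have h4 : ((Scheme.Modules.pullback (f.fiberι y)).obj L).presheaf.germ ⊤ z trivial
      (ps (f.fiberι y) L _ w ⊤ hle) ∈ vanSub _ z := by
    rw [show ps (f.fiberι y) L _ w ⊤ hle =
      ((Scheme.Modules.pullback (f.fiberι y)).obj L).presheaf.map (homOfLE hle).op
        (OmegaSh.pullSect (f.fiberι y) L _ w) from rfl,
      TopCat.Presheaf.germ_res_apply, ← H06Mod.pullStalk_germ]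
    exact pullStalk_mem_van _ _ _ hmem
  rw [← h2, H06Mod.germ_smul] at h4
  exact (Submodule.smul_mem_iff_of_isUnit _ hu).1 h4

/-- Global generation. -/
theorem isGloballyGenerated [CompactSpace X] {L : X.Modules} (hL : PicF.IsInvertible L)
    (h1 : ∀ y : Y, IsClosed ({y} : Set Y) →
      Subsingleton (Coh.HH (f.fiber y) ((Scheme.Modules.pullback (f.fiberι y)).obj L) 1))
    (hfib : ∀ y : Y, IsClosed ({y} : Set Y) → Curv2.IsGloballyGenerated ((Scheme.Modules.pullback (f.fiberι y)).obj L))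
    (hE : Curv2.IsGloballyGenerated ((Scheme.Modules.pushforward f).obj L)) : Curv2.IsGloballyGenerated L := by
  refine H29RR.isGloballyGenerated_of_closedPoints hL fun x hx => ?_
  have hy : IsClosed ({f x} : Set Y) := by simpa using f.isClosedMap _ hx
  obtain ⟨z, hz⟩ : ∃ z, f.fiberι (f x) z = x := by
    have : x ∈ Set.range (f.fiberι (f x)) := by rw [Scheme.Hom.range_fiberι]; rfl
    exact this
  obtain ⟨V, hV, hxV, t, ht⟩ := exists_local_section f hL (f x) z (h1 _ hy) (hfib _ hy)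
  revert hxV t ht
  rw [hz]
  intro hxV t ht
  by_contra hne
  push Not at hne
  let E := (Scheme.Modules.pushforward f).obj L
  let P : Submodule (Y.presheaf.stalk (f x)) (E.presheaf.stalk (f x)) :=
    Submodule.span _ (Set.range fun g : Γ(E, ⊤) => E.presheaf.germ ⊤ (f x) trivial g)
  have htop : P = ⊤ := span_globals E hE (f x)
  -- evaluate at the point
  let ev : E.presheaf.stalk (f x) →+ L.presheaf.stalk x := (L.presheaf.stalkPushforward Ab.{u} f.base x).hom
  have hev : ∀ (W : Y.Opens) (h : f x ∈ W) (m : Γ(E, W)), ev (E.presheaf.germ W (f x) h m) =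
      L.presheaf.germ (f ⁻¹ᵁ W) x h m := fun W h m =>
    congr($(TopCat.Presheaf.stalkPushforward_germ Ab f.base L.presheaf W x h) m)
  have hmem : ∀ v ∈ P, ev v ∈ vanSub L x := by
    intro v hv
    induction hv using Submodule.span_induction with
    | mem v hv =>
      obtain ⟨g, rfl⟩ := hv
      rw [hev]
      by_contra h
      exact hne g (gen_of_notMem_van hL g x h)
    | zero => rw [map_zero]; exact zero_mem _
    | add a b _ _ ha hb => rw [map_add]; exact add_mem ha hb
    | smul c v _ ih =>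
      rw [show ev (c • v) = (f.stalkMap x).hom c • ev v from H16Derived.ProjFormula.pushStalk_smul f L x c v]
      exact Submodule.smul_mem _ _ ih
  refine ht ?_
  have := hmem (E.presheaf.germ V (f x) hV t) (htop ▸ Submodule.mem_top)
  rwa [hev] at this

end Groth.Agent.H10Coh.GGFibre
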