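import Groth.Prelude.Def_CohTop
import Mathlib.CategoryTheory.Abelian.GrothendieckCategory.EnoughInjectives
import Mathlib.CategoryTheory.Abelian.GrothendieckCategory.HasExt
import Mathlib.CategoryTheory.Abelian.GrothendieckAxioms.Sheaf
import Mathlib.Algebra.Category.Grp.AB

/-!
Named proofs for the instances on `CohTop.Ab X`.  Registering them locally with high priority keeps
the proof arguments of the `Abelian` instance atomic; otherwise the kernel spends seconds on every
declaration that mentions `Ext` in this category.
Use: `attribute [local instance 10000] hasSheafifyAb hasWeakSheafifyAb hasExtAb enoughInjAb`.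
-/

universe u

open CategoryTheory TopologicalSpace

namespace Groth.Agent.H10Coh

theorem hasSheafifyAb (X : TopCat.{u}) :
    HasSheafify (Opens.grothendieckTopology X) AddCommGrpCat.{u} := inferInstance

theorem hasWeakSheafifyAb (X : TopCat.{u}) :
    HasWeakSheafify (Opens.grothendieckTopology X) AddCommGrpCat.{u} := inferInstance

attribute [local instance 10000] hasSheafifyAb hasWeakSheafifyAb

theorem hasExtAb (X : TopCat.{u}) : HasExt.{u} (CohTop.Ab X) :=
  haveI : IsGrothendieckAbelian.{u} (CohTop.Ab X) :=
    Sheaf.isGrothendieckAbelian_of_essentiallySmall _ _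
  inferInstance

theorem enoughInjAb (X : TopCat.{u}) : EnoughInjectives (CohTop.Ab X) :=
  haveI : IsGrothendieckAbelian.{u} (CohTop.Ab X) :=
    Sheaf.isGrothendieckAbelian_of_essentiallySmall _ _
  inferInstance

end Groth.Agent.H10Coh
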