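import Groth.Agent.H10Coh.ToSheaf
import Mathlib.AlgebraicGeometry.Modules.Tilde
import Mathlib.Algebra.Category.ModuleCat.Abelian

/-!
Quasi-coherent modules on `Spec R` through the equivalence with `R`-modules.
-/

universe u

open CategoryTheory CategoryTheory.Limits AlgebraicGeometry Opposite

namespace Groth.Agent.H10Coh

variable {R : CommRingCat.{u}}

/-- A quasi-coherent module is tilde of its sections. -/
noncomputable def tildeIso (M : (Spec R).Modules) [M.IsQuasicoherent] :
    (tilde.functor R).obj ((moduleSpecΓFunctor (R := R)).obj M) ≅ M :=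
  @asIso _ _ _ _ M.fromTildeΓ (Scheme.Modules.isIso_fromTildeΓ_of_isQuasicoherent (R := R) M)

theorem isQuasicoherent_of_iso_tilde {M : (Spec R).Modules} {N : ModuleCat R}
    (e : (tilde.functor R).obj N ≅ M) : M.IsQuasicoherent := by
  have h : (tilde N).IsQuasicoherent := inferInstance
  exact (SheafOfModules.isQuasicoherent (Spec R).ringCatSheaf).prop_of_iso e h

theorem isQuasicoherent_cokernel_Spec {M N : (Spec R).Modules} (f : M ⟶ N) [M.IsQuasicoherent]
    [N.IsQuasicoherent] : (cokernel f).IsQuasicoherent := by
  let g := (tilde.functor R).preimage ((tildeIso M).hom ≫ f ≫ (tildeIso N).inv)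
  exact isQuasicoherent_of_iso_tilde (N := cokernel g)
    (PreservesCokernel.iso (tilde.functor R) g ≪≫
      cokernel.mapIso _ _ (tildeIso M) (tildeIso N) (by
        rw [Functor.map_preimage, Category.assoc, Category.assoc, Iso.inv_hom_id, Category.comp_id]))

theorem isQuasicoherent_biproduct_Spec {ι : Type} [Finite ι] (M : ι → (Spec R).Modules)
    [∀ i, (M i).IsQuasicoherent] : (⨁ M).IsQuasicoherent := by
  have : HasFiniteBiproducts (ModuleCat.{u} R) := Abelian.hasFiniteBiproducts
  have := Functor.preservesFiniteBiproductsOfAdditive (tilde.functor R)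
  exact isQuasicoherent_of_iso_tilde (N := ⨁ fun i => (moduleSpecΓFunctor (R := R)).obj (M i))
    ((tilde.functor R).mapBiproduct _ ≪≫ biproduct.mapIso fun i => tildeIso (M i))

/-- An epimorphism of quasi-coherent modules on `Spec R` is surjective on global sections. -/
theorem epi_sections_Spec {M N : (Spec R).Modules} (f : M ⟶ N) [M.IsQuasicoherent]
    [N.IsQuasicoherent] [Epi f] : Function.Surjective (f.app ⊤) := by
  have : Epi ((tilde.functor R).map ((moduleSpecΓFunctor (R := R)).map f)) := by
    have h : (tilde.functor R).map ((moduleSpecΓFunctor (R := R)).map f) =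
        (tildeIso M).hom ≫ f ≫ (tildeIso N).inv := by
      rw [← Category.assoc, Iso.eq_comp_inv]
      exact Scheme.Modules.fromTildeΓNatTrans.naturality f
    rw [h]
    infer_instance
  have : Epi ((moduleSpecΓFunctor (R := R)).map f) := (tilde.functor R).epi_of_epi_map this
  have h := (ModuleCat.epi_iff_surjective _).1 this
  exact h

theorem isQuasicoherent_pushforward_Spec {S : CommRingCat.{u}} (φ : R ⟶ S) (M : (Spec S).Modules)
    [M.IsQuasicoherent] : ((Scheme.Modules.pushforward (Spec.map φ)).obj M).IsQuasicoherent :=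
  (isQuasicoherent_iff_isIso_fromTildeΓ _).2 (isIso_fromTildeΓ_pushforward φ M)

end Groth.Agent.H10Coh
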