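import Groth.Agent.H10Coh.SchemeH
import Groth.Agent.H10Coh.SpecQCoh

/-!
Serre vanishing on affine schemes: induction on the degree, killing a class in `⊕ j_* j^* M` for a
finite cover by basic opens on which it vanishes.
-/

universe u

open CategoryTheory CategoryTheory.Limits Opposite TopologicalSpace Abelian Topology AlgebraicGeometry

namespace Groth.Agent.H10Coh

attribute [local instance 10000] hasSheafifyAb hasWeakSheafifyAb hasExtAb enoughInjAb

variable {R : CommRingCat.{u}}

/-- The basic open `D(g)`, typed as an open of `Spec R`. -/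
abbrev D (g : R) : (Spec R).Opens := PrimeSpectrum.basicOpen g

theorem D_mul (f g : R) : D (f * g) = D f ⊓ D g := PrimeSpectrum.basicOpen_mul f g

/-- `R ⟶ R_g`. -/
abbrev awayMap (g : R) : R ⟶ CommRingCat.of (Localization.Away g) :=
  CommRingCat.ofHom (algebraMap R (Localization.Away g))

theorem opensRange_awayMap (g : R) :
    (Spec.map (awayMap g)).opensRange = D g :=
  TopologicalSpace.Opens.ext <| PrimeSpectrum.localization_away_comap_range _ _

theorem image_preimage_awayMap (g : R) (W : (Spec R).Opens) :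
    Spec.map (awayMap g) ''ᵁ (Spec.map (awayMap g) ⁻¹ᵁ W) =
      D g ⊓ W := by
  rw [Scheme.Hom.image_preimage_eq_opensRange_inf, opensRange_awayMap]

/-- `M ↦ j_*(M|_{D(g)})`. -/
noncomputable abbrev pushAway (g : R) (M : (Spec R).Modules) : (Spec R).Modules :=
  (Scheme.Modules.pushforward (Spec.map (awayMap g))).obj (M.restrict (Spec.map (awayMap g)))

theorem isQuasicoherent_pushAway (g : R) (M : (Spec R).Modules) [M.IsQuasicoherent] :
    (pushAway g M).IsQuasicoherent :=
  have : (M.restrict (Spec.map (awayMap g))).IsQuasicoherent :=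
    Scheme.Modules.isQuasicoherent_restrictFunctor (Spec.map (awayMap g)) M
  isQuasicoherent_pushforward_Spec (awayMap g) _

/-- The unit `M ⟶ j_*(M|_{D(g)})`. -/
noncomputable abbrev toPushAway (g : R) (M : (Spec R).Modules) : M ⟶ pushAway g M :=
  (Scheme.Modules.restrictAdjunction (Spec.map (awayMap g))).unit.app M

theorem mono_toPushAways {ι : Type} [Finite ι] (g : ι → R) (M : (Spec R).Modules)
    (hg : ⨆ i, D (g i) = ⊤) :
    Mono (biproduct.lift fun i => toPushAway (g i) M) := by
  apply (shF (Spec R)).mono_of_mono_map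
  have : ∀ W, Mono (((shF (Spec R)).map (biproduct.lift fun i => toPushAway (g i) M)).hom.app W) := by
    rintro ⟨W⟩
    rw [AddCommGrpCat.mono_iff_injective]
    rw [injective_iff_map_eq_zero]
    intro s hs
    refine TopCat.Sheaf.eq_of_locally_eq' (sh M)
      (fun i => Spec.map (awayMap (g i)) ''ᵁ (Spec.map (awayMap (g i)) ⁻¹ᵁ W)) W
      (fun i => homOfLE (inter_le (Spec.map (awayMap (g i))).isOpenEmbedding W)) ?_ s 0 fun i => ?_
    · intro x hx
      obtain ⟨i, hi⟩ := Opens.mem_iSup.1 (hg.ge (Opens.mem_top x))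
      exact Opens.mem_iSup.2 ⟨i, (image_preimage_awayMap (g i) W).ge ⟨hi, hx⟩⟩
    · rw [map_zero]
      have h1 := congrArg (fun t => ((shF (Spec R)).map (biproduct.π (fun i => pushAway (g i) M) i)).hom.app (op W) t) hs
      simp only [map_zero] at h1
      rw [← ConcreteCategory.comp_apply, ← NatTrans.comp_app, ← ObjectProperty.FullSubcategory.comp_hom,
        ← Functor.map_comp, biproduct.lift_π] at h1
      exact h1
  have : Mono ((shF (Spec R)).map (biproduct.lift fun i => toPushAway (g i) M)).hom :=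
    (NatTrans.mono_iff_mono_app _).2 this
  exact Sheaf.Hom.mono_of_presheaf_mono _ _ _

theorem subsingleton_basicOpen {n : ℕ}
    (ih : ∀ (R : CommRingCat.{u}) (M : (Spec R).Modules), M.IsQuasicoherent →
      Subsingleton (HnM M n ⊤))
    (M : (Spec R).Modules) [M.IsQuasicoherent] (g : R) :
    Subsingleton (HnM M n (D g)) :=
  subsingleton_HnM_image (Spec.map (awayMap g)) M n ⊤ _
    (by rw [Scheme.Hom.image_top_eq_opensRange, opensRange_awayMap])
    (ih _ _ (Scheme.Modules.isQuasicoherent_restrictFunctor (Spec.map (awayMap g)) M))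

theorem subsingleton_HnM_Spec (n : ℕ) : ∀ (R : CommRingCat.{u}) (M : (Spec R).Modules),
    M.IsQuasicoherent → Subsingleton (HnM M (n + 1) ⊤) := by
  induction n using Nat.strong_induction_on with
  | _ n ih =>
  intro R M hM
  refine subsingleton_of_forall_eq 0 fun x => ?_
  -- a finite cover by basic opens on which `x` vanishes
  have hloc : ∀ p : Spec R, ∃ g : R, p ∈ D g ∧
      resH (sh M) (n + 1) (le_top : D g ≤ ⊤) x = 0 := by
    intro p
    obtain ⟨V, hV, hpV, hx⟩ := exists_resH_eq_zero x (Opens.mem_top p)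
    obtain ⟨_, ⟨_, ⟨g, rfl⟩, rfl⟩, hpg, hgV⟩ :=
      PrimeSpectrum.isBasis_basic_opens.exists_subset_of_mem_open hpV V.2
    refine ⟨g, hpg, ?_⟩
    rw [← resH_resH (sh M) (n + 1) hV (show D g ≤ V from hgV),
      hx, map_zero]
  choose g hg hx using hloc
  obtain ⟨t, ht⟩ := isCompact_univ.elim_finite_subcover
    (fun p => ((D (g p) : (Spec R).Opens) : Set (Spec R)))
    (fun p => (D (g p)).2) fun p _ => Set.mem_iUnion.2 ⟨p, hg p⟩
  let k := t.card
  let e : Fin k → Spec R := fun i => (t.equivFin.symm i).1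
  have hcov : ⨆ i, (D (g (e i))) = ⊤ := by
    refine eq_top_iff.2 fun p _ => ?_
    obtain ⟨q, hq, hpq⟩ := Set.mem_iUnion₂.1 (ht (Set.mem_univ p))
    refine Opens.mem_iSup.2 ⟨t.equivFin ⟨q, hq⟩, ?_⟩
    simpa [e] using hpq
  have hη := mono_toPushAways (fun i => g (e i)) M hcov
  let η := biproduct.lift fun i : Fin k => toPushAway (g (e i)) M
  -- `x` dies in each summand
  have hkill : x.comp (Ext.mk₀ ((shF (Spec R)).map η)) (add_zero (n + 1)) = 0 := by
    have hsum : η = ∑ i, toPushAway (g (e i)) M ≫
        biproduct.ι (fun i : Fin k => pushAway (g (e i)) M) i := biproduct.lift_eq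
    rw [hsum, Functor.map_sum, Ext.mk₀_sum, Ext.comp_sum]
    refine Finset.sum_eq_zero fun i _ => ?_
    rw [Functor.map_comp, ← Ext.mk₀_comp_mk₀, ← Ext.comp_assoc_of_second_deg_zero]
    have h0 : x.comp (Ext.mk₀ ((shF (Spec R)).map (toPushAway (g (e i)) M))) (add_zero (n + 1)) = 0 := by
      refine comp_unitT_eq_zero (Spec.map (awayMap (g (e i)))).isOpenEmbedding
        (Set.range fun r => D r)
        PrimeSpectrum.isBasis_basic_opens n ?_ ⊤ x ?_
      · rintro _ ⟨r, rfl⟩ q hq
        have := subsingleton_basicOpen (n := q + 1) (ih q (by omega)) M (g (e i) * r)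
        rw [D_mul, ← image_preimage_awayMap] at this
        exact this
      · have hle : inter (Spec.map (awayMap (g (e i)))).isOpenEmbedding (⊤ : (Spec R).Opens) ≤
            (D (g (e i))) :=
          (image_preimage_awayMap (g (e i)) ⊤).le.trans inf_le_left
        rw [← resH_resH (sh M) (n + 1) le_top hle, hx, map_zero]
    rw [h0, Ext.zero_comp]
  -- the cokernel
  let S := ShortComplex.mk η (cokernel.π η) (cokernel.condition η)
  have hS : S.ShortExact :=
    { exact := ShortComplex.exact_of_g_is_cokernel _ (cokernelIsCokernel _)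
      mono_f := hη
      epi_g := by dsimp [S]; infer_instance }
  have := fun i => isQuasicoherent_pushAway (g (e i)) M
  have hN : (⨁ fun i => pushAway (g (e i)) M).IsQuasicoherent := isQuasicoherent_biproduct_Spec _
  have hC : (cokernel η).IsQuasicoherent := isQuasicoherent_cokernel_Spec η
  obtain ⟨c, rfl⟩ := Ext.covariant_sequence_exact₁ _ (shortExact_sh hS) x hkill rfl
  cases n with
  | zero =>
    obtain ⟨φ, rfl⟩ := (Ext.mk₀_bijective _ _).2 c
    have hsurj : Function.Surjective (((S.map (shF (Spec R))).g).hom.app (op (⊤ : (Spec R).Opens))) :=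
      epi_sections_Spec (cokernel.π η)
    obtain ⟨ψ, rfl⟩ := surjective_hom_of_surjective_sections _ (⊤ : (Spec R).Opens) hsurj φ
    rw [← Ext.mk₀_comp_mk₀, Ext.comp_assoc_of_second_deg_zero, (shortExact_sh hS).comp_extClass,
      Ext.comp_zero]
    rfl
  | succ m =>
    have h0 : c = 0 := (ih m (by omega) R (cokernel η) hC).elim _ _
    rw [h0, Ext.zero_comp]
    rfl

end Groth.Agent.H10Coh
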