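import Groth.Agent.H10Coh.AlgebraizeSupp
import Groth.Agent.S8267
import Groth.Agent.S8270
import Groth.Agent.H11Aff.RelSpecUniv
import Groth.Agent.H11Sym.VBundle
import Groth.Agent.LeadAff.Chevalley

/-!
# Algebraization of formal finite schemes with proper special fibre
-/

set_option autoImplicit false
set_option linter.style.haveILetI false
set_option linter.unusedSectionVars false
set_option backward.isDefEq.respectTransparency.types false

noncomputable section

universe u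

open CategoryTheory CategoryTheory.Limits AlgebraicGeometry Opposite TopologicalSpace CohB1
open Groth.Agent.H11Tilde Groth.Agent.H11Ample

namespace Groth.Agent.H10Coh.AlgFinite

open Groth.Agent.LeadUV Groth.Agent.LeadGE

/-- The algebra map attached to a morphism over the base. -/
def dimap {S U V : Scheme.{u}} (f : U ⟶ S) (g : V ⟶ S) [IsAffineHom f] [IsAffineHom g] (t : U ⟶ V)
    (w : t ≫ g = f) : RelSpec.QCAlg.directImage g ⟶ RelSpec.QCAlg.directImage f :=
  ⟨AffAlg.algHom g f t w, AffAlg.algHom_comm g f t w⟩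

variable {A : Type u} [CommRing A] [IsNoetherianRing A] {J : Ideal A}
  {Ys : ℕ → Scheme.{u}} {t : ∀ n, Ys n ⟶ Ys (n + 1)}
  {p : (k : ℕ) → (Ys k ⟶ Spec (CommRingCat.of (A ⧸ J ^ (k + 1))))}
  {X : Scheme.{u}} [X.Over (Spec (CommRingCat.of A))]
  (h : ∀ n, Ys n ⟶ X) [∀ n, IsFinite (h n)]
  (hcart : ∀ k, IsPullback (t k) (p k) (p (k + 1)) (CohB1.specQuotTrans J k))
  (hi : ∀ n, t n ≫ h (n + 1) = h n)
  (hb : ∀ n, h n ≫ (X ↘ Spec (CommRingCat.of A)) = p n ≫ CohB1.specQuot J n)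

/-- The transition maps of the direct images. -/
def τ (n : ℕ) :
    (RelSpec.QCAlg.directImage (h (n + 1))).toModule ⟶ (RelSpec.QCAlg.directImage (h n)).toModule :=
  RelSpec.QCAlg.Hom.toModuleMap (dimap (h n) (h (n + 1)) (t n) (hi n))

/-- The system of the direct images. -/
def sys : ℕᵒᵖ ⥤ X.Modules :=
  Functor.ofOpSequence (X := fun n => (RelSpec.QCAlg.directImage (h n)).toModule) (τ h hi)

theorem sys_map (n : ℕ) : tr (sys h hi) n = τ h hi n :=
  Functor.ofOpSequence_map_homOfLE_succ _ n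

theorem τ_app (n : ℕ) (V : X.Opens) :
    ∃ hle : h n ⁻¹ᵁ V ≤ t n ⁻¹ᵁ (h (n + 1) ⁻¹ᵁ V), ∀ x : Γ(Ys (n + 1), h (n + 1) ⁻¹ᵁ V),
      (τ h hi n).app V x = (t n).appLE _ _ hle x := by
  refine ⟨H11Aff.preimage_le (h (n + 1)) (h n) (t n) (hi n) V, fun x => ?_⟩
  show (AffAlg.algHom (h (n + 1)) (h n) (t n) (hi n)).app (op V) x = _
  rw [H11Aff.algHom_app_eq_appLE (h (n + 1)) (h n) (t n) (hi n) V]

include hb in
theorem sc_eq (n : ℕ) (W : X.Opens) (a : A) :
    (h n).app W (H24Formal.scalA A W a) = LeadUV.sc J p n (h n ⁻¹ᵁ W) a := by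
  have h0 : (h n).appTop (Coh.toGlobal (X ↘ Spec (CommRingCat.of A)) a) = LeadUV.gl J p n a := by
    show (h n).appTop ((X ↘ Spec (CommRingCat.of A)).appTop _) = (p n ≫ CohB1.specQuot J n).appTop _
    rw [← hb n, Scheme.Hom.comp_appTop (h n)]
    rfl
  show (h n).app W (X.presheaf.map _ (Coh.toGlobal (X ↘ Spec (CommRingCat.of A)) a)) = _
  rw [← ConcreteCategory.comp_apply, Scheme.Hom.naturality]
  exact congrArg _ h0

include hb in
theorem killedBy_push (n : ℕ) :
    Formal.KilledBy (J ^ (n + 1)) (RelSpec.QCAlg.directImage (h n)).toModule := fun a ha => by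
  refine Scheme.Modules.hom_ext _ _ fun W => ConcreteCategory.hom_ext _ _ fun s => ?_
  show (h n).app W (H24Formal.scalA A W a) * (show Γ(Ys n, h n ⁻¹ᵁ W) from s) = 0
  rw [app_scalA_eq_zero (h n) (p n) (hb n) W ha, zero_mul]

theorem isCoh_push (n : ℕ) [IsLocallyNoetherian X] :
    Coh.IsCoh (RelSpec.QCAlg.directImage (h n)).toModule := by
  haveI : IsLocallyNoetherian (Ys n) := LocallyOfFiniteType.isLocallyNoetherian (h n)
  haveI : (Coh.structureModule (Ys n)).IsQuasicoherent := H10Coh.isQuasicoherent_unit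
  exact H10Coh.isCoh_push_of_isFinite (h n) _ (LeadAff.isCoh_structureModule _)

include hcart hb in
theorem isCohFormal_sys [IsLocallyNoetherian X] : Formal.IsCohFormal J (sys h hi) := by
  refine ⟨fun n => isCoh_push h n, fun n => killedBy_push h hb n, fun n => ?_⟩
  change ∃ H : Formal.smulFamily _ _ ≫ tr (sys h hi) n = 0, IsIso (cokernel.desc _ (tr (sys h hi) n) H)
  rw [sys_map]
  haveI := LeadUV.isClosedImmersion_i J p t hcart n
  let G := (RelSpec.QCAlg.directImage (h (n + 1))).toModule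
  have hz : Formal.smulFamily (J ^ (n + 1)) G ≫ τ h hi n = 0 :=
    H24Formal.smulFamily_comp_eq_zero _ (killedBy_push h hb n)
  refine ⟨hz, ?_⟩
  have hpre : ∀ V : X.Opens, h n ⁻¹ᵁ V = t n ⁻¹ᵁ (h (n + 1) ⁻¹ᵁ V) := fun V => by
    rw [← Scheme.Hom.comp_preimage, hi n]
  haveI : Epi (τ h hi n) := by
    refine H11Tilde.epi_of_locally_surjective _ fun W s x hx => ?_
    obtain ⟨V, hV, hxV, hle⟩ := exists_isAffineOpen_mem_and_subset (U := W) hx
    refine ⟨V, hle, hxV, ?_⟩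
    obtain ⟨hl, hτ⟩ := τ_app h hi n V
    obtain ⟨z, hz⟩ := (t n).app_surjective _ (hV.preimage (h (n + 1)))
      ((Ys n).presheaf.map (eqToHom (hpre V).symm).op
        (((RelSpec.QCAlg.directImage (h n)).toModule).presheaf.map (homOfLE hle).op s))
    refine ⟨z, (hτ z).trans ?_⟩
    rw [Scheme.Hom.appLE, CommRingCat.comp_apply, hz, ← CommRingCat.comp_apply, ← Functor.map_comp,
      Subsingleton.elim (_ ≫ _) (𝟙 (op (h n ⁻¹ᵁ V))), CategoryTheory.Functor.map_id]
    rfl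
  have hexact : (ShortComplex.mk _ _ hz).Exact := by
    refine H11Tilde.exact_of_locally _ fun W s hs x hx => ?_
    obtain ⟨V, hV, hxV, hle⟩ := exists_isAffineOpen_mem_and_subset (U := W) hx
    have hle' : V ≤ W := hle
    refine ⟨V, hle', hxV, ?_⟩
    let s' : Γ(G, V) := G.presheaf.map (homOfLE hle').op s
    obtain ⟨hl, hτ⟩ := τ_app h hi n V
    have hs' : (t n).app (h (n + 1) ⁻¹ᵁ V) (show Γ(Ys (n + 1), h (n + 1) ⁻¹ᵁ V) from s') = 0 := by
      have h1 : (t n).appLE _ _ hl (show Γ(Ys (n + 1), h (n + 1) ⁻¹ᵁ V) from s') = 0 :=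
        (hτ s').symm.trans ((H11Tilde.app_map_apply (τ h hi n) hle' s).trans ((congrArg _ hs).trans (map_zero _)))
      rw [Scheme.Hom.appLE, CommRingCat.comp_apply] at h1
      haveI : IsIso (homOfLE hl) := ⟨eqToHom (hpre V).symm, Subsingleton.elim _ _, Subsingleton.elim _ _⟩
      exact (ConcreteCategory.bijective_of_isIso ((Ys n).presheaf.map (homOfLE hl).op)).1
        (h1.trans (map_zero _).symm)
    have hmem : (show Γ(Ys (n + 1), h (n + 1) ⁻¹ᵁ V) from s') ∈
        (J ^ (n + 1)).map (LeadUV.sc J p (n + 1) (h (n + 1) ⁻¹ᵁ V)) := by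
      rw [← LeadUV.ker_i_ideal J p t hcart n ⟨_, hV.preimage (h (n + 1))⟩, Scheme.Hom.ker_apply]
      exact hs'
    let P : Γ(G, V) → Prop := fun q => ∃ p, (Formal.smulFamily (J ^ (n + 1)) G).app V p = q
    have Padd : ∀ q q', P q → P q' → P (q + q') := by
      rintro _ _ ⟨p, rfl⟩ ⟨p', rfl⟩; exact ⟨p + p', map_add _ p p'⟩
    have hP : ∀ r₀ ∈ (J ^ (n + 1)).map (LeadUV.sc J p (n + 1) (h (n + 1) ⁻¹ᵁ V)),
        ∀ y : Γ(Ys (n + 1), h (n + 1) ⁻¹ᵁ V), P (show Γ(G, V) from (r₀ * y : Γ(Ys (n + 1), h (n + 1) ⁻¹ᵁ V))) := by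
      intro r₀ hr
      induction hr using Submodule.span_induction with
      | mem r hr =>
        obtain ⟨b, hb', rfl⟩ := hr
        intro y
        refine ⟨(Sigma.ι (fun _ : (J ^ (n + 1) : Ideal A) => G) ⟨b, hb'⟩).app V y, ?_⟩
        refine (congr($(congrArg (fun k => Scheme.Modules.Hom.app k V)
            (Sigma.ι_desc (fun a : (J ^ (n + 1) : Ideal A) => Formal.smulMod A G (a : A)) ⟨b, hb'⟩)) y)).trans ?_
        show (h (n + 1)).app V (H24Formal.scalA A V b) * y = _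
        rw [sc_eq h hb]
      | zero => intro y; exact ⟨0, by rw [zero_mul]; exact map_zero _⟩
      | add r r' _ _ h h' => intro y; rw [add_mul]; exact Padd _ _ (h y) (h' y)
      | smul c r _ h' => intro y; rw [smul_eq_mul, mul_comm c r, mul_assoc]; exact h' (c * y)
    obtain ⟨q, hq⟩ := hP _ hmem 1
    exact ⟨q, hq.trans (mul_one (M := Γ(Ys (n + 1), h (n + 1) ⁻¹ᵁ V)) _)⟩
  have h1 := (ShortComplex.exact_iff_mono_cokernel_desc (ShortComplex.mk _ _ hz)).mp hexact
  have h2 : Epi (cokernel.desc _ _ hz) := epi_of_epi_fac (cokernel.π_desc _ _ hz)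
  exact @isIso_of_mono_of_epi _ _ _ _ _ (cokernel.desc _ _ hz) h1 h2

omit [∀ n, IsFinite (h n)] in
include hcart hi hb in
/-- A formal finite scheme over a separated scheme of finite type, proper at the bottom level, algebraizes. -/
theorem exists_finite [IsAdicComplete J A] [IsSeparated (X ↘ Spec (CommRingCat.of A))]
    [LocallyOfFiniteType (X ↘ Spec (CommRingCat.of A))] [QuasiCompact (X ↘ Spec (CommRingCat.of A))]
    (hfin : ∀ n, IsFinite (h n)) (hp : IsProper (p 0)) :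
    ∃ (W : Scheme.{u}) (c : W ⟶ X) (e : ∀ k, Ys k ⟶ W), IsFinite c ∧
      IsProper (c ≫ (X ↘ Spec (CommRingCat.of A))) ∧ (∀ k, e k ≫ c = h k) ∧ (∀ k, e k = t k ≫ e (k + 1)) ∧
      ∀ k, IsPullback (e k) (p k) (c ≫ (X ↘ Spec (CommRingCat.of A))) (CohB1.specQuot J k) := by
  haveI := hfin
  haveI : IsLocallyNoetherian X := LocallyOfFiniteType.isLocallyNoetherian (X ↘ Spec (CommRingCat.of A))
  have hG := isCohFormal_sys h hcart hi hb
  have hGs : ClSub.IsProperOver (X ↘ Spec (CommRingCat.of A)) (CohB1.support ((sys h hi).obj (op 0))) := by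
    haveI : IsClosedImmersion (CohB1.specQuot J 0) :=
      IsClosedImmersion.spec_of_surjective _ Ideal.Quotient.mk_surjective
    haveI hp0 : IsProper (h 0 ≫ (X ↘ Spec (CommRingCat.of A))) := by rw [hb 0]; infer_instance
    haveI : LocallyOfFiniteType (h 0 ≫ (X ↘ Spec (CommRingCat.of A))) := inferInstance
    have hu : ClSub.IsProperOver (h 0 ≫ (X ↘ Spec (CommRingCat.of A))) (Set.univ : Set (Ys 0)) :=
      (LeadProper.isProperOver_iff _ (𝟙 (Ys 0)) (by simp)).2 (by simpa using hp0)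
    have himg := LeadProper.isProperOver_image (X ↘ Spec (CommRingCat.of A)) (h 0) rfl hu
      fun T i hi _ => by haveI := hi; infer_instance
    refine LeadProper.isProperOver_mono himg (LeadProper.isClosed_support _ (hG.1 0).1 (hG.1 0).2) ?_
    intro x hx
    by_contra hc
    rw [Set.image_univ] at hc
    obtain ⟨V, hV, hxV, hle⟩ := exists_isAffineOpen_mem_and_subset
      (U := (⟨(Set.range (h 0))ᶜ, (h 0).isClosedMap.isClosed_range.isOpen_compl⟩ : X.Opens)) (x := x) hc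
    refine LeadDev.notMem_support_of_smul hV hxV _ (hG.1 0).1 (fun s => ⟨1, LeadDev.unitAt_one hxV, ?_⟩) hx
    have hbot : h 0 ⁻¹ᵁ V = ⊥ := by
      refine eq_bot_iff.2 fun y hy => ?_
      exact hle (show h 0 y ∈ (V : Set X) from hy) ⟨y, rfl⟩
    haveI : Subsingleton Γ(Ys 0, h 0 ⁻¹ᵁ V) := by rw [hbot]; infer_instance
    exact Subsingleton.elim (α := Γ(Ys 0, h 0 ⁻¹ᵁ V)) _ _
  obtain ⟨M, hM, -, ⟨iso⟩⟩ := H24GE.exists_algebraization_properSupport X J (sys h hi) hG hGs
  let u : ∀ n, M ⟶ (RelSpec.QCAlg.directImage (h n)).toModule := fun n =>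
    Formal.modPowπ J (n + 1) M ≫ iso.hom.app (op n)
  have huτ : ∀ n, u (n + 1) ≫ τ h hi n = u n := fun n => by
    rw [← sys_map h hi n]
    refine (Category.assoc _ _ _).trans ?_
    refine (congrArg (Formal.modPowπ J (n + 1 + 1) M ≫ ·) (tr_natural iso.hom n).symm).trans ?_
    exact (Category.assoc _ _ _).symm.trans (congrArg (· ≫ iso.hom.app (op n)) (π_tr M n))
  have hue : ∀ n, Epi (u n) := fun n =>
    @epi_comp _ _ _ _ _ (Formal.modPowπ J (n + 1) M) (inferInstanceAs (Epi (cokernel.π _))) (iso.hom.app (op n))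
      (@IsIso.epi_of_iso _ _ _ _ _ ((iso.app (op n)).isIso_hom))
  -- the vector bundle
  obtain ⟨Al, j, hAl⟩ := S8270.result M hM.1
  haveI : LocallyOfFiniteType Al.π := S8267.result M hM Al j hAl
  choose ψ hψ using fun n => (hAl (RelSpec.QCAlg.directImage (h n)) (u n)).exists
  have hψτ : ∀ n, ψ (n + 1) ≫ dimap (h n) (h (n + 1)) (t n) (hi n) = ψ n := fun n => by
    refine (hAl _ (u n)).unique ?_ (hψ n)
    have e : ∀ {A B C : RelSpec.QCAlg X} (a : A ⟶ B) (b : B ⟶ C),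
        RelSpec.QCAlg.Hom.toModuleMap (a ≫ b) =
          RelSpec.QCAlg.Hom.toModuleMap a ≫ RelSpec.QCAlg.Hom.toModuleMap b := fun a b => rfl
    rw [e, ← Category.assoc, hψ (n + 1)]
    exact huτ n
  have hω : ∀ n, Al.π.c ≫ Al.gammaMap ≫ (ψ n).hom = (h n).c := fun n => by
    rw [← Category.assoc, Al.π_c_gammaMap]
    exact (ψ n).comm
  choose ev hev using fun n => H11Aff.algOf_surjective Al.π (h n) ⟨Al.gammaMap ≫ (ψ n).hom, hω n⟩
  let e : ∀ n, Ys n ⟶ Al.spec := fun n => (ev n).1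
  have he : ∀ n, e n ≫ Al.π = h n := fun n => (ev n).2
  have heω : ∀ n, AffAlg.algHom Al.π (h n) (e n) (he n) = Al.gammaMap ≫ (ψ n).hom := fun n =>
    congrArg Subtype.val (hev n)
  have het : ∀ n, t n ≫ e (n + 1) = e n := fun n => by
    have w : (t n ≫ e (n + 1)) ≫ Al.π = h n := by rw [Category.assoc, he, hi]
    have := H11Aff.algOf_injective Al.π (h n) (a₁ := ⟨t n ≫ e (n + 1), w⟩) (a₂ := ⟨e n, he n⟩) (Subtype.ext ?_)
    · exact congrArg Subtype.val this
    show AffAlg.algHom Al.π (h n) (t n ≫ e (n + 1)) w = AffAlg.algHom Al.π (h n) (e n) (he n)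
    rw [heω n, ← hψτ n, RelSpec.QCAlg.comp_hom, ← Category.assoc, ← heω (n + 1)]
    refine NatTrans.ext (funext fun ⟨V⟩ => ?_)
    rw [NatTrans.comp_app]
    show _ = (AffAlg.algHom Al.π (h (n + 1)) (e (n + 1)) (he (n + 1))).app (op V) ≫
      (AffAlg.algHom (h (n + 1)) (h n) (t n) (hi n)).app (op V)
    rw [H11Aff.algHom_app_eq_appLE Al.π (h n) _ w V (H11Aff.preimage_le _ _ _ w V),
      H11Aff.algHom_app_eq_appLE Al.π (h (n + 1)) _ (he (n + 1)) V (H11Aff.preimage_le _ _ _ (he (n + 1)) V),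
      H11Aff.algHom_app_eq_appLE (h (n + 1)) (h n) _ (hi n) V (H11Aff.preimage_le _ _ _ (hi n) V)]
    exact (Scheme.Hom.appLE_comp_appLE _ _ _ _ _ _ _).symm
  have hecl : ∀ n, IsClosedImmersion (e n) := fun n => by
    refine IsZariskiLocalAtTarget.of_iSup_eq_top (fun U : X.affineOpens => Al.π ⁻¹ᵁ U.1) (H11Sym.iSup_preimage_π Al)
      fun U => ?_
    have hpre : h n ⁻¹ᵁ U.1 = e n ⁻¹ᵁ (Al.π ⁻¹ᵁ U.1) := by rw [← Scheme.Hom.comp_preimage, he n]
    haveI : IsAffine (Al.π ⁻¹ᵁ U.1 : Scheme.{u}) := U.2.preimage Al.π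
    haveI : IsAffine (e n ⁻¹ᵁ (Al.π ⁻¹ᵁ U.1) : Scheme.{u}) := hpre ▸ U.2.preimage (h n)
    refine IsClosedImmersion.of_surjective_of_isAffine _ ?_
    have hl := H11Aff.preimage_le Al.π (h n) (e n) (he n) U.1
    have hs : Function.Surjective ((e n).appLE (Al.π ⁻¹ᵁ U.1) (h n ⁻¹ᵁ U.1) hl) := by
      rw [← H11Aff.algHom_app_eq_appLE Al.π (h n) (e n) (he n) U.1 hl, heω n, NatTrans.comp_app]
      haveI := hM.1
      haveI := (hG.1 n).1
      haveI : ((RelSpec.QCAlg.directImage (h n)).toModule).IsQuasicoherent := (hG.1 n).1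
      haveI := hue n
      haveI := H11Aff.RelSpecUniv.gammaMap_isIso Al
      intro y
      obtain ⟨m, hm⟩ := H10Coh.surjective_app_of_epi (u n) U.2 y
      obtain ⟨z, hz⟩ := (ConcreteCategory.bijective_of_isIso (Al.gammaMap.app (op U.1))).2 ((j.app U.1) m)
      refine ⟨z, (congrArg ((ψ n).hom.app (op U.1)) hz).trans ?_⟩
      exact (congr($(congr(Scheme.Modules.Hom.app $(hψ n) U.1)) m)).trans hm
    have hsV : ∀ V : Al.spec.Opens, V = Al.π ⁻¹ᵁ U.1 → Function.Surjective ((e n).app V) := by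
      rintro _ rfl y
      obtain ⟨z, hz⟩ := hs ((Ys n).presheaf.map (eqToHom hpre).op y)
      refine ⟨z, ?_⟩
      rw [Scheme.Hom.appLE, CommRingCat.comp_apply] at hz
      haveI : IsIso (homOfLE hl) := ⟨eqToHom hpre.symm, Subsingleton.elim _ _, Subsingleton.elim _ _⟩
      refine (ConcreteCategory.bijective_of_isIso ((Ys n).presheaf.map (homOfLE hl).op)).1 (hz.trans ?_)
      exact congrArg (fun φ : op (e n ⁻¹ᵁ (Al.π ⁻¹ᵁ U.1)) ⟶ op (h n ⁻¹ᵁ U.1) => (Ys n).presheaf.map φ y)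
        (Subsingleton.elim _ _)
    rw [morphismRestrict_appTop]
    exact (ConcreteCategory.bijective_of_isIso ((Ys n).presheaf.map (eqToHom _).op)).2.comp
      (hsV _ (Scheme.Opens.ι_image_top _))
  letI : Al.spec.Over (Spec (CommRingCat.of A)) := ⟨Al.π ≫ (X ↘ Spec (CommRingCat.of A))⟩
  have hπA : (Al.spec ↘ Spec (CommRingCat.of A)) = Al.π ≫ (X ↘ Spec (CommRingCat.of A)) := rfl
  haveI : IsSeparated (Al.spec ↘ Spec (CommRingCat.of A)) := by rw [hπA]; infer_instance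
  haveI : LocallyOfFiniteType (Al.spec ↘ Spec (CommRingCat.of A)) := by rw [hπA]; infer_instance
  haveI : QuasiCompact (Al.spec ↘ Spec (CommRingCat.of A)) := by rw [hπA]; infer_instance
  obtain ⟨W, c, e', hc, hcp, hec, hei, hpb⟩ := AlgSupp.exists_closedSub hcart hp e hecl het
    (fun k => by rw [hπA, ← Category.assoc, he k, hb k])
  haveI := hc
  rw [hπA, ← Category.assoc] at hcp
  haveI := hcp
  haveI : IsProper (c ≫ Al.π) := IsProper.of_comp _ (X ↘ Spec (CommRingCat.of A))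
  refine ⟨W, c ≫ Al.π, e', IsFinite.iff_isProper_and_isAffineHom.2 ⟨‹_›, inferInstance⟩, hcp,
    fun k => by rw [← Category.assoc, hec, he], hei, fun k => ?_⟩
  rw [Category.assoc]
  exact hpb k

end Groth.Agent.H10Coh.AlgFinite
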