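import Groth.Agent.LeadGE.Algebraize
import Groth.Agent.LeadGE.Line
import Groth.Agent.H24GE.ProperSupp
import Groth.Agent.H24FSch.NearIso

/-!
# Algebraization of formal closed subschemes with proper special fibre
-/

set_option autoImplicit false
set_option linter.style.haveILetI false
set_option linter.unusedSectionVars false

noncomputable section

universe u

open CategoryTheory CategoryTheory.Limits AlgebraicGeometry Opposite TopologicalSpace CohB1
open Groth.Agent.H11Tilde Groth.Agent.H11Ample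

namespace Groth.Agent.H10Coh.AlgSupp

open Groth.Agent.LeadUV Groth.Agent.LeadGE

variable {A : Type u} [CommRing A] [IsNoetherianRing A] {J : Ideal A}

theorem support_subset_of_epi {X : Scheme.{u}} {M Q : X.Modules} (g : M ⟶ Q) [Epi g]
    (hM : Coh.IsCoh M) (hQ : Coh.IsCoh Q) : CohB1.support Q ⊆ CohB1.support M := fun x hx => by
  by_contra hc
  obtain ⟨U, hU, hxU, -⟩ := exists_isAffineOpen_mem_and_subset (U := (⊤ : X.Opens)) (x := x) trivial
  haveI := hM.1
  haveI := hQ.1
  refine LeadDev.notMem_support_of_smul hU hxU Q hQ.1 (fun s => ?_) hx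
  obtain ⟨t, rfl⟩ := H10Coh.surjective_app_of_epi g hU s
  obtain ⟨a, ha, ha0⟩ := LeadDev.exists_unitAt_smul_eq_zero hU hxU M hM.1 hc t
  exact ⟨a, ha, by rw [← g.app_smul, ha0, map_zero]⟩

variable [IsAdicComplete J A]

/-- A coherent module with proper support and zero completion is zero. -/
theorem isZero_of_modPow_eq_zero {X : Scheme.{u}} [X.Over (Spec (CommRingCat.of A))]
    [LocallyOfFiniteType (X ↘ Spec (CommRingCat.of A))] [QuasiCompact (X ↘ Spec (CommRingCat.of A))]
    {Q : X.Modules} (hQ : Coh.IsCoh Q)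
    (hs : ClSub.IsProperOver (X ↘ Spec (CommRingCat.of A)) (CohB1.support Q))
    (h : ∀ n, Formal.modPowπ J (n + 1) Q = 0) : IsZero Q := by
  obtain ⟨φ, -, hu⟩ := H24Formal.HomC.existsUnique_hom J hQ hQ
    (by rwa [Set.inter_self]) (0 : Formal.completion J Q ⟶ _)
  refine (IsZero.iff_id_eq_zero Q).2 ((hu (𝟙 Q) fun n => ?_).trans (hu 0 fun n => ?_).symm)
  · rw [Category.id_comp, h n]
    exact Limits.zero_comp
  · rw [Limits.zero_comp]
    exact (congrArg (Formal.modPowπ J (n + 1) Q ≫ ·) rfl).trans Limits.comp_zero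

variable {Xs : ℕ → Scheme.{u}}
  {p : (k : ℕ) → (Xs k ⟶ Spec (CommRingCat.of (A ⧸ J ^ (k + 1))))} {i : (k : ℕ) → (Xs k ⟶ Xs (k + 1))}
  (hcart : ∀ k, IsPullback (i k) (p k) (p (k + 1)) (CohB1.specQuotTrans J k)) (hp : IsProper (p 0))

include hcart hp in
theorem exists_closedSub {P : Scheme.{u}} [P.Over (Spec (CommRingCat.of A))]
    [IsSeparated (P ↘ Spec (CommRingCat.of A))] [LocallyOfFiniteType (P ↘ Spec (CommRingCat.of A))]
    [QuasiCompact (P ↘ Spec (CommRingCat.of A))]
    (h : ∀ k, Xs k ⟶ P) (hcl : ∀ k, IsClosedImmersion (h k)) (hi : ∀ k, i k ≫ h (k + 1) = h k)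
    (hb : ∀ k, h k ≫ (P ↘ Spec (CommRingCat.of A)) = p k ≫ CohB1.specQuot J k) :
    ∃ (Y : Scheme.{u}) (c : Y ⟶ P) (e : ∀ k, Xs k ⟶ Y), IsClosedImmersion c ∧
      IsProper (c ≫ (P ↘ Spec (CommRingCat.of A))) ∧ (∀ k, e k ≫ c = h k) ∧
      (∀ k, e k = i k ≫ e (k + 1)) ∧
      ∀ k, IsPullback (e k) (p k) (c ≫ (P ↘ Spec (CommRingCat.of A))) (CohB1.specQuot J k) := by
  haveI := hcl
  haveI : IsLocallyNoetherian P := LocallyOfFiniteType.isLocallyNoetherian (P ↘ Spec (CommRingCat.of A))
  choose eI heI using fun k => exists_unitIso (i k)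
  have hOP := H10Coh.isCoh_structureModule' P
  let G := H24FSch.pushSys i h hi (fun k => Coh.structureModule (Xs k)) eI
  have hG : Formal.IsCohFormal J G :=
    isCohFormal_push hcart h hi hb _ (fun k => H10Coh.isCoh_structureModule' (Xs k)) eI
  -- the projections from the structure module
  let s : ∀ k, Coh.structureModule P ⟶ G.obj (op k) := fun k =>
    homOfGlobal ((Scheme.Modules.pushforward (h k)).obj (Coh.structureModule (Xs k))) (one ⊤)
  have hs : ∀ k, s (k + 1) ≫ tr G k = s k := fun k => by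
    rw [tr, H24FSch.pushSys_map_succ]
    exact (homOfGlobal_comp _ _).trans (congrArg (homOfGlobal _) (pushTrans_one (i k) _ _ (hi k) (eI k) (heI k)))
  have hs_app : ∀ (k : ℕ) (W : P.Opens) (r : Γ(P, W)),
      (s k).app W (show Γ(Coh.structureModule P, W) from r) = (h k).app W r := fun k W r => by
    refine (homOfGlobal_app _ _ W _).trans ?_
    exact (congrArg (fun z : Γ(Xs k, h k ⁻¹ᵁ W) => (h k).app W r * z)
      (map_one ((Xs k).presheaf.map (homOfLE (le_top : h k ⁻¹ᵁ W ≤ ⊤)).op).hom)).trans (mul_one _)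
  -- algebraize
  have hGs : ClSub.IsProperOver (P ↘ Spec (CommRingCat.of A)) (CohB1.support (G.obj (op 0))) := by
    haveI : IsClosedImmersion (CohB1.specQuot J 0) :=
      IsClosedImmersion.spec_of_surjective _ Ideal.Quotient.mk_surjective
    haveI : IsProper (h 0 ≫ (P ↘ Spec (CommRingCat.of A))) := by rw [hb 0]; infer_instance
    refine LeadProper.isProperOver_mono ((LeadProper.isProperOver_iff _ (h 0) rfl).2 inferInstance)
      (LeadProper.isClosed_support _ (hG.1 0).1 (hG.1 0).2) ?_
    exact LeadProper.support_subset_range _ (hG.1 0).1 (h 0) (Iso.refl _)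
  obtain ⟨M, hM, hMs, ⟨iso⟩⟩ := H24GE.exists_algebraization_properSupport P J G hG hGs
  let ψ := ofCompat hG s hs ≫ iso.inv
  have hsupp : ClSub.IsProperOver (P ↘ Spec (CommRingCat.of A))
      (CohB1.support (Coh.structureModule P) ∩ CohB1.support M) :=
    LeadProper.isProperOver_mono hMs
      ((LeadProper.isClosed_support _ hOP.1 hOP.2).inter (LeadProper.isClosed_support M hM.1 hM.2))
      Set.inter_subset_right
  obtain ⟨φ, hφ, -⟩ := H24Formal.HomC.existsUnique_hom J hOP hM hsupp ψ
  have hrel : ∀ k, φ ≫ Formal.modPowπ J (k + 1) M ≫ iso.hom.app (op k) = s k := fun k => by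
    refine ((Category.assoc _ _ _).symm.trans (congrArg (· ≫ iso.hom.app (op k)) (hφ k).symm)).trans ?_
    refine (Category.assoc _ _ _).trans ?_
    rw [← π_ofCompat hG s hs k]
    refine congrArg (Formal.modPowπ J (k + 1) (Coh.structureModule P) ≫ ·) ?_
    show (ψ ≫ iso.hom).app (op k) = _
    rw [Category.assoc, iso.inv_hom_id, Category.comp_id]
  have hsurj : ∀ (k : ℕ) (W : P.Opens), IsAffineOpen W →
      Function.Surjective ((s k).app W) := fun k W hW y => by
    obtain ⟨r, hr⟩ := (h k).app_surjective W hW y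
    exact ⟨r, (hs_app k W r).trans hr⟩
  haveI hφepi : Epi φ := by
    have hse : ∀ k, Epi (s k) := fun k => by
      refine H11Tilde.epi_of_locally_surjective _ fun W t x hx => ?_
      obtain ⟨V, hV, hxV, hle⟩ := exists_isAffineOpen_mem_and_subset (U := W) hx
      exact ⟨V, hle, hxV, hsurj k V hV _⟩
    refine Preadditive.epi_of_isZero_cokernel φ
      (isZero_of_modPow_eq_zero (J := J) (H10Coh.isCoh_cokernel φ hOP.1 hM)
        (LeadProper.isProperOver_mono hMs (LeadProper.isClosed_support _ (H10Coh.isCoh_cokernel φ hOP.1 hM).1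
          (H10Coh.isCoh_cokernel φ hOP.1 hM).2) (support_subset_of_epi (cokernel.π φ) hM (H10Coh.isCoh_cokernel φ hOP.1 hM))) fun n => ?_)
    let w : Formal.modPow J (n + 1) M ⟶ Formal.modPow J (n + 1) (cokernel φ) :=
      cokernel.desc _ (cokernel.π φ ≫ Formal.modPowπ J (n + 1) (cokernel φ))
        (H24Formal.smulFamily_comp_eq_zero _ (H24Formal.killedBy_modPow J (n + 1) (cokernel φ)))
    have hw : Formal.modPowπ J (n + 1) M ≫ w = cokernel.π φ ≫ Formal.modPowπ J (n + 1) (cokernel φ) :=
      cokernel.π_desc _ _ _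
    have h1 : Epi (φ ≫ Formal.modPowπ J (n + 1) M) := by
      haveI := hse n
      have e0 : φ ≫ Formal.modPowπ J (n + 1) M = s n ≫ iso.inv.app (op n) := by
        rw [← hrel n, Category.assoc, Category.assoc]
        refine congrArg (φ ≫ ·) ((Category.comp_id _).symm.trans
          (congrArg (Formal.modPowπ J (n + 1) M ≫ ·) ?_))
        exact (iso.app (op n)).hom_inv_id.symm
      rw [e0]
      exact @epi_comp _ _ _ _ _ (s n) (hse n) (iso.inv.app (op n))
        (@IsIso.epi_of_iso _ _ _ _ _ ((iso.app (op n)).isIso_inv))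
    have hw0 : w = 0 := by
      rw [← cancel_epi (φ ≫ Formal.modPowπ J (n + 1) M), Category.assoc, hw, ← Category.assoc,
        cokernel.condition, Limits.zero_comp, Limits.comp_zero]
    rw [← cancel_epi (cokernel.π φ), ← hw, hw0, Limits.comp_zero, Limits.comp_zero]
  -- the closed subscheme
  let K := kernel φ
  haveI hKq : K.IsQuasicoherent := (H10Coh.isCoh_kernel φ hOP hM.1).1
  let Id := H26Def.imageData (kernel.ι φ) hKq
  have hφsurj : ∀ W : P.Opens, IsAffineOpen W → Function.Surjective (φ.app W) := fun W hW => by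
    haveI := hOP.1
    haveI := hM.1
    exact H10Coh.surjective_app_of_epi φ hW
  have hle : ∀ k, Id.subschemeι.ker ≤ (h k).ker := fun k => by
    rw [Scheme.IdealSheafData.ker_subschemeι]
    intro W a ha
    obtain ⟨m, rfl⟩ := (H26Def.mem_imageData _ _ W _).1 ha
    rw [Scheme.Hom.ker_apply, RingHom.mem_ker]
    refine (hs_app k W.1 _).symm.trans ?_
    have h0 : kernel.ι φ ≫ s k = 0 := by rw [← hrel k, kernel.condition_assoc, Limits.zero_comp]
    exact congr($(congrArg (fun ψ => Scheme.Modules.Hom.app ψ W.1) h0) m)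
  let e : ∀ k, Xs k ⟶ Id.subscheme := fun k => IsClosedImmersion.lift Id.subschemeι (h k) (hle k)
  have he : ∀ k, e k ≫ Id.subschemeι = h k := fun k => IsClosedImmersion.lift_fac _ _ _
  refine ⟨Id.subscheme, Id.subschemeι, e, inferInstance, ?_, he, fun k => ?_, fun k => ?_⟩
  · refine (LeadProper.isProperOver_iff _ Id.subschemeι rfl).1
      (LeadProper.isProperOver_mono hMs Id.subschemeι.isClosedEmbedding.isClosed_range ?_)
    rw [Scheme.IdealSheafData.range_subschemeι]
    intro x hx
    by_contra hc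
    obtain ⟨U, hU, hxU, -⟩ := exists_isAffineOpen_mem_and_subset (U := (⊤ : P.Opens)) (x := x) trivial
    obtain ⟨a, ha, ha0⟩ := LeadDev.exists_unitAt_smul_eq_zero hU hxU M hM.1 hc
      (φ.app U (show Γ(Coh.structureModule P, U) from (1 : Γ(P, U))))
    have haI : a ∈ Id.ideal ⟨U, hU⟩ := by
      refine (H26Def.mem_imageData _ _ ⟨U, hU⟩ _).2 ?_
      obtain ⟨m, hm⟩ := LeadDev.exists_kernel_section φ U (show Γ(Coh.structureModule P, U) from a) (by
        refine (congrArg (φ.app U) (mul_one (a : Γ(P, U))).symm).trans ?_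
        exact (φ.app_smul a _).trans ha0)
      exact ⟨m, hm⟩
    rw [SetLike.mem_coe, Scheme.IdealSheafData.mem_support_iff_of_mem (U := ⟨U, hU⟩) hxU] at hx
    exact (Scheme.mem_zeroLocus_iff _ _ _).1 hx a haI ha
  · rw [← cancel_mono Id.subschemeι, Category.assoc, he, he, hi]
  -- cartesian
  have hw : e k ≫ Id.subschemeι ≫ (P ↘ Spec (CommRingCat.of A)) = p k ≫ CohB1.specQuot J k := by
    rw [← Category.assoc, he, hb]
  haveI : IsClosedImmersion (CohB1.specQuot J k) := IsClosedImmersion.spec_of_surjective _ Ideal.Quotient.mk_surjective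
  let q₁ := pullback.fst (Id.subschemeι ≫ (P ↘ Spec (CommRingCat.of A))) (CohB1.specQuot J k)
  let q₂ := pullback.snd (Id.subschemeι ≫ (P ↘ Spec (CommRingCat.of A))) (CohB1.specQuot J k)
  haveI : IsClosedImmersion q₁ :=
    MorphismProperty.of_isPullback (IsPullback.of_hasPullback _ _).flip ‹IsClosedImmersion (CohB1.specQuot J k)›
  let c : Xs k ⟶ _ := pullback.lift (e k) (p k) hw
  have hc : c ≫ q₁ ≫ Id.subschemeι = h k := by rw [← Category.assoc, pullback.lift_fst, he]
  have hker : (h k).ker = (q₁ ≫ Id.subschemeι).ker := by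
    refine le_antisymm (fun W a ha => ?_) (hc ▸ Scheme.Hom.le_ker_comp c (q₁ ≫ Id.subschemeι))
    rw [Scheme.Hom.ker_apply, RingHom.mem_ker] at ha ⊢
    have h1 : (Formal.modPowπ J (k + 1) M).app W.1 (φ.app W.1 (show Γ(Coh.structureModule P, W.1) from a)) = 0 := by
      refine (H17.PullSect.bijective_app (iso.app (op k)).hom W.1).1 (Eq.trans ?_ (map_zero _).symm)
      refine (congr($(congrArg (fun ψ => Scheme.Modules.Hom.app ψ W.1) (hrel k))
        (show Γ(Coh.structureModule P, W.1) from a))).trans ?_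
      exact (hs_app k W.1 a).trans ha
    have h2 : φ.app W.1 (show Γ(Coh.structureModule P, W.1) from a) ∈
        H24Formal.HomC.secIdeal J W.1 ^ (k + 1) • (⊤ : Submodule Γ(P, W.1) Γ(M, W.1)) := by
      rw [← H24Formal.HomC.ker_modPowπ J (IsNoetherian.noetherian J) (k + 1) hM W.2]
      exact h1
    obtain ⟨b, hb', hab⟩ : ∃ b ∈ H24Formal.HomC.secIdeal J W.1 ^ (k + 1),
        φ.app W.1 (show Γ(Coh.structureModule P, W.1) from b) = φ.app W.1 (show Γ(Coh.structureModule P, W.1) from a) := by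
      refine Submodule.smul_induction_on (p := fun z => ∃ b ∈ H24Formal.HomC.secIdeal J W.1 ^ (k + 1),
        φ.app W.1 (show Γ(Coh.structureModule P, W.1) from b) = z) h2 (fun r hr z _ => ?_) ?_
      · obtain ⟨y, rfl⟩ := hφsurj W.1 W.2 z
        exact ⟨r * OmegaSh.fnSect P W.1 y, Ideal.mul_mem_right _ _ hr, φ.app_smul r y⟩
      · rintro z z' ⟨b, hb, rfl⟩ ⟨b', hb', rfl⟩
        exact ⟨b + b', add_mem hb hb', map_add (φ.app W.1).hom _ _⟩
    obtain ⟨m, hm⟩ := LeadDev.exists_kernel_section φ W.1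
      (show Γ(Coh.structureModule P, W.1) from a - b) (by
        refine (map_sub (φ.app W.1).hom _ _).trans ?_
        exact sub_eq_zero.2 hab.symm)
    have hab0 : (q₁ ≫ Id.subschemeι).app W.1 (a - b) = 0 := by
      show q₁.app (Id.subschemeι ⁻¹ᵁ W.1) (Id.subschemeι.app W.1 (a - b)) = 0
      have : Id.subschemeι.app W.1 (a - b) = 0 := by
        rw [← RingHom.mem_ker, ← Scheme.Hom.ker_apply, Scheme.IdealSheafData.ker_subschemeι]
        exact (H26Def.mem_imageData _ _ W _).2 ⟨m, hm⟩
      rw [this, map_zero]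
    have hb0 : (q₁ ≫ Id.subschemeι).app W.1 b = 0 := by
      rw [← RingHom.mem_ker]
      rw [H24Formal.HomC.secIdeal, ← Ideal.map_pow] at hb'
      refine Ideal.map_le_iff_le_comap.2 (fun x hx => ?_) hb'
      exact app_scalA_eq_zero (J := J) (q₁ ≫ Id.subschemeι) q₂ (by rw [Category.assoc]; exact pullback.condition)
        W.1 hx
    rw [← sub_add_cancel a b, map_add, hab0, hb0, add_zero]
  haveI : IsIso c := IsClosedImmersion.isIso_of_ker_eq (h k) (q₁ ≫ Id.subschemeι) c hc hker
  exact IsPullback.of_iso_pullback ⟨hw⟩ (asIso c) (pullback.lift_fst _ _ _) (pullback.lift_snd _ _ _)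


/-- A proper morphism to a proper scheme over a complete base which is an isomorphism on all
thickenings of the closed fibre is an isomorphism. -/
theorem isIso_of_levels {X W : Scheme.{u}} (f : X ⟶ Spec (CommRingCat.of A)) [IsProper f]
    (π : W ⟶ X) [IsProper π] (a : ∀ n, CohB1.thick f J n ⟶ W)
    (hsq : ∀ n, IsPullback (a n) (𝟙 _) π (CohB1.thickι f J n)) : IsIso π := by
  letI : X.Over (Spec (CommRingCat.of A)) := ⟨f⟩
  haveI : IsProper (X ↘ Spec (CommRingCat.of A)) := inferInstanceAs (IsProper f)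
  haveI : IsLocallyNoetherian X := LocallyOfFiniteType.isLocallyNoetherian f
  have hpb : ∀ k, IsPullback (CohB1.thickι f J k) (CohB1.thickToBase f J k) (X ↘ Spec (CommRingCat.of A))
      (CohB1.specQuot J k) := fun k => IsPullback.of_hasPullback f (CohB1.specQuot J k)
  haveI hcl : ∀ k, IsClosedImmersion (CohB1.thickι f J k) := fun k =>
    isClosedImmersion_e (J := J) (p := fun k => CohB1.thickToBase f J k) _ hpb k
  haveI hπ : IsClosedImmersion π := by
    choose V hyV hV using fun y => H24FSch.exists_closedImm_nhd (hsq 0) y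
    have hall := H24FSch.restrict_iSup @IsClosedImmersion π V hV
    have htop : (⨆ y, V y) = ⊤ := eq_top_of_range_subset (J := J) (p := fun k => CohB1.thickToBase f J k) _ hpb _
      (by rintro _ ⟨y, rfl⟩; exact Opens.mem_iSup.mpr ⟨y, hyV y⟩)
    exact IsZariskiLocalAtTarget.of_iSup_eq_top (P := @IsClosedImmersion) _ htop hV
  let K := (CohB1.thickι f J 0).ker
  have hK : ∀ n : ℕ, π.ker ≤ K ^ (n + 1) := fun n => by
    have h1 : π.ker ≤ (CohB1.thickι f J n).ker := by
      have := Scheme.Hom.le_ker_comp (a n) π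
      rwa [(hsq n).w, Category.id_comp] at this
    refine h1.trans (le_of_eq ?_)
    refine Scheme.IdealSheafData.ext (funext fun V => ?_)
    rw [Scheme.IdealSheafData.ideal_pow, Pi.pow_apply, Scheme.Hom.ker_apply, Scheme.Hom.ker_apply,
      ker_e (p := fun k => CohB1.thickToBase f J k) _ hpb n V.1 V.2,
      ker_e (p := fun k => CohB1.thickToBase f J k) _ hpb 0 V.1 V.2, zero_add, pow_one, Ideal.map_pow]
  have hyK : ∀ y, CohB1.thickι f J 0 y ∈ (K.support : Set X) := fun y =>
    (CohB1.thickι f J 0).range_subset_ker_support ⟨y, rfl⟩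
  choose V hyV hV using fun y => H24FSch.exists_iso_nhd π K hK _ (hyK y)
  have htop : (⨆ y, V y) = ⊤ := eq_top_of_range_subset (J := J) (p := fun k => CohB1.thickToBase f J k) _ hpb _
    (by rintro _ ⟨y, rfl⟩; exact Opens.mem_iSup.mpr ⟨y, hyV y⟩)
  exact IsZariskiLocalAtTarget.of_iSup_eq_top (P := MorphismProperty.isomorphisms Scheme.{u}) _ htop hV

end Groth.Agent.H10Coh.AlgSupp
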