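import Groth.Agent.LeadGE.AmpleLift
import Groth.Agent.LeadFF.ProperSupp
import Groth.Agent.H10Coh.Proper2
import Groth.Agent.H8Props.AmpleBatch
import Groth.Prelude.Def_CohB1
import Mathlib.RingTheory.AdicCompletion.Noetherian

/-!
# Modules ample on the closed fibres

For `X` proper over a Noetherian ring `A` and an ideal `J` in the Jacobson radical, an invertible module
ample on `X ⊗ A/J` is ample.
-/

set_option autoImplicit false
set_option linter.style.haveILetI false
set_option linter.unusedSectionVars false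
set_option backward.isDefEq.respectTransparency.types false

noncomputable section

universe u

open CategoryTheory CategoryTheory.Limits AlgebraicGeometry Opposite TopologicalSpace CohB1
open Groth.Agent.H11Tilde Groth.Agent.H11Ample

namespace Groth.Agent.H10Coh.ClosedFibre

open Groth.Agent.H10Coh.Tw

attribute [local instance 10000] H10Coh.hasSheafifyAb H10Coh.hasWeakSheafifyAb H10Coh.hasExtAb H10Coh.enoughInjAb

variable {A : Type u} [CommRing A] [IsNoetherianRing A] (J : Ideal A) (hJ : J ≤ Ideal.jacobson ⊥)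
  {X : Scheme.{u}} [X.Over (Spec (CommRingCat.of A))] [IsProper (X ↘ Spec (CommRingCat.of A))]

local notation "πA" => (X ↘ Spec (CommRingCat.of A))

omit [IsNoetherianRing A] [IsProper (X ↘ Spec (CommRingCat.of A))] in
theorem thickTrans_ι (n : ℕ) : thickTrans πA J n ≫ thickι πA J (n + 1) = thickι πA J n :=
  (pullback.lift_fst _ _ _).trans (Category.comp_id _)

omit [IsNoetherianRing A] [IsProper (X ↘ Spec (CommRingCat.of A))] in
theorem isPullback_thickTrans (n : ℕ) :
    IsPullback (thickTrans πA J n) (thickToBase πA J n) (thickToBase πA J (n + 1)) (specQuotTrans J n) := by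
  refine IsPullback.of_right ?_ (pullback.lift_snd _ _ _)
    (IsPullback.of_hasPullback πA (specQuot J (n + 1)))
  rw [thickTrans_ι, specQuotTrans_specQuot]
  exact IsPullback.of_hasPullback _ _

omit [IsProper (X ↘ Spec (CommRingCat.of A))] in
theorem isClosedImmersion_thickι (n : ℕ) : IsClosedImmersion (thickι πA J n) := by
  haveI : IsClosedImmersion (CohB1.specQuot J n) :=
    IsClosedImmersion.spec_of_surjective _ Ideal.Quotient.mk_surjective
  exact MorphismProperty.of_isPullback (IsPullback.of_hasPullback πA (specQuot J n)).flip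
    ‹IsClosedImmersion (CohB1.specQuot J n)›

theorem ker_thickι (n : ℕ) (W : X.Opens) (hW : IsAffineOpen W) :
    RingHom.ker ((thickι πA J n).app W).hom = (J ^ (n + 1)).map (H24Formal.scalA A W) := by
  haveI := isClosedImmersion_thickι (X := X) J n
  rw [← Scheme.Hom.ker_apply (thickι πA J n) ⟨W, hW⟩]
  exact LeadUV.ker_ideal_of_pullback (RingHom.id A) (Ideal.Quotient.mk (J ^ (n + 1))) Ideal.Quotient.mk_surjective
    ((Ideal.mk_ker).trans (Ideal.map_id _).symm) (IsPullback.of_hasPullback πA (specQuot J n))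
    (by rw [CommRingCat.ofHom_id, Spec.map_id, Category.comp_id]) ⟨W, hW⟩

include hJ in
/-- Serre vanishing from ampleness on the closed fibres. -/
theorem exists_vanishing {L : X.Modules} (hL : PicF.IsInvertible L)
    (ha : CohB1.IsAmple ((Scheme.Modules.pullback (thickι πA J 0)).obj L)) {F : X.Modules} (hF : Coh.IsCoh F) :
    ∃ d₀ : ℕ, ∀ d : ℕ, d₀ ≤ d → ∀ q : ℕ, 0 < q →
      Subsingleton (Coh.HH X (CohB1.tensorMod F (CohB1.tensorPow L d)) q) := by
  haveI : IsLocallyNoetherian X := LocallyOfFiniteType.isLocallyNoetherian πA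
  let e : ∀ k, thick πA J k ⟶ X := fun k => thickι πA J k
  let Lk : (k : ℕ) → (thick πA J k).Modules := fun k => (Scheme.Modules.pullback (e k)).obj L
  have hLk : ∀ k, PicF.IsInvertible (Lk k) := fun k => isInvertible_pullback (e k) hL
  have hp : IsProper (thickToBase πA J 0) := MorphismProperty.pullback_snd _ _ inferInstance
  let S : LeadUV.AdicSys J (fun k => thickToBase πA J k) (fun k => thickTrans πA J k) :=
    { cart := isPullback_thickTrans J
      F := fun k => (Scheme.Modules.pullback (e k)).obj F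
      coh := fun k => LeadUV.isCoh_pullback' (e k) hF
      ψ := fun k => (Scheme.Modules.pullbackComp (thickTrans πA J k) (e (k + 1))).app F ≪≫
        (Scheme.Modules.pullbackCongr (thickTrans_ι J k)).app F }
  obtain ⟨d₀, hd₀⟩ := S.exists_van hp hLk
    (fun k => (Scheme.Modules.pullbackComp (thickTrans πA J k) (e (k + 1))).app L ≪≫
      (Scheme.Modules.pullbackCongr (thickTrans_ι J k)).app L) ha
  refine ⟨d₀, fun d hd q hq => ?_⟩
  have hMd := isInvertible_tensorPow hL d
  let N := CohB1.tensorMod F (CohB1.tensorPow L d)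
  have hN : Coh.IsCoh N := H11Ample.isCoh_tensor hF hMd
  have hlev : ∀ n, Subsingleton (Formal.HHmodPow J N q n) := fun n => by
    haveI := isClosedImmersion_thickι (X := X) J n
    obtain ⟨u⟩ := LeadGE.nonempty_modPow_iso_push (J := J) (e n) (n + 1) (ker_thickι J n) hN
    obtain ⟨w⟩ := exists_iso_pullback_tensorPow (e n) hL d
    let v : (Scheme.Modules.pullback (e n)).obj N ≅ CohB1.tensorMod ((Scheme.Modules.pullback (e n)).obj F)
        (CohB1.tensorPow (Lk n) d) :=
      (H16Derived.KFlat.Stalk.pullTensorLIso (e n) (CohB1.tensorPow L d)).app F ≪≫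
        PicGrp.tensorModIso (Iso.refl _) w
    haveI : ((Scheme.Modules.pullback (e n)).obj N).IsQuasicoherent := (LeadUV.isCoh_pullback' (e n) hN).1
    refine @Equiv.subsingleton _ _ (HHEquiv _ q).toEquiv (subsingleton_of_iso u.symm ?_)
    exact @Equiv.subsingleton _ _ (affineLerayEquiv (e n) _ q ⊤).toEquiv
      (subsingleton_of_iso v.symm ((hd₀ d hd n).1 q hq))
  haveI : Subsingleton (Formal.HHlim J N q) := ⟨fun a b => Subtype.ext (funext fun n => (hlev n).elim _ _)⟩
  haveI : Subsingleton (AdicCompletion J (Coh.HH X N q)) :=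
    (LeadFF.fromCompletion_injective J N q (LeadFF.properCoh_of_isProper _ hN)).subsingleton
  haveI : Module.Finite A (Coh.HH X N q) := finite_HH_proper A X N hN q
  haveI : IsHausdorff J (Coh.HH X N q) := IsHausdorff.of_le_jacobson J _ hJ
  exact (AdicCompletion.of_injective J (Coh.HH X N q)).subsingleton

include hJ in
/-- Ampleness on the closed fibres is ampleness. -/
theorem isAmple {L : X.Modules} (hL : PicF.IsInvertible L)
    (ha : CohB1.IsAmple ((Scheme.Modules.pullback (thickι πA J 0)).obj L)) : CohB1.IsAmple L := by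
  haveI : IsLocallyNoetherian X := LocallyOfFiniteType.isLocallyNoetherian πA
  haveI : CompactSpace X := QuasiCompact.compactSpace_of_compactSpace πA
  refine isAmple_of_H1 hL fun F i₀ hi₀ hF0 => ?_
  haveI := hi₀
  have hF : Coh.IsCoh F := isCoh_of_mono i₀ hF0 (isCoh_structureModule' X)
  obtain ⟨d₀, hd₀⟩ := exists_vanishing J hJ hL ha hF
  exact ⟨d₀, @Equiv.subsingleton _ _ (HHEquiv _ 1).toEquiv.symm (hd₀ (d₀ + 1) d₀.le_succ 1 one_pos)⟩

section Fibre

variable {Z Y : Scheme.{u}} (f : Z ⟶ Y) [IsProper f] [IsLocallyNoetherian Y] (y : Y) {L : Z.Modules}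

local notation "O" => Y.presheaf.stalk y

omit [IsProper f] [IsLocallyNoetherian Y] in
/-- The first thickening of the local scheme is the fibre. -/
theorem isAmple_thickι_of_fibre {X₁ : Scheme.{u}} [X₁.Over (Spec (CommRingCat.of O))] (g : X₁ ⟶ Z)
    (hsq : IsPullback g (X₁ ↘ Spec (CommRingCat.of O)) f (Y.fromSpecStalk y))
    (hy : CohB1.IsAmple ((Scheme.Modules.pullback (f.fiberι y)).obj L)) :
    CohB1.IsAmple ((Scheme.Modules.pullback
      (thickι (X₁ ↘ Spec (CommRingCat.of O)) (IsLocalRing.maximalIdeal O) 0)).obj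
        ((Scheme.Modules.pullback g).obj L)) := by
  let π := X₁ ↘ Spec (CommRingCat.of O)
  let m := IsLocalRing.maximalIdeal O
  let q : (O ⧸ m ^ (0 + 1)) ≃+* Y.residueField y := Ideal.quotEquivOfEq (pow_one m)
  let e : CommRingCat.of (O ⧸ m ^ (0 + 1)) ≅ Y.residueField y := q.toCommRingCatIso
  let ε : Spec (Y.residueField y) ⟶ Spec (CommRingCat.of (O ⧸ m ^ (0 + 1))) := Spec.map e.hom
  have hε : ε ≫ specQuot m 0 ≫ Y.fromSpecStalk y = Y.fromSpecResidueField y := by
    rw [Scheme.fromSpecResidueField, ← Category.assoc]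
    refine congrArg (· ≫ Y.fromSpecStalk y) ?_
    rw [specQuot, ← Spec.map_comp]
    refine congrArg Spec.map (CommRingCat.hom_ext (RingHom.ext fun a => ?_))
    rfl
  have h1 : IsPullback (thickι π m 0 ≫ g) (thickToBase π m 0) f (specQuot m 0 ≫ Y.fromSpecStalk y) :=
    (IsPullback.of_hasPullback π (specQuot m 0)).paste_horiz hsq
  have h2 : IsPullback (f.fiberι y) (f.fiberToSpecResidueField y ≫ ε) f (specQuot m 0 ≫ Y.fromSpecStalk y) :=
    (IsPullback.of_hasPullback f (Y.fromSpecResidueField y)).of_iso (Iso.refl _) (Iso.refl _)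
      (asIso ε) (Iso.refl _) (by simp; rfl) (by simp; rfl) (by simp) (by simpa using hε.symm)
  rw [← isAmple_pullback_comp_iff, ← h1.isoIsPullback_hom_fst _ _ h2, isAmple_pullback_comp_iff]
  exact (isAmple_pullback_iso_iff (h1.isoIsPullback _ _ h2) _).2 hy

/-- A module ample on a fibre is ample on the local scheme at the point. -/
theorem isAmple_stalk {X₁ : Scheme.{u}} [X₁.Over (Spec (CommRingCat.of O))] (g : X₁ ⟶ Z)
    (hsq : IsPullback g (X₁ ↘ Spec (CommRingCat.of O)) f (Y.fromSpecStalk y)) (hL : PicF.IsInvertible L)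
    (hy : CohB1.IsAmple ((Scheme.Modules.pullback (f.fiberι y)).obj L)) :
    CohB1.IsAmple ((Scheme.Modules.pullback g).obj L) := by
  haveI : IsProper (X₁ ↘ Spec (CommRingCat.of O)) := MorphismProperty.of_isPullback hsq (inferInstance : IsProper f)
  haveI : IsNoetherianRing O := inferInstance
  exact isAmple (IsLocalRing.maximalIdeal O) (IsLocalRing.maximalIdeal_le_jacobson _) (isInvertible_pullback g hL)
    (isAmple_thickι_of_fibre f y g hsq hy)

end Fibre

end Groth.Agent.H10Coh.ClosedFibre
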