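import Groth.Agent.H10Coh.HHSeq
import Groth.Agent.H10Coh.Pn.Hyper

/-!
# Cohomology of a finite direct sum
-/

set_option autoImplicit false
set_option linter.style.haveILetI false
set_option backward.isDefEq.respectTransparency.types false

noncomputable section

universe u

open CategoryTheory CategoryTheory.Limits AlgebraicGeometry TopologicalSpace Opposite Abelian
open Groth.Agent.LeadFF

namespace Groth.Agent.H10Coh.BiprodHH

attribute [local instance 10000] H10Coh.hasSheafifyAb H10Coh.hasWeakSheafifyAb H10Coh.hasExtAb H10Coh.enoughInjAb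

variable {k : Type u} [Field k] {X : Scheme.{u}} [X.Over (Spec (CommRingCat.of k))]

theorem Hm_sum {M N : X.Modules} {κ : Type*} (s : Finset κ) (f : κ → (M ⟶ N)) (q : ℕ) (x : Coh.HH X M q) :
    Hm (∑ j ∈ s, f j) q x = ∑ j ∈ s, Hm (f j) q x := by
  classical
  induction s using Finset.induction_on with
  | empty => rw [Finset.sum_empty, Finset.sum_empty, Hm_zero]
  | insert a s ha ih => rw [Finset.sum_insert ha, Finset.sum_insert ha, Hm_add, ih]

/-- Cohomology of a finite direct sum. -/
theorem nonempty_linearEquiv {n : ℕ} (T : Fin n → X.Modules) (q : ℕ) :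
    Nonempty (Coh.HH X (⨁ T) q ≃ₗ[k] Π j, Coh.HH X (T j) q) := by
  classical
  let toPi : Coh.HH X (⨁ T) q →ₗ[k] Π j, Coh.HH X (T j) q :=
    LinearMap.pi fun j => H10Coh.Hyper.Hmₗ (biproduct.π T j) q
  refine ⟨LinearEquiv.ofBijective toPi ⟨(injective_iff_map_eq_zero toPi).2 fun x hx => ?_, fun y => ?_⟩⟩
  · rw [← Hm_id (⨁ T) q x, ← biproduct.total, Hm_sum]
    refine Finset.sum_eq_zero fun j _ => ?_
    rw [Hm_comp]
    exact (congrArg (Hm (biproduct.ι T j) q) (congrFun hx j)).trans (map_zero _)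
  · refine ⟨∑ j, Hm (biproduct.ι T j) q (y j), funext fun i => ?_⟩
    show Hm (biproduct.π T i) q (∑ j, Hm (biproduct.ι T j) q (y j)) = y i
    rw [map_sum, Finset.sum_eq_single i]
    · rw [← Hm_comp, biproduct.ι_π_self, Hm_id]
    · intro b _ hb
      rw [← Hm_comp, biproduct.ι_π_ne _ hb, Hm_zero]
    · exact fun hn => absurd (Finset.mem_univ _) hn

/-- Dimensions add over a finite direct sum. -/
theorem finrank_eq_sum {n : ℕ} (T : Fin n → X.Modules) (q : ℕ) [∀ j, Module.Finite k (Coh.HH X (T j) q)] :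
    Module.finrank k (Coh.HH X (⨁ T) q) = ∑ j, Module.finrank k (Coh.HH X (T j) q) := by
  obtain ⟨e⟩ := nonempty_linearEquiv (k := k) T q
  rw [e.finrank_eq, Module.finrank_pi_fintype]

end Groth.Agent.H10Coh.BiprodHH
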