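import Groth.Agent.H10Coh.AffineAmple
import Groth.Agent.H10Coh.Proj.Coherent
import Groth.Agent.H11Tilde.TwistQuot
import Groth.Agent.H23KS.DualSum
import Groth.Agent.H3Cyc.DualFilt

/-!
# Embedding duals into sums of powers of an ample module
-/

set_option autoImplicit false
set_option backward.isDefEq.respectTransparency.types false
set_option linter.style.haveILetI false

universe u

open CategoryTheory CategoryTheory.Limits AlgebraicGeometry
open Groth.Agent.H06Mod (stalkLin)

noncomputable section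

namespace Groth.Agent.H10Coh.DualEmbed

variable {X : Scheme.{u}}

/-- The dual of an epimorphism is a monomorphism. -/
theorem mono_dualMap {A B : X.Modules} (hA : CohB1.IsFP A) (hB : CohB1.IsFP B) (b : A ⟶ B)
    (hb : ∀ x : X, Function.Surjective (stalkLin b x)) : Mono (RefFun.dualMap b) :=
  H29Omega.mono_of_injective_stalkLin _ fun x => by
    refine (injective_iff_map_eq_zero _).mpr fun θ hθ => ?_
    have e := H3Cyc.Filt.dualEquiv_dualMap hA hB b x θ
    rw [hθ, map_zero] at e
    refine (H29Ref.dualEquiv B hB x).injective ?_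
    rw [map_zero]
    refine LinearMap.ext fun v => ?_
    obtain ⟨u, rfl⟩ := hb x v
    exact (DFunLike.congr_fun e u).symm

theorem shortExact_ker {A B : X.Modules} (b : A ⟶ B) [Epi b] :
    (ShortComplex.mk (kernel.ι b) b (kernel.condition b)).ShortExact :=
  { exact := ShortComplex.exact_kernel b }

/-- The dual of a short exact sequence is left exact. -/
theorem exact_dual {A B C : X.Modules} (a : A ⟶ B) (b : B ⟶ C) (w : a ≫ b = 0)
    (hex : (ShortComplex.mk a b w).ShortExact) (hA : CohB1.IsFP A) (hB : CohB1.IsFP B) (hC : CohB1.IsFP C) :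
    ∃ w' : RefFun.dualMap b ≫ RefFun.dualMap a = 0,
      (ShortComplex.mk (RefFun.dualMap b) (RefFun.dualMap a) w').Exact := by
  have w' : RefFun.dualMap b ≫ RefFun.dualMap a = 0 := by
    rw [← RefFun.dualMap_comp, w, H23KS.dualMap_zero]
  refine ⟨w', H29Omega.exact_of_stalks _ fun x θ hθ => ?_⟩
  have hs : Function.Surjective (stalkLin b x) := H06Mod.stalk_surjective _ hex x
  have hx : Function.Exact (stalkLin a x) (stalkLin b x) := H06Mod.stalk_exact _ hex x
  have e := H3Cyc.Filt.dualEquiv_dualMap hA hB a x θ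
  rw [show stalkLin (RefFun.dualMap a) x θ = 0 from hθ, map_zero] at e
  have hker : LinearMap.ker (stalkLin b x) ≤ LinearMap.ker (H29Ref.dualEquiv B hB x θ) := fun v hv => by
    obtain ⟨u, rfl⟩ := (hx v).mp hv
    exact (DFunLike.congr_fun e u).symm
  let l := ((LinearMap.ker (stalkLin b x)).liftQ _ hker).comp
    ((stalkLin b x).quotKerEquivOfSurjective hs).symm.toLinearMap
  refine ⟨(H29Ref.dualEquiv C hC x).symm l, ?_⟩
  refine (H29Ref.dualEquiv B hB x).injective ?_
  rw [H3Cyc.Filt.dualEquiv_dualMap hB hC, LinearEquiv.apply_symm_apply]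
  refine LinearMap.ext fun v => ?_
  show (LinearMap.ker (stalkLin b x)).liftQ _ hker
    (((stalkLin b x).quotKerEquivOfSurjective hs).symm (stalkLin b x v)) = _
  rw [show ((stalkLin b x).quotKerEquivOfSurjective hs).symm (stalkLin b x v) = Submodule.Quotient.mk v from
    (LinearEquiv.symm_apply_eq _).mpr rfl]
  rfl

theorem surjective_stalk_of_epi {A B : X.Modules} (b : A ⟶ B) [Epi b] (x : X) :
    Function.Surjective (stalkLin b x) :=
  H06Mod.stalk_surjective _ (shortExact_ker b) x

variable {L : X.Modules}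

/-- A coherent module is a quotient of finitely many copies of the dual of a power of an ample module. -/
theorem exists_epi_dual_pow [CompactSpace X] [QuasiSeparatedSpace X] (hL : CohB1.IsAmple L)
    {F : X.Modules} (hF : Coh.IsCoh F) :
    ∃ (q r : ℕ) (p : (∐ fun _ : Fin r => RefHull.dual (CohB1.tensorPow L q)) ⟶ F), 1 ≤ r ∧ Epi p := by
  obtain ⟨q, r, ψ, -, hψ⟩ := Tw.exists_epi_sigma hL hF 0
  have hP := H11Ample.isInvertible_tensorPow hL.1 q
  have hM : PicF.IsInvertible (RefHull.dual (CohB1.tensorPow L q)) :=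
    H8Props.DivisorSection.isInvertible_dual hP
  obtain ⟨c⟩ := H25AbCube.isInverseOf_dual hP
  haveI : Epi (ψ : FlatMod.freeMod X r ⟶ _) := hψ
  let e : CohB1.tensorMod (CohB1.tensorMod F (CohB1.tensorPow L q)) (RefHull.dual (CohB1.tensorPow L q)) ≅ F :=
    H11Ample.tensorAssocIso _ _ _ ≪≫
      H10Inj.SheafExt.tensorModIso (Iso.refl F) (H10Inj.SheafExt.tensorSwapIso _ _ ≪≫ c) ≪≫
      H10Inj.SheafExt.tensorSwapIso _ _ ≪≫ H11Ample.tensorLeftUnitIso F
  obtain ⟨p, hp⟩ := H11Tilde.exists_epi_sigma_of_epi_free (ψ : FlatMod.freeMod X r ⟶ _) hM e (Iso.refl _)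
  let T : Fin r → X.Modules := fun _ => RefHull.dual (CohB1.tensorPow L q)
  let T' : Fin (r + 1) → X.Modules := fun _ => RefHull.dual (CohB1.tensorPow L q)
  let p' : ∐ T' ⟶ F := Sigma.desc (Fin.cases (motive := fun i => T' i ⟶ F) 0 fun i => Sigma.ι T i ≫ p)
  have hfac : (Sigma.desc fun i : Fin r => Sigma.ι T' i.succ) ≫ p' = p := by
    refine Sigma.hom_ext _ _ fun i => ?_
    simp [p', T, T']
  exact ⟨q, r + 1, p', Nat.le_add_left 1 r, epi_of_epi_fac hfac⟩

/-- The dual of a sum of duals of powers of an invertible module. -/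
theorem nonempty_dual_sum (hL : PicF.IsInvertible L) (q r : ℕ) :
    Nonempty (RefHull.dual (∐ fun _ : Fin r => RefHull.dual (CohB1.tensorPow L q)) ≅
      ∐ fun _ : Fin r => CohB1.tensorPow L q) := by
  haveI := H10Inj.SheafExt.isIso_bidualMap
    (H23Para.isFinLocFree_of_isInvertible (H11Ample.isInvertible_tensorPow hL q))
  exact ⟨H23KS.dualSigma _ ≪≫ Sigma.mapIso fun _ => (asIso (RefHull.bidualMap (CohB1.tensorPow L q))).symm⟩

theorem isFinLocFree_sum (hL : PicF.IsInvertible L) (q r : ℕ) :
    FlatMod.IsFinLocFree (∐ fun _ : Fin r => RefHull.dual (CohB1.tensorPow L q)) :=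
  H16Derived.KFlat.Stalk.isFinLocFree_sigma _ fun _ =>
    H23Para.isFinLocFree_of_isInvertible (H8Props.DivisorSection.isInvertible_dual (H11Ample.isInvertible_tensorPow hL q))

/-- The dual of a coherent module embeds into a sum of powers of an ample module. -/
theorem exists_mono_dual [IsLocallyNoetherian X] [CompactSpace X] [QuasiSeparatedSpace X]
    (hL : CohB1.IsAmple L) {F : X.Modules} (hF : Coh.IsCoh F) :
    ∃ (q r : ℕ) (μ : RefHull.dual F ⟶ ∐ fun _ : Fin r => CohB1.tensorPow L q), 1 ≤ r ∧ Mono μ := by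
  obtain ⟨q, r, p, hr, hp⟩ := exists_epi_dual_pow hL hF
  obtain ⟨e⟩ := nonempty_dual_sum hL.1 q r
  haveI := mono_dualMap (H8Props.FinLocFree.isFP_of_isFinLocFree _ (isFinLocFree_sum hL.1 q r))
    (H10Coh.isFP_of_isCoh _ hF) p (surjective_stalk_of_epi p)
  exact ⟨q, r, RefFun.dualMap p ≫ e.hom, hr, inferInstance⟩

end Groth.Agent.H10Coh.DualEmbed
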