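import Groth.Agent.H10Coh.PushEdge
import Groth.Agent.H15Site.ClosedPushAb

/-!
# The edge map is injective in degree one
-/

set_option autoImplicit false
set_option linter.style.haveILetI false

noncomputable section

universe u

open CategoryTheory CategoryTheory.Limits AlgebraicGeometry Opposite TopologicalSpace Abelian

namespace Groth.Agent.H10Coh

attribute [local instance 10000] hasSheafifyAb hasWeakSheafifyAb hasExtAb enoughInjAb

theorem extMap_extClass_naturality {X Y : TopCat.{u}} (f : X ⟶ Y) {T : ShortComplex (CohTop.Ab Y)}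
    (hT : T.ShortExact) {S : ShortComplex (CohTop.Ab X)} (hS : S.ShortExact)
    (φ : T.map (CohPull.inv f) ⟶ S) (q : Sheaf.H.{u} T.X₃ 0) :
    (extMap (CohPull.inv f) (CohPull.oneTo f) T.X₁ (0 + 1) (q.comp hT.extClass rfl)).comp
        (Ext.mk₀ φ.τ₁) (add_zero (0 + 1)) =
      ((extMap (CohPull.inv f) (CohPull.oneTo f) T.X₃ 0 q).comp (Ext.mk₀ φ.τ₃) (add_zero 0)).comp
        hS.extClass rfl := by
  have h := ShortComplex.ShortExact.extClass_naturality (hT.map_of_exact (CohPull.inv f)) hS φ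
  refine Eq.trans (congrArg (fun z => Ext.comp z (Ext.mk₀ φ.τ₁) (add_zero (0 + 1)))
    (extMap_extClass (CohPull.inv f) (CohPull.oneTo f) hT 0 q)) ?_
  refine (Ext.comp_assoc _ _ _ rfl (add_zero 1) (show 0 + 1 + 0 = 0 + 1 by omega)).trans ?_
  refine (congrArg (fun z => Ext.comp (extMap (CohPull.inv f) (CohPull.oneTo f) T.X₃ 0 q) z
    (rfl : 0 + 1 = 0 + 1)) h).trans ?_
  exact (Ext.comp_assoc _ _ _ (add_zero 0) (zero_add 1) (show 0 + 0 + 1 = 0 + 1 by omega)).symm

/-- `H¹(Y, f_* G) → H¹(X, G)` is injective. -/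
theorem injective_edgeAb_one {X Y : TopCat.{u}} (f : X ⟶ Y) (G : CohTop.Ab X)
    (S : ShortComplex (CohTop.Ab X)) (hS : S.ShortExact) (hG : S.X₁ = G) (hfl : Flasque S.X₂) :
    Function.Injective (edgeAb f G 1) := by
  subst hG
  haveI := Groth.Agent.H15Site.ClosedPushAb.push_preservesFiniteLimits f
  let P := CohTop.push f
  let adj := CohPull.invPushAdj f
  haveI := hS.mono_f
  have hz : P.map S.f ≫ P.map S.g = 0 := by rw [← P.map_comp, ShortComplex.zero, P.map_zero]
  have hMex : (S.map P).Exact :=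
    ShortComplex.exact_of_f_is_kernel _ (KernelFork.mapIsLimit _ hS.fIsKernel P)
  let i := cokernel.desc (P.map S.f) (P.map S.g) hz
  haveI : Mono i := hMex.mono_cokernelDesc
  let T : ShortComplex (CohTop.Ab Y) :=
    ShortComplex.mk (P.map S.f) (cokernel.π _) (cokernel.condition _)
  have hT : T.ShortExact :=
    { exact := ShortComplex.exact_of_g_is_cokernel _ (cokernelIsCokernel _)
      mono_f := inferInstanceAs (Mono (P.map S.f))
      epi_g := by dsimp [T]; infer_instance }
  let φ : T.map (CohPull.inv f) ⟶ S :=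
    { τ₁ := adj.counit.app S.X₁
      τ₂ := adj.counit.app S.X₂
      τ₃ := (adj.homEquiv _ _).symm i
      comm₁₂ := (adj.counit.naturality S.f).symm
      comm₂₃ := by
        change adj.counit.app S.X₂ ≫ S.g = (CohPull.inv f).map (cokernel.π _) ≫ (adj.homEquiv _ _).symm i
        rw [← adj.homEquiv_naturality_left_symm, cokernel.π_desc, adj.homEquiv_counit]
        exact (adj.counit.naturality S.g).symm }
  haveI := subsingleton_H_of_flasque (flasque_push' f hfl) 0
  haveI : Subsingleton (Ext.{u} (CohTop.const Y (ULift.{u} ℤ)) T.X₂ (0 + 1)) :=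
    subsingleton_H_of_flasque (flasque_push' f hfl) 0
  rw [injective_iff_map_eq_zero]
  intro x hx
  obtain ⟨q, rfl⟩ := exists_extClass_lift hT x
  let q' : Sheaf.H.{u} S.X₃ 0 :=
    (extMap (CohPull.inv f) (CohPull.oneTo f) T.X₃ 0 q).comp (Ext.mk₀ φ.τ₃) (add_zero 0)
  have key : edgeAb f S.X₁ 1 (q.comp hT.extClass rfl) = q'.comp hS.extClass rfl := by
    rw [edgeAb_apply]
    exact extMap_extClass_naturality f hT hS φ q
  obtain ⟨j, hj⟩ := Ext.covariant_sequence_exact₃ (CohTop.const X (ULift.{u} ℤ)) hS q' rfl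
    (key.symm.trans hx)
  have hq : Sheaf.H.equiv₀ S.X₃ isTerminalTop q' =
      i.hom.app (op ⊤) (Sheaf.H.equiv₀ T.X₃ isTerminalTop q) := by
    refine (Sheaf.H.equiv₀_naturality (isTerminalTop : IsTerminal (⊤ : Opens X)) _ _).symm.trans ?_
    refine Eq.trans (congrArg _ (CohPull.equiv₀_pullAb f T.X₃ q)) ?_
    exact congr($(congrArg (fun k : T.X₃ ⟶ P.obj S.X₃ => k.hom.app (op ⊤))
      ((adj.homEquiv_unit _ _ _).symm.trans ((adj.homEquiv _ _).apply_symm_apply i)))
      (Sheaf.H.equiv₀ T.X₃ isTerminalTop q))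
  let j' : (P.obj S.X₂).obj.obj (op ⊤) := Sheaf.H.equiv₀ S.X₂ isTerminalTop j
  have hj' : i.hom.app (op ⊤) (Sheaf.H.equiv₀ T.X₃ isTerminalTop q) =
      i.hom.app (op ⊤) ((cokernel.π (P.map S.f)).hom.app (op ⊤) j') := by
    rw [← hq]
    refine Eq.trans ?_ (congr($(congrArg (fun k : P.obj S.X₂ ⟶ P.obj S.X₃ => k.hom.app (op ⊤))
      (cokernel.π_desc (P.map S.f) (P.map S.g) hz)) j')).symm
    exact (congrArg _ hj.symm).trans
      (Sheaf.H.equiv₀_naturality (isTerminalTop : IsTerminal (⊤ : Opens X)) S.g j).symm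
  haveI : Mono (i.hom.app (op (⊤ : Opens Y))) :=
    inferInstanceAs (Mono (((sheafToPresheaf _ _).map i).app _))
  have hinj := (AddCommGrpCat.mono_iff_injective (i.hom.app (op (⊤ : Opens Y)))).1 inferInstance
  have hq2 : q = Ext.comp ((Sheaf.H.equiv₀ T.X₂ isTerminalTop).symm j') (Ext.mk₀ T.g) (add_zero 0) := by
    apply (Sheaf.H.equiv₀ T.X₃ isTerminalTop).injective
    refine (hinj hj').trans ?_
    refine Eq.trans ?_ (Sheaf.H.equiv₀_naturality (isTerminalTop : IsTerminal (⊤ : Opens Y)) T.g _)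
    rw [AddEquiv.apply_symm_apply]
  rw [hq2]
  refine (Ext.comp_assoc_of_second_deg_zero _ _ _ _).trans ?_
  exact (congrArg (fun z => Ext.comp ((Sheaf.H.equiv₀ T.X₂ isTerminalTop).symm j') z (rfl : 0 + 1 = 0 + 1))
    hT.comp_extClass).trans (Ext.comp_zero _ _ _ _ rfl)

/-- `H¹(Y, f_* G) → H¹(X, G)` is injective, for modules. -/
theorem injective_pushEdge_one {X Y : Scheme.{u}} (f : X ⟶ Y) (G : X.Modules) :
    Function.Injective (CohPull.pushEdge f G 1) := by
  haveI := enoughInjMod X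
  have e : ⇑(CohPull.pushEdge f G 1) = ⇑(edgeAb f.base (sh G) 1) := funext (pushEdge_eq f G 1)
  rw [e]
  haveI : (shF X).PreservesZeroMorphisms := @Functor.preservesZeroMorphisms_of_additive _ _ _ _ _ _ _ (inferInstanceAs (SheafOfModules.toSheaf X.ringCatSheaf).Additive)
  exact injective_edgeAb_one f.base (sh G) ((injSeq G).map (shF X)) (shortExact_sh (injSeq_shortExact G)) rfl
    (@flasque_sh_of_injective _ _ (injSeq_injective G))

end Groth.Agent.H10Coh
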