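import Groth.Agent.H10Coh.HdirCoh
import Groth.Agent.H11Tilde.ModLoc

/-!
# Finite cohomology of `f_* M` from finite cohomology of `M` and of the higher direct images

The dimension shifting replaces the Leray spectral sequence.
-/

universe u

open CategoryTheory CategoryTheory.Limits AlgebraicGeometry Opposite TopologicalSpace Abelian

namespace Groth.Agent.H10Coh

attribute [local instance 10000] hasSheafifyAb hasWeakSheafifyAb hasExtAb enoughInjAb
attribute [local instance] enoughInjMod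

section space

/-- An additive map commuting with actions, as a linear map. -/
noncomputable def linOfComm {T₁ T₂ : TopCat.{u}} {A : Type u} [CommRing A] {F : CohTop.Ab T₁} {G : CohTop.Ab T₂}
    (σ : ActSh A F) (τ : ActSh A G) {p q : ℕ} {U : Opens T₁} {V : Opens T₂} (g : Hn F p U →+ Hn G q V)
    (h : ∀ a x, g (postH (σ.s a) p U x) = postH (τ.s a) q V (g x)) :
    letI := σ.mod p U
    letI := τ.mod q V
    Hn F p U →ₗ[A] Hn G q V :=
  letI := σ.mod p U
  letI := τ.mod q V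
  { toFun := g, map_add' := map_add g, map_smul' := h }

variable {T : TopCat.{u}} {A : Type u} [CommRing A]

/-- Drop the first `N` terms. -/
abbrev FRes.shiftN {X : TopCat.{u}} (R : FRes X) (N : ℕ) : FRes X where
  I n := R.I (N + n)
  Z n := R.Z (N + n)
  i n := R.i (N + n)
  p n := R.p (N + n)
  w n := R.w (N + n)
  se n := R.se (N + n)
  fl n := R.fl (N + n)

/-- A quotient of a module with a map to a finite module whose kernel dies. -/
theorem finite_of_factor [IsNoetherianRing A] {P Q H : Type*} [AddCommGroup P] [Module A P] [AddCommGroup Q]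
    [Module A Q] [Module.Finite A Q] [AddCommGroup H] [Module A H] (Φ : P →ₗ[A] Q) (δ : P →ₗ[A] H)
    (hδ : Function.Surjective δ) (hk : ∀ x, Φ x = 0 → δ x = 0) : Module.Finite A H := by
  haveI : IsNoetherian A Q := isNoetherian_of_isNoetherianRing_of_finite A Q
  haveI : Module.Finite A (LinearMap.range Φ) := Module.Finite.of_fg (IsNoetherian.noetherian _)
  haveI : Module.Finite A (P ⧸ LinearMap.ker Φ) := Module.Finite.equiv Φ.quotKerEquivRange.symm
  refine Module.Finite.of_surjective ((LinearMap.ker Φ).liftQ δ fun x hx => hk x hx) fun y => ?_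
  obtain ⟨x, rfl⟩ := hδ y
  exact ⟨Submodule.Quotient.mk x, rfl⟩

theorem ActSeq.fin₁_zero [IsNoetherianRing A] {S : ShortComplex (CohTop.Ab T)} (σ : ActSeq A S) (hS : S.ShortExact)
    {U : Opens T} (h₂ : σ.a₂.Fin 0 U) : σ.a₁.Fin 0 U := by
  letI := σ.a₁.mod 0 U
  letI := σ.a₂.mod 0 U
  haveI : Module.Finite A (Hn S.X₂ 0 U) := h₂
  have := hS.mono_f
  exact Module.Finite.of_injective (ActSh.map σ.comm₁₂ 0 U) (Ext.postcomp_mk₀_injective_of_mono (Zsh U) S.f)

theorem ActSeq.fin₁_one [IsNoetherianRing A] {S : ShortComplex (CohTop.Ab T)} (σ : ActSeq A S) (hS : S.ShortExact)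
    (U : Opens T) (h₂ : Subsingleton (Hn S.X₂ 1 U)) {Q : Type*} [AddCommGroup Q] [Module A Q] [Module.Finite A Q]
    (Φ : letI := σ.a₃.mod 0 U; Hn S.X₃ 0 U →ₗ[A] Q)
    (hker : ∀ x : Hn S.X₃ 0 U, Φ x = 0 → ∃ w : Hn S.X₂ 0 U, postH S.g 0 U w = x) :
    σ.a₁.Fin 1 U := by
  letI := σ.a₃.mod 0 U
  letI := σ.a₁.mod 1 U
  refine finite_of_factor Φ (σ.delta hS 0 U)
    (fun y => Ext.covariant_sequence_exact₁ _ hS y (Subsingleton.elim _ _) rfl) fun x hx => ?_
  obtain ⟨w, rfl⟩ := hker x hx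
  change (postH S.g 0 U w).comp hS.extClass rfl = 0
  rw [postH_apply, Ext.comp_assoc_of_second_deg_zero, hS.comp_extClass, Ext.comp_zero]

end space

section scheme

variable {X : Scheme.{u}} {A : Type u} [CommRing A] (φ : A →+* Γ(X, ⊤))

theorem finH_X₁_zero [IsNoetherianRing A] {S : ShortComplex X.Modules} (hS : S.ShortExact) {U : X.Opens}
    (h₂ : FinH φ S.X₂ 0 U) : FinH φ S.X₁ 0 U :=
  (actSeq φ S).fin₁_zero (shortExact_sh hS) h₂

end scheme

variable {X S : Scheme.{u}} (f : X ⟶ S) {A : Type u} [CommRing A] [IsNoetherianRing A] (ψ : A →+* Γ(S, ⊤))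

/-- `f_*` of the resolution, first half. -/
noncomputable abbrev pushSeq₁ (R : MRes X) (m : ℕ) : ShortComplex S.Modules :=
  ShortComplex.mk ((Coh.push f).map (R.i m)) (Abelian.factorThruImage ((Coh.push f).map (R.p m))) (by
    rw [← cancel_mono (Abelian.image.ι ((Coh.push f).map (R.p m))), Category.assoc, Abelian.image.fac,
      ← Functor.map_comp, R.w m, Functor.map_zero, zero_comp])

/-- `f_*` of the resolution, second half. -/
noncomputable abbrev pushSeq₂ (R : MRes X) (m : ℕ) : ShortComplex S.Modules :=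
  ShortComplex.mk (Abelian.image.ι ((Coh.push f).map (R.p m))) (cokernel.π ((Coh.push f).map (R.p m)))
    (kernel.condition _)

theorem shortExact_pushSeq₂ (R : MRes X) (m : ℕ) : (pushSeq₂ f R m).ShortExact where
  exact := ShortComplex.exact_of_f_is_kernel _ (kernelIsKernel _)
  mono_f := inferInstanceAs (Mono (Abelian.image.ι _))
  epi_g := inferInstanceAs (Epi (cokernel.π _))

theorem shortExact_pushSeq₁ (R : MRes X) (m : ℕ) : (pushSeq₁ f R m).ShortExact where
  exact := by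
    refine H11Tilde.exact_of_locally _ fun W t ht x hx => ⟨W, le_rfl, hx, ?_⟩
    have h1 : (R.p m).app (f ⁻¹ᵁ W) t = 0 := by
      have := congrArg ((Abelian.image.ι ((Coh.push f).map (R.p m))).app W) ht
      rw [map_zero] at this
      exact (congr($(congrArg (fun k => Scheme.Modules.Hom.app k W)
        (Abelian.image.fac ((Coh.push f).map (R.p m)))) t)).symm.trans this
    obtain ⟨c, hc⟩ := exists_mi_eq R m _ t h1
    exact ⟨c, hc.trans (mres_self ((Coh.push f).obj (R.I m)) le_rfl t).symm⟩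
  mono_f := H11Tilde.mono_of_injective _ fun W t ht x hx => by
    refine ⟨W, le_rfl, hx, ?_⟩
    haveI := (R.se m).mono_f
    have h0 : t = 0 := injective_app_of_mono' (R.i m) (f ⁻¹ᵁ W) (ht.trans (map_zero _).symm)
    rw [h0]
    exact map_zero _
  epi_g := inferInstanceAs (Epi (Abelian.factorThruImage _))

theorem subsingleton_push_I (R : MRes X) (m k : ℕ) (U : S.Opens) :
    Subsingleton (HnM ((Coh.push f).obj (R.I m)) (k + 1) U) :=
  subsingleton_of_flasque (flasque_push f.base (R.fl m)) k U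

theorem subsingleton_push_Z (R : MRes X) (N : ℕ)
    (hW : ∀ W : S.Opens, IsAffineOpen W → ∀ j, N < j → Subsingleton (HnM (R.Z 0) j (f ⁻¹ᵁ W)))
    (hX : ∀ j, N < j → Subsingleton (HnM (R.Z 0) j (⊤ : X.Opens))) (k : ℕ) :
    Subsingleton (HnM ((Coh.push f).obj (R.Z N)) (k + 1) (⊤ : S.Opens)) := by
  have hepi : ∀ n, Epi ((CohTop.push f.base).map ((R.toF.shiftN N).p n)) := fun n => by
    refine epi_of_locally_surjective _ fun V t x hx => ?_
    obtain ⟨W, hW', hxW, hWV⟩ := Opens.isBasis_iff_nbhd.1 (isBasis_affB S) hx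
    exact ⟨W, hWV, hxW, (R.toF.subsingleton_iff (N + n) _).1 (hW W hW' (N + n + 1) (by omega)) _⟩
  refine (((R.toF.shiftN N).push f.base hepi).subsingleton_iff k (⊤ : S.Opens)).2 ?_
  exact (R.toF.subsingleton_iff (N + k) (⊤ : X.Opens)).1 (hX (N + k + 1) (by omega))

/-- The class map on `H⁰(S, f_* Z_m)`. -/
noncomputable def pushClsAdd (R : MRes X) (m : ℕ) :
    HnM ((Coh.push f).obj (R.Z m)) 0 (⊤ : S.Opens) →+ HnM (R.Z 0) m (⊤ : X.Opens) :=
  (mcls R m (⊤ : X.Opens)).comp (H0Equiv (sh ((Coh.push f).obj (R.Z m))) (⊤ : S.Opens)).toAddMonoidHom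

theorem pushClsAdd_apply (R : MRes X) (m : ℕ) (x : HnM ((Coh.push f).obj (R.Z m)) 0 (⊤ : S.Opens)) :
    pushClsAdd f R m x = mcls R m (⊤ : X.Opens) (H0Equiv (sh ((Coh.push f).obj (R.Z m))) (⊤ : S.Opens) x) := rfl

theorem pushClsAdd_smul (R : MRes X) (m : ℕ) (a : A) (x : HnM ((Coh.push f).obj (R.Z m)) 0 (⊤ : S.Opens)) :
    pushClsAdd f R m (postH ((actM ψ ((Coh.push f).obj (R.Z m))).s a) 0 ⊤ x) =
      postH ((actM (f.appTop.hom.comp ψ) (R.Z 0)).s a) m ⊤ (pushClsAdd f R m x) := by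
  refine (congrArg (mcls R m (⊤ : X.Opens)) ((H0Equiv_map (smulSh ((Coh.push f).obj (R.Z m)) (ψ a)) x).trans
    ?_)).trans (smulH_mcls R m (⊤ : X.Opens) (f.appTop (ψ a)) _).symm
  exact congr(($(smulSh_push f (R.Z m) (ψ a))).hom.app (op (⊤ : S.Opens)) _)

theorem exists_push_lift (R : MRes X) (m : ℕ)
    (x : Hn (((pushSeq₁ f R m).map (shF S)).X₃) 0 (⊤ : S.Opens))
    (hx : mcls R (m + 1) (⊤ : X.Opens) (H0Equiv (sh ((Coh.push f).obj (R.Z (m + 1)))) (⊤ : S.Opens)
      (postH ((shF S).map (Abelian.image.ι ((Coh.push f).map (R.p m)))) 0 ⊤ x)) = 0) :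
    ∃ w : Hn (((pushSeq₁ f R m).map (shF S)).X₂) 0 (⊤ : S.Opens),
      postH ((pushSeq₁ f R m).map (shF S)).g 0 ⊤ w = x := by
  let φ := (Coh.push f).map (R.p m)
  obtain ⟨d, hd⟩ := (mcls_eq_zero_iff R (m + 1) _).1 hx
  refine ⟨(H0Equiv (sh ((Coh.push f).obj (R.I m))) (⊤ : S.Opens)).symm d, ?_⟩
  apply (H0Equiv (sh (Abelian.image φ)) (⊤ : S.Opens)).injective
  apply injective_app_of_mono' (Abelian.image.ι φ) (⊤ : S.Opens)

  refine Eq.trans ?_ (hd.trans (H0Equiv_map _ _))
  refine (congrArg ((Abelian.image.ι φ).app (⊤ : S.Opens))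
    ((H0Equiv_map (F := sh ((Coh.push f).obj (R.I m))) (G := sh (Abelian.image φ))
      ((shF S).map (Abelian.factorThruImage φ)) _).trans
      (congrArg ((Abelian.factorThruImage φ).app (⊤ : S.Opens))
        ((H0Equiv (sh ((Coh.push f).obj (R.I m))) (⊤ : S.Opens)).apply_symm_apply d)))).trans ?_
  exact congr($(congrArg (fun k : (Coh.push f).obj (R.I m) ⟶ (Coh.push f).obj (R.Z (m + 1)) =>
    Scheme.Modules.Hom.app k (⊤ : S.Opens)) (Abelian.image.fac φ)) d)

theorem finH_push_Z (R : MRes X) (N : ℕ)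
    (hW : ∀ W : S.Opens, IsAffineOpen W → ∀ j, N < j → Subsingleton (HnM (R.Z 0) j (f ⁻¹ᵁ W)))
    (hX : ∀ j, N < j → Subsingleton (HnM (R.Z 0) j (⊤ : X.Opens)))
    (hfin : ∀ j, FinH (f.appTop.hom.comp ψ) (R.Z 0) j (⊤ : X.Opens))
    (hR : ∀ n p, FinH ψ (hdir f R n) p (⊤ : S.Opens)) :
    ∀ d m, m + d = N → ∀ p, FinH ψ ((Coh.push f).obj (R.Z m)) (p + 1) (⊤ : S.Opens) := by
  intro d
  induction d with
  | zero =>
    intro m hm p
    obtain rfl : m = N := by omega
    exact finH_of_subsingleton ψ (subsingleton_push_Z f R m hW hX p)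
  | succ d ih =>
    intro m hm p
    have hB : ∀ q, FinH ψ (Abelian.image ((Coh.push f).map (R.p m))) (q + 1) (⊤ : S.Opens) := fun q =>
      finH_X₁_succ ψ (shortExact_pushSeq₂ f R m) (hR m q) (ih (m + 1) (by omega) q)
    cases p with
    | succ p =>
      exact finH_X₁_succ ψ (shortExact_pushSeq₁ f R m) (hB p)
        (finH_of_subsingleton ψ (subsingleton_push_I f R m (p + 1) ⊤))
    | zero =>
      letI := (actSeq ψ (pushSeq₁ f R m)).a₃.mod 0 (⊤ : S.Opens)
      letI := (actM ψ ((Coh.push f).obj (R.Z (m + 1)))).mod 0 (⊤ : S.Opens)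
      letI := (actM (f.appTop.hom.comp ψ) (R.Z 0)).mod (m + 1) (⊤ : X.Opens)
      haveI : Module.Finite A (HnM (R.Z 0) (m + 1) (⊤ : X.Opens)) := hfin (m + 1)
      refine (actSeq ψ (pushSeq₁ f R m)).fin₁_one (shortExact_sh (shortExact_pushSeq₁ f R m)) ⊤
        (subsingleton_push_I f R m 0 ⊤)
        ((linOfComm (actM ψ _) (actM (f.appTop.hom.comp ψ) (R.Z 0)) (pushClsAdd f R (m + 1))
          (pushClsAdd_smul f ψ R (m + 1))).comp (ActSh.map (actM_comm ψ (Abelian.image.ι ((Coh.push f).map (R.p m)))) 0 ⊤))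
        fun x hx => ?_
      exact exists_push_lift f R m x ((pushClsAdd_apply f R (m + 1) _).symm.trans hx)

/-- `f_* M` has finite cohomology if `M` does and the higher direct images do. -/
theorem finH_push (M : X.Modules) (N : ℕ)
    (hW : ∀ W : S.Opens, IsAffineOpen W → ∀ j, N < j → Subsingleton (HnM M j (f ⁻¹ᵁ W)))
    (hX : ∀ j, N < j → Subsingleton (HnM M j (⊤ : X.Opens)))
    (hfin : ∀ j, FinH (f.appTop.hom.comp ψ) M j (⊤ : X.Opens))
    (hR : ∀ n p, FinH ψ (hdir f (MRes.inj M) n) p (⊤ : S.Opens)) (p : ℕ) :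
    FinH ψ ((Coh.push f).obj M) p (⊤ : S.Opens) := by
  cases p with
  | succ p => exact finH_push_Z f ψ (MRes.inj M) N hW hX hfin hR N 0 (zero_add N) p
  | zero =>
    let σ := actM ψ ((Coh.push f).obj M)
    let τ := actM (f.appTop.hom.comp ψ) M
    letI := σ.mod 0 (⊤ : S.Opens)
    letI := τ.mod 0 (⊤ : X.Opens)
    haveI : Module.Finite A (HnM M 0 (⊤ : X.Opens)) := hfin 0
    exact Module.Finite.of_injective
      (linOfComm σ τ (pushClsAdd f (MRes.inj M) 0) (pushClsAdd_smul f ψ (MRes.inj M) 0)) fun x y h =>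
        (H0Equiv _ _).injective ((H0Equiv (sh M) (⊤ : X.Opens)).symm.injective h)

end Groth.Agent.H10Coh
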