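import Groth.Agent.H10Coh.ExtPowFree
import Groth.Agent.H22Alg.ExtPowTwist
import Groth.Agent.H11Ample.Twist

/-!
# Exterior powers in an extension of `O` by `E₁` with middle term `O^r ⊗ L`
-/

set_option autoImplicit false
set_option linter.style.haveILetI false
set_option backward.isDefEq.respectTransparency.types false

noncomputable section

universe u

open CategoryTheory CategoryTheory.Limits AlgebraicGeometry Opposite TopologicalSpace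
open Groth.Agent.H10Coh.ExtPowFree

namespace Groth.Agent.H10Coh.ExtPowEuler

variable {X : Scheme.{u}} {S₀ : ShortComplex X.Modules} (hS₀ : S₀.ShortExact)
  (e₀ : S₀.X₃ ≅ Coh.structureModule X) {r : ℕ} {L : X.Modules} (hL : PicF.IsInvertible L)
  (e₂ : S₀.X₂ ≅ CohB1.tensorMod (F X r) L) (h₁ : Coh.IsQCoh S₀.X₁)

include hS₀ e₀ hL e₂ h₁ in
theorem exists_seq (p : ℕ) {L₁ L₀ : X.Modules} (hL₁ : ExtPow.IsExtPow (p + 1) S₀.X₁ L₁)
    (hL₀ : ExtPow.IsExtPow p S₀.X₁ L₀) :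
    ∃ (M : X.Modules) (i : L₁ ⟶ CohB1.tensorMod M (CohB1.tensorPow L (p + 1)))
      (g : CohB1.tensorMod M (CohB1.tensorPow L (p + 1)) ⟶ L₀) (w : i ≫ g = 0),
      ExtPow.IsExtPow (p + 1) (F X r) M ∧ (ShortComplex.mk i g w).ShortExact := by
  have hF := isQCoh_F (X := X) r
  have hT : Coh.IsQCoh (CohB1.tensorMod (F X r) L) := H11Ample.isQCoh_tensor hF hL
  have w₀ : (S₀.f ≫ e₂.hom) ≫ (e₂.inv ≫ S₀.g ≫ e₀.hom) = 0 := by simp
  have hS : (ShortComplex.mk (S₀.f ≫ e₂.hom) (e₂.inv ≫ S₀.g ≫ e₀.hom) w₀).ShortExact :=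
    ShortComplex.shortExact_of_iso (S₁ := S₀) (ShortComplex.isoMk (Iso.refl _) e₂ e₀ (by simp) (by simp)) hS₀
  obtain ⟨M, hM⟩ := H22Alg.ExtPowSheaf.exists_isExtPow (p + 1) hF
  obtain ⟨C⟩ := H22Alg.Koszul.nonempty_cx (0 : S₀.X₁ ⟶ Coh.structureModule X) h₁
  obtain ⟨D⟩ := H22Alg.Koszul.nonempty_cx (e₂.inv ≫ S₀.g ≫ e₀.hom) hT
  obtain ⟨i, g, w, hS'⟩ := ExtPowSeq.exists_shortExact w₀ hS hT C D p
  obtain ⟨eD⟩ := H22Alg.ExtPowTwist.nonempty_iso hF hL hM (D.isExtPow (p + 1))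
  obtain ⟨e1⟩ := H22Alg.ExtPowHom.nonempty_iso (C.isExtPow (p + 1)) hL₁
  obtain ⟨e3⟩ := H22Alg.ExtPowHom.nonempty_iso (C.isExtPow p) hL₀
  exact ⟨M, e1.inv ≫ i ≫ eD.hom, eD.inv ≫ g ≫ e3.hom, by simp [reassoc_of% w], hM,
    ShortComplex.shortExact_of_iso (S₁ := ShortComplex.mk i g w) (ShortComplex.isoMk e1 eD e3 (by simp) (by simp)) hS'⟩

include hS₀ e₀ hL e₂ h₁ in
/-- Beyond the rank the exterior powers of `E₁` vanish. -/
theorem isZero_of_le {p : ℕ} (hp : r ≤ p) {L₀ : X.Modules} (hL₀ : ExtPow.IsExtPow p S₀.X₁ L₀) : IsZero L₀ := by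
  obtain ⟨L₁, hL₁⟩ := H22Alg.ExtPowSheaf.exists_isExtPow (p + 1) h₁
  obtain ⟨M, i, g, w, hM, hS⟩ := exists_seq hS₀ e₀ hL e₂ h₁ p hL₁ hL₀
  haveI := hS.epi_g
  exact IsZero.of_epi g (H22Alg.ESZ.isZero_tensor (ExtPowFree.isZero_of_lt r (p + 1) (by omega) hM) _)

end Groth.Agent.H10Coh.ExtPowEuler
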