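import Groth.Agent.H10Coh.ExtPowSeqAlg
import Groth.Agent.H22Alg.Koszul
import Groth.Agent.H22Alg.ExtPowHom
import Groth.Agent.H10Coh.QCohOps
import Groth.Agent.H10Coh.TwistExact
import Groth.Agent.H29Blow.Basic

/-!
# The short exact sequence of exterior powers of an extension of `O` by a quasi-coherent module
-/

set_option autoImplicit false
set_option linter.style.haveILetI false
set_option backward.isDefEq.respectTransparency.types false

noncomputable section

universe u

open CategoryTheory CategoryTheory.Limits AlgebraicGeometry Opposite TopologicalSpace exteriorPower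
open Groth.Agent.H17.KoszSh Groth.Agent.H22Alg.Koszul

namespace Groth.Agent.H10Coh.ExtPowSeq

variable {X : Scheme.{u}} {E₁ E₂ : X.Modules} {f : E₁ ⟶ E₂} {φ : E₂ ⟶ Coh.structureModule X} (w : f ≫ φ = 0)

theorem secForm_zero {E : X.Modules} (U : X.Opens) : KoszSh.secForm (0 : E ⟶ Coh.structureModule X) U = 0 :=
  LinearMap.ext fun _ => rfl

theorem exists_unit_affine (h₁ : Coh.IsQCoh E₂) [Epi φ] (U : X.affineOpens) :
    ∃ e : Γ(E₂, U.1), KoszSh.secForm φ U.1 e = 1 := by
  haveI : E₂.IsQuasicoherent := h₁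
  haveI : (Coh.structureModule X).IsQuasicoherent := H10Coh.isQuasicoherent_unit
  obtain ⟨e, he⟩ := surjective_app_of_epi φ U.2 (show Γ(Coh.structureModule X, U.1) from (1 : Γ(X, U.1)))
  exact ⟨e, he⟩

include w in
theorem secForm_app (U : X.Opens) (x : Γ(E₁, U)) : KoszSh.secForm φ U (appL f U x) = 0 := by
  show KoszSh.secForm φ U (f.app U x) = 0
  rw [secForm_comp f w U x, secForm_zero]
  rfl

variable (hS : (ShortComplex.mk f φ w).ShortExact) (h₂ : Coh.IsQCoh E₂)

include hS in
theorem injective_appL (U : X.Opens) : Function.Injective (appL f U) :=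
  haveI : Mono f := hS.mono_f
  injective_app_of_mono' f U

include hS in
theorem mem_range_appL (U : X.Opens) (x : Γ(E₂, U)) (hx : KoszSh.secForm φ U x = 0) :
    x ∈ LinearMap.range (appL f U) :=
  let ⟨a, ha⟩ := exists_app_eq_of_exact hS U x hx
  ⟨a, ha⟩

variable (C : KoszSh.Cx E₁ (0 : E₁ ⟶ Coh.structureModule X)) (D : KoszSh.Cx E₂ φ) (p : ℕ)

include hS h₂ in
theorem injective_locMap (U : X.affineOpens) : Function.Injective (locMap C D f p U) := by
  haveI : Epi φ := hS.epi_g
  obtain ⟨e, he⟩ := exists_unit_affine (φ := φ) h₂ U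
  exact ((D.loc p U).symm.injective.comp (ExtPowSeqAlg.map_injective_of_section (injective_appL w hS U.1)
    (mem_range_appL w hS U.1) (secForm_app w U.1) he p)).comp (C.loc p U).injective

include hS h₂ in
theorem exists_lift (U : X.affineOpens) (x : Γ(D.K.X (p + 1), U.1)) :
    ∃ c, locMap C D f p U c = (D.K.d (p + 1) p).app U.1 x := by
  haveI : Epi φ := hS.epi_g
  obtain ⟨e, he⟩ := exists_unit_affine (φ := φ) h₂ U
  obtain ⟨c, hc⟩ := ExtPowSeqAlg.exists_dL (mem_range_appL w hS U.1) (secForm_app w U.1) he p (D.loc (p + 1) U x)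
  refine ⟨(C.loc p U).symm c, (D.loc p U).injective (Subtype.ext ?_)⟩
  rw [loc_d, ← coe_dL, ← hc]
  simp [locMap]

include hS h₂ in
theorem exists_pre (U : X.affineOpens) (c : Γ(C.K.X p, U.1)) :
    ∃ x, (D.K.d (p + 1) p).app U.1 x = locMap C D f p U c := by
  haveI : Epi φ := hS.epi_g
  obtain ⟨e, he⟩ := exists_unit_affine (φ := φ) h₂ U
  obtain ⟨x, hx⟩ := ExtPowSeqAlg.exists_of_map (secForm_app w U.1) he p (C.loc p U c)
  refine ⟨(D.loc (p + 1) U).symm x, (D.loc p U).injective (Subtype.ext ?_)⟩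
  rw [loc_d, LinearEquiv.apply_symm_apply, ← coe_dL, hx]
  simp [locMap]

include hS h₂ in
theorem exists_ker (U : X.affineOpens) (x : Γ(D.K.X (p + 1), U.1)) (hx : (D.K.d (p + 1) p).app U.1 x = 0) :
    ∃ a, locMap C D f (p + 1) U a = x := by
  haveI : Epi φ := hS.epi_g
  obtain ⟨e, he⟩ := exists_unit_affine (φ := φ) h₂ U
  obtain ⟨a, ha⟩ := ExtPowSeqAlg.exists_of_dL_eq_zero (mem_range_appL w hS U.1) (secForm_app w U.1) he p
    (D.loc (p + 1) U x) (Subtype.ext (by rw [coe_dL, ← loc_d, hx, map_zero]))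
  refine ⟨(C.loc (p + 1) U).symm a, (D.loc (p + 1) U).injective ?_⟩
  rw [← ha]
  simp [locMap]

/-- Affine opens inside any neighbourhood. -/
theorem exists_affine_nhd (W : X.Opens) (x : X) (hx : x ∈ W) : ∃ V : X.affineOpens, V.1 ≤ W ∧ x ∈ V.1 := by
  obtain ⟨V, hV, hxV, hle⟩ := exists_isAffineOpen_mem_and_subset (x := x) (U := W) hx
  exact ⟨⟨V, hV⟩, hle, hxV⟩

include w hS h₂ in
/-- `0 → ⋀^{p+1} E₁ → ⋀^{p+1} E₂ → ⋀^p E₁ → 0`. -/
theorem exists_shortExact :
    ∃ (i : C.K.X (p + 1) ⟶ D.K.X (p + 1)) (g : D.K.X (p + 1) ⟶ C.K.X p) (h : i ≫ g = 0),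
      (ShortComplex.mk i g h).ShortExact := by
  obtain ⟨j, hj⟩ := H17.AffHom.exists_hom (M := C.K.X (p + 1)) (N := D.K.X (p + 1)) (fun U => locMap C D f (p + 1) U)
    (fun U V h x => by
      obtain ⟨φ', hφ'⟩ := exists_termHom C D f (p + 1)
      have e : ∀ (W : X.affineOpens) y, φ'.app W.1 y = locMap C D f (p + 1) W y := fun W y => by
        induction y using term_induction C (p + 1) W with
        | hgen e => rw [hφ', locMap_gen]
        | h0 => simp
        | hadd a b ha hb => simp only [map_add, ha, hb]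
        | hsmul r a ha => simp only [Scheme.Modules.Hom.app_smul, map_smul, ha]
      rw [← e, ← e]
      exact H11Tilde.app_map_apply φ' h x)
  obtain ⟨k, hk⟩ := exists_termHom C D f p
  have hk' : ∀ (W : X.affineOpens) y, k.app W.1 y = locMap C D f p W y := fun W y => by
    induction y using term_induction C p W with
    | hgen e => rw [hk, locMap_gen]
    | h0 => simp
    | hadd a b ha hb => simp only [map_add, ha, hb]
    | hsmul r a ha => simp only [Scheme.Modules.Hom.app_smul, map_smul, ha]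
  choose gfun hgfun using fun U => exists_lift w hS h₂ C D p U
  obtain ⟨g, hg⟩ := H17.AffHom.exists_hom (M := D.K.X (p + 1)) (N := C.K.X p)
    (fun U => { toFun := gfun U
                map_add' := fun a b => injective_locMap w hS h₂ C D p U (by
                  rw [hgfun, map_add, map_add, hgfun, hgfun])
                map_smul' := fun r a => injective_locMap w hS h₂ C D p U (by
                  rw [hgfun, RingHom.id_apply, Scheme.Modules.Hom.app_smul, ← hgfun]; exact ((locMap C D f p U).map_smul r _).symm) })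
    (fun U V h x => injective_locMap w hS h₂ C D p V (by
      show locMap C D f p V (gfun V _) = locMap C D f p V _
      rw [hgfun, ← hk']
      refine Eq.trans ?_ (H11Tilde.app_map_apply k h _).symm
      rw [hk']
      show (D.K.d (p + 1) p).app V.1 _ = (D.K.X p).presheaf.map _ (locMap C D f p U (gfun U x))
      rw [hgfun]
      exact H11Tilde.app_map_apply _ h x))
  have hg' : ∀ (U : X.affineOpens) x, locMap C D f p U (g.app U.1 x) = (D.K.d (p + 1) p).app U.1 x := fun U x => by
    rw [hg]; exact hgfun U x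
  have hjg : j ≫ g = 0 := H17.AffHom.hom_ext fun U a => injective_locMap w hS h₂ C D p U (by
    show locMap C D f p U (g.app U.1 (j.app U.1 a)) = locMap C D f p U 0
    rw [hg', hj, map_zero]
    refine (D.loc p U).injective (Subtype.ext ?_)
    rw [loc_d, map_zero]
    simp only [locMap, LinearMap.comp_apply, LinearEquiv.coe_toLinearMap, LinearEquiv.apply_symm_apply]
    exact ExtPowSeqAlg.contract_map (secForm_app w U.1) _ _)
  refine ⟨j, g, hjg, { exact := H11Tilde.exact_of_locally _ fun W t ht x hx => ?_, mono_f := ?_, epi_g := ?_ }⟩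
  · obtain ⟨V, hVW, hxV⟩ := exists_affine_nhd W x hx
    let t' := (D.K.X (p + 1)).presheaf.map (homOfLE hVW).op t
    have ht' : g.app V.1 t' = 0 :=
      (H11Tilde.app_map_apply g hVW t).trans ((congrArg _ ht).trans (map_zero _))
    obtain ⟨a, ha⟩ := exists_ker w hS h₂ C D p V t' (by rw [← hg', ht', map_zero])
    exact ⟨V.1, hVW, hxV, a, (hj V a).trans ha⟩
  · refine H11Tilde.mono_of_injective _ fun W t ht x hx => ?_
    obtain ⟨V, hVW, hxV⟩ := exists_affine_nhd W x hx
    refine ⟨V.1, hVW, hxV, injective_locMap w hS h₂ C D (p + 1) V ?_⟩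
    rw [map_zero, ← hj]
    exact (H11Tilde.app_map_apply j hVW t).trans ((congrArg _ ht).trans (map_zero _))
  · refine H11Tilde.epi_of_locally_surjective _ fun W t x hx => ?_
    obtain ⟨V, hVW, hxV⟩ := exists_affine_nhd W x hx
    obtain ⟨a, ha⟩ := exists_pre w hS h₂ C D p V ((C.K.X p).presheaf.map (homOfLE hVW).op t)
    exact ⟨V.1, hVW, hxV, a, injective_locMap w hS h₂ C D p V (by rw [hg', ha])⟩

end Groth.Agent.H10Coh.ExtPowSeq
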