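import Groth.Agent.H17.KoszSh.Exact
import Groth.Agent.H22Alg.Koszul
import Mathlib

/-!
# `0 → ⋀^{p+1} ker φ → ⋀^{p+1} M → ⋀^p ker φ → 0` for a linear form with a value `1`
-/

set_option autoImplicit false

universe u v w

noncomputable section

namespace Groth.Agent.H10Coh.ExtPowSeqAlg

open Groth.Agent.H17.KoszSh Groth.Agent.H22Alg.Koszul exteriorPower

variable {R : Type u} [CommRing R] {M : Type v} [AddCommGroup M] [Module R M]
  {N : Type w} [AddCommGroup N] [Module R N]

theorem coe_map (f : N →ₗ[R] M) (p : ℕ) (x : ↥(⋀[R]^p N)) :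
    (exteriorPower.map p f x : ExteriorAlgebra R M) = ExteriorAlgebra.map f x := by
  have hx : x ∈ Submodule.span R (Set.range (ιMulti R p (M := N))) := by
    rw [ιMulti_span]; trivial
  induction hx using Submodule.span_induction with
  | mem y hy =>
    obtain ⟨e, rfl⟩ := hy
    rw [exteriorPower.map_apply_ιMulti, ιMulti_apply_coe, ιMulti_apply_coe, ExteriorAlgebra.map_apply_ιMulti]
  | zero => simp
  | add a b _ _ ha hb => simp only [map_add, Submodule.coe_add, ha, hb]
  | smul r a _ ha => simp only [map_smul, Submodule.coe_smul, ha]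

/-- The degree `p` part generated by the range is the range. -/
theorem exists_of_mem_deg (f : N →ₗ[R] M) : ∀ {p : ℕ} {x : ExteriorAlgebra R M},
    x ∈ deg (LinearMap.range f) p → ∃ z : ↥(⋀[R]^p N), (exteriorPower.map p f z : ExteriorAlgebra R M) = x := by
  intro p
  induction p with
  | zero =>
    intro x hx
    obtain ⟨r, rfl⟩ := mem_deg_zero_iff.1 hx
    refine ⟨⟨algebraMap R _ r, (deg_top (R := R) (M := N) 0) ▸ mem_deg_zero_iff.2 ⟨r, rfl⟩⟩, ?_⟩
    rw [coe_map]
    exact AlgHom.commutes _ r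
  | succ p ih =>
    intro x hx
    refine deg_succ_induction ?_ ?_ hx
    · rintro _ ⟨n, rfl⟩ y hy
      obtain ⟨z, rfl⟩ := ih hy
      refine ⟨⟨ExteriorAlgebra.ι R n * (z : ExteriorAlgebra R N), (deg_top (R := R) (M := N) (p + 1)) ▸
        ι_mul_mem_deg (W := ⊤) trivial ((deg_top (R := R) (M := N) p).symm ▸ z.2)⟩, ?_⟩
      rw [coe_map, coe_map, map_mul, ExteriorAlgebra.map_apply_ι]
    · rintro _ _ ⟨a, rfl⟩ ⟨b, rfl⟩
      exact ⟨a + b, by rw [map_add]; rfl⟩

theorem map_mem_deg (f : N →ₗ[R] M) (p : ℕ) (x : ↥(⋀[R]^p N)) :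
    (exteriorPower.map p f x : ExteriorAlgebra R M) ∈ deg (LinearMap.range f) p := by
  have hx : (x : ExteriorAlgebra R N) ∈ deg (⊤ : Submodule R N) p := (deg_top (R := R) (M := N) p).symm ▸ x.2
  rw [coe_map]
  suffices key : ∀ {p : ℕ} {y : ExteriorAlgebra R N}, y ∈ deg (⊤ : Submodule R N) p →
      ExteriorAlgebra.map f y ∈ deg (LinearMap.range f) p from key hx
  intro p y hy
  induction p generalizing y with
  | zero =>
    obtain ⟨r, rfl⟩ := mem_deg_zero_iff.1 hy
    exact mem_deg_zero_iff.2 ⟨r, (AlgHom.commutes _ r).symm⟩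
  | succ p ih =>
    refine deg_succ_induction ?_ ?_ hy
    · intro w _ z hz
      rw [map_mul, ExteriorAlgebra.map_apply_ι]
      exact ι_mul_mem_deg (W := LinearMap.range f) (LinearMap.mem_range_self f w) (ih hz)
    · intro a b ha hb
      rw [map_add]; exact add_mem ha hb

variable {f : N →ₗ[R] M} {φ : M →ₗ[R] R} {e : M}

theorem map_injective_of_section (hf : Function.Injective f) (hk : ∀ x, φ x = 0 → x ∈ LinearMap.range f)
    (hfφ : ∀ n, φ (f n) = 0) (he : φ e = 1) (p : ℕ) : Function.Injective (exteriorPower.map p f) := by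
  let W := LinearMap.range f
  let r₀ : M →ₗ[R] ↥W := (LinearMap.id - φ.smulRight e).codRestrict W fun x => hk _ (by
    simp [map_sub, map_smul, he])
  let r : M →ₗ[R] N := (LinearEquiv.ofInjective f hf).symm.toLinearMap ∘ₗ r₀
  refine exteriorPower.map_injective (n := p) (f := f) r (LinearMap.ext fun n => ?_)
  show (LinearEquiv.ofInjective f hf).symm (r₀ (f n)) = n
  rw [LinearEquiv.symm_apply_eq]
  exact Subtype.ext (by simp [r₀, hfφ n])

theorem contract_map (hfφ : ∀ n, φ (f n) = 0) (p : ℕ) (z : ↥(⋀[R]^p N)) :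
    contract φ (exteriorPower.map p f z : ExteriorAlgebra R M) = 0 :=
  contract_eq_zero φ (by rintro _ ⟨n, rfl⟩; exact hfφ n) (map_mem_deg f p z)

theorem exists_decomp' (hk : ∀ x, φ x = 0 → x ∈ LinearMap.range f) (he : φ e = 1) (p : ℕ)
    (x : ↥(⋀[R]^(p + 1) M)) :
    ∃ (a : ↥(⋀[R]^(p + 1) N)) (c : ↥(⋀[R]^p N)), (x : ExteriorAlgebra R M) =
      (exteriorPower.map (p + 1) f a : ExteriorAlgebra R M) +
        ExteriorAlgebra.ι R e * (exteriorPower.map p f c : ExteriorAlgebra R M) := by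
  have htop : (⊤ : Submodule R M) ≤ LinearMap.range f ⊔ Submodule.span R {e} := fun m _ => by
    refine Submodule.mem_sup.2 ⟨m - φ m • e, hk _ (by simp [map_sub, map_smul, he]), φ m • e,
      Submodule.smul_mem _ _ (Submodule.mem_span_singleton_self e), sub_add_cancel _ _⟩
  have hx : (x : ExteriorAlgebra R M) ∈ deg (LinearMap.range f ⊔ Submodule.span R {e}) (p + 1) := by
    rw [top_unique htop, deg_top]; exact x.2
  obtain ⟨a, ha, c, hc, hx'⟩ := exists_decomp _ e hx
  obtain ⟨a', rfl⟩ := exists_of_mem_deg f ha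
  obtain ⟨c', rfl⟩ := exists_of_mem_deg f hc
  exact ⟨a', c', hx'⟩

theorem contract_decomp (hfφ : ∀ n, φ (f n) = 0) (he : φ e = 1) (p : ℕ) (a : ↥(⋀[R]^(p + 1) N))
    (c : ↥(⋀[R]^p N)) : contract φ ((exteriorPower.map (p + 1) f a : ExteriorAlgebra R M) +
        ExteriorAlgebra.ι R e * (exteriorPower.map p f c : ExteriorAlgebra R M)) =
      (exteriorPower.map p f c : ExteriorAlgebra R M) := by
  rw [map_add, contract_map hfφ, zero_add, contract_ι_mul, he, one_smul, contract_map hfφ, mul_zero, sub_zero]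

/-- The contraction lands in `⋀^p` of the kernel. -/
theorem exists_dL (hk : ∀ x, φ x = 0 → x ∈ LinearMap.range f) (hfφ : ∀ n, φ (f n) = 0) (he : φ e = 1)
    (p : ℕ) (x : ↥(⋀[R]^(p + 1) M)) : ∃ c : ↥(⋀[R]^p N), exteriorPower.map p f c = dL φ p x := by
  obtain ⟨a, c, hx⟩ := exists_decomp' hk he p x
  exact ⟨c, Subtype.ext (by rw [coe_dL, hx, contract_decomp hfφ he])⟩

/-- Everything in `⋀^p` of the kernel is a contraction. -/
theorem exists_of_map (hfφ : ∀ n, φ (f n) = 0) (he : φ e = 1) (p : ℕ) (c : ↥(⋀[R]^p N)) :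
    ∃ x, dL φ p x = exteriorPower.map p f c :=
  exists_preimage he p _ (contract_map hfφ p c)

/-- What contracts to zero comes from the kernel. -/
theorem exists_of_dL_eq_zero (hk : ∀ x, φ x = 0 → x ∈ LinearMap.range f) (hfφ : ∀ n, φ (f n) = 0) (he : φ e = 1)
    (p : ℕ) (x : ↥(⋀[R]^(p + 1) M)) (h : dL φ p x = 0) :
    ∃ a : ↥(⋀[R]^(p + 1) N), exteriorPower.map (p + 1) f a = x := by
  obtain ⟨a, c, hx⟩ := exists_decomp' hk he p x
  have h0 : (exteriorPower.map p f c : ExteriorAlgebra R M) = 0 := by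
    rw [← contract_decomp hfφ he p a c, ← hx, ← coe_dL, h]; rfl
  exact ⟨a, Subtype.ext (by rw [hx, h0, mul_zero, add_zero])⟩

end Groth.Agent.H10Coh.ExtPowSeqAlg
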