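import Groth.Agent.H10Coh.SheafH

/-!
# Flasque resolutions as chains of short exact sequences, and the classes of their cocycles
-/

universe u

open CategoryTheory CategoryTheory.Limits Opposite TopologicalSpace Abelian

namespace Groth.Agent.H10Coh

attribute [local instance 10000] hasSheafifyAb hasWeakSheafifyAb hasExtAb enoughInjAb

variable {X : TopCat.{u}}

/-- A flasque resolution of `Z 0`, cut into short exact sequences `Z n ⟶ I n ⟶ Z (n+1)`. -/
structure FRes (X : TopCat.{u}) where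
  I : ℕ → CohTop.Ab X
  Z : ℕ → CohTop.Ab X
  i : ∀ n, Z n ⟶ I n
  p : ∀ n, I n ⟶ Z (n + 1)
  w : ∀ n, i n ≫ p n = 0
  se : ∀ n, (ShortComplex.mk (i n) (p n) (w n)).ShortExact
  fl : ∀ n, Flasque (I n)

namespace FRes

/-- Drop the first term. -/
abbrev shift (R : FRes X) : FRes X where
  I n := R.I (n + 1)
  Z n := R.Z (n + 1)
  i n := R.i (n + 1)
  p n := R.p (n + 1)
  w n := R.w (n + 1)
  se n := R.se (n + 1)
  fl n := R.fl (n + 1)

/-- The connecting map `H^n(U, Z 1) ⟶ H^{n+1}(U, Z 0)`. -/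
noncomputable def delta (R : FRes X) (n : ℕ) (U : Opens X) :
    Hn (R.Z 1) n U →+ Hn (R.Z 0) (n + 1) U :=
  (R.se 0).extClass.postcomp (Zsh U) rfl

theorem delta_apply (R : FRes X) (n : ℕ) (U : Opens X) (x : Hn (R.Z 1) n U) :
    R.delta n U x = x.comp (R.se 0).extClass rfl := rfl

theorem delta_surjective (R : FRes X) (n : ℕ) (U : Opens X) : Function.Surjective (R.delta n U) := by
  intro x
  have := subsingleton_of_flasque (R.fl 0) n U
  exact exists_extClass_lift (R.se 0) x

/-- Exactness of `I 0 (U) ⟶ Z 1 (U) ⟶ H^1(U, Z 0)`. -/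
theorem delta_eq_zero_iff (R : FRes X) (U : Opens X) (z : (R.Z 1).obj.obj (op U)) :
    R.delta 0 U ((H0Equiv (R.Z 1) U).symm z) = 0 ↔ ∃ w, (R.p 0).hom.app (op U) w = z := by
  rw [delta_apply]
  constructor
  · intro h
    obtain ⟨j, hj⟩ := Ext.covariant_sequence_exact₃ _ (R.se 0) _ rfl h
    refine ⟨H0Equiv (R.I 0) U j, ?_⟩
    rw [← H0Equiv_map, hj, AddEquiv.apply_symm_apply]
  · rintro ⟨w, rfl⟩
    rw [show (H0Equiv (R.Z 1) U).symm ((R.p 0).hom.app (op U) w) =
        ((H0Equiv (R.I 0) U).symm w).comp (Ext.mk₀ (R.p 0)) (add_zero 0) by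
      rw [AddEquiv.symm_apply_eq, H0Equiv_map, AddEquiv.apply_symm_apply]]
    rw [Ext.comp_assoc_of_second_deg_zero, ShortComplex.ShortExact.comp_extClass (R.se 0), Ext.comp_zero]

theorem delta_injective (R : FRes X) (n : ℕ) (U : Opens X) :
    Function.Injective (R.delta (n + 1) U) := by
  rw [injective_iff_map_eq_zero]
  intro x hx
  have := subsingleton_of_flasque (R.fl 0) n U
  exact comp_extClass_injective (R.se 0) hx

/-- The class in `H^n(U, Z 0)` of an `n`-cocycle. -/
noncomputable def cls : (n : ℕ) → (R : FRes X) → (U : Opens X) →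
    (R.Z n).obj.obj (op U) →+ Hn (R.Z 0) n U
  | 0, R, U => (H0Equiv (R.Z 0) U).symm.toAddMonoidHom
  | n + 1, R, U => (R.delta n U).comp (cls n R.shift U)

theorem cls_succ (n : ℕ) (R : FRes X) (U : Opens X) (z : (R.Z (n + 1)).obj.obj (op U)) :
    cls (n + 1) R U z = R.delta n U (cls n R.shift U z) := rfl

theorem cls_surjective (n : ℕ) : ∀ (R : FRes X) (U : Opens X), Function.Surjective (cls n R U) := by
  induction n with
  | zero => exact fun R U => (H0Equiv (R.Z 0) U).symm.surjective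
  | succ n ih => exact fun R U => (R.delta_surjective n U).comp (ih R.shift U)

theorem cls_eq_zero_iff (n : ℕ) : ∀ (R : FRes X) (U : Opens X) (z : (R.Z (n + 1)).obj.obj (op U)),
    cls (n + 1) R U z = 0 ↔ ∃ w, (R.p n).hom.app (op U) w = z := by
  induction n with
  | zero => exact fun R U z => R.delta_eq_zero_iff U z
  | succ n ih =>
    intro R U z
    exact (map_eq_zero_iff _ (R.delta_injective n U)).trans (ih R.shift U z)

theorem cls_res (n : ℕ) : ∀ (R : FRes X) {U V : Opens X} (h : V ≤ U) (z : (R.Z n).obj.obj (op U)),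
    cls n R V ((R.Z n).obj.map (homOfLE h).op z) = resH (R.Z 0) n h (cls n R U z) := by
  induction n with
  | zero =>
    intro R U V h z
    apply (H0Equiv (R.Z 0) V).injective
    exact ((H0Equiv (R.Z 0) V).apply_symm_apply _).trans
      ((congrArg _ ((H0Equiv (R.Z 0) U).apply_symm_apply z).symm).trans (H0Equiv_res h _).symm)
  | succ n ih =>
    intro R U V h z
    exact (congrArg (R.delta n V) (ih R.shift h z)).trans
      (resH_comp h (cls n R.shift U z) (R.se 0).extClass rfl).symm

/-- A morphism of flasque resolutions. -/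
structure Hom (R S : FRes X) where
  f : ∀ n, R.Z n ⟶ S.Z n
  g : ∀ n, R.I n ⟶ S.I n
  comm₁ : ∀ n, f n ≫ S.i n = R.i n ≫ g n
  comm₂ : ∀ n, g n ≫ S.p n = R.p n ≫ f (n + 1)

/-- Drop the first term. -/
def Hom.shift {R S : FRes X} (φ : Hom R S) : Hom R.shift S.shift where
  f n := φ.f (n + 1)
  g n := φ.g (n + 1)
  comm₁ n := φ.comm₁ (n + 1)
  comm₂ n := φ.comm₂ (n + 1)

theorem cls_map (n : ℕ) : ∀ {R S : FRes X} (φ : Hom R S) (U : Opens X) (z : (R.Z n).obj.obj (op U)),
    cls n S U ((φ.f n).hom.app (op U) z) =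
      (cls n R U z).comp (Ext.mk₀ (φ.f 0)) (add_zero n) := by
  induction n with
  | zero =>
    intro R S φ U z
    apply (H0Equiv (S.Z 0) U).injective
    exact ((H0Equiv (S.Z 0) U).apply_symm_apply _).trans
      ((congrArg _ ((H0Equiv (R.Z 0) U).apply_symm_apply z).symm).trans (H0Equiv_map _ _).symm)
  | succ n ih =>
    intro R S φ U z
    change (cls n S.shift U ((φ.shift.f n).hom.app (op U) z)).comp (S.se 0).extClass rfl =
      ((cls n R.shift U z).comp (R.se 0).extClass rfl).comp (Ext.mk₀ (φ.f 0)) (add_zero (n + 1))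
    refine (congrArg (fun x => Ext.comp x (S.se 0).extClass rfl) (ih φ.shift U z)).trans ?_
    have h := ShortComplex.ShortExact.extClass_naturality (R.se 0) (S.se 0)
      { τ₁ := φ.f 0, τ₂ := φ.g 0, τ₃ := φ.f 1, comm₁₂ := φ.comm₁ 0, comm₂₃ := φ.comm₂ 0 }
    exact (Ext.comp_assoc _ _ _ (add_zero n) (zero_add 1) (by omega)).trans
      ((congrArg (fun e => (cls n R.shift U z).comp e rfl) h.symm).trans
        (Ext.comp_assoc _ _ _ rfl (add_zero 1) (by omega)).symm)

theorem zero_i_p (R : FRes X) (n : ℕ) (U : Opens X) (c : (R.Z n).obj.obj (op U)) :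
    (R.p n).hom.app (op U) ((R.i n).hom.app (op U) c) = 0 := by
  exact congr($(R.w n).hom.app (op U) c)

theorem exists_i_eq (R : FRes X) (n : ℕ) (U : Opens X) (w : (R.I n).obj.obj (op U))
    (hw : (R.p n).hom.app (op U) w = 0) : ∃ c, (R.i n).hom.app (op U) c = w := by
  have := (R.se n).mono_f
  let φ : Zsh U ⟶ R.I n := (sect U (R.I n)).symm w
  have hφ : φ ≫ R.p n = 0 := by
    refine (sect U (R.Z (n + 1))).injective ?_
    rw [sect_comp, map_zero, AddEquiv.apply_symm_apply, hw]
  refine ⟨sect U (R.Z n) ((R.se n).exact.lift φ hφ), ?_⟩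
  exact (sect_comp ((R.se n).exact.lift φ hφ) (R.i n)).symm.trans
    ((congrArg (sect U (R.I n)) ((R.se n).exact.lift_f φ hφ)).trans ((sect U (R.I n)).apply_symm_apply w))

/-- A sheaf vanishes in degree `n + 1` on `U` iff every cocycle is a coboundary. -/
theorem subsingleton_iff (R : FRes X) (n : ℕ) (U : Opens X) :
    Subsingleton (Hn (R.Z 0) (n + 1) U) ↔ Function.Surjective ((R.p n).hom.app (op U)) := by
  constructor
  · intro h z
    exact (cls_eq_zero_iff n R U z).1 (Subsingleton.elim _ _)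
  · intro h
    refine subsingleton_of_forall_eq 0 fun x => ?_
    obtain ⟨z, rfl⟩ := cls_surjective (n + 1) R U x
    exact (cls_eq_zero_iff n R U z).2 (h z)

/-- Cohomology as a quotient of cocycles. -/
noncomputable def quotEquiv (R : FRes X) (n : ℕ) (U : Opens X) :
    ((R.Z (n + 1)).obj.obj (op U)) ⧸ ((R.p n).hom.app (op U)).hom.range ≃+ Hn (R.Z 0) (n + 1) U :=
  (QuotientAddGroup.quotientAddEquivOfEq (by
    ext z
    rw [AddMonoidHom.mem_ker, cls_eq_zero_iff]
    exact AddMonoidHom.mem_range.symm)).symm.trans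
    (QuotientAddGroup.quotientKerEquivOfSurjective (cls (n + 1) R U) (cls_surjective _ R U))

end FRes

/-- The chosen injective resolution of an abelian sheaf. -/
noncomputable def FRes.inj (F : CohTop.Ab X) : FRes X :=
  let Z : ℕ → CohTop.Ab X := fun n => Nat.rec F (fun _ G => (injSeq G).X₃) n
  { I := fun n => (injSeq (Z n)).X₂
    Z := Z
    i := fun n => (injSeq (Z n)).f
    p := fun n => (injSeq (Z n)).g
    w := fun n => (injSeq (Z n)).zero
    se := fun n => injSeq_shortExact (Z n)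
    fl := fun n => @flasque_of_injective _ (injSeq (Z n)).X₂ (injSeq_injective (Z n)) }

@[simp]
theorem FRes.inj_Z_zero (F : CohTop.Ab X) : (FRes.inj F).Z 0 = F := rfl

end Groth.Agent.H10Coh
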