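import Groth.Agent.H22Alg.CMField
import Groth.Agent.H11Ample.UnitIso
import Groth.Agent.H14QCoh.LocFree
import Groth.Agent.H10Coh.Proper2
import Groth.Agent.H10Coh.Serre
import Groth.Agent.LeadBC.Gamma
import Groth.Agent.H28Pinch.DirectImageTrivial
import Groth.Agent.H16Derived.KFlat.SheafTensor

/-!
# Surjectivity of multiplication of sections from vanishing for the kernel of evaluation
-/

set_option autoImplicit false
set_option linter.style.haveILetI false
set_option linter.unusedSectionVars false
set_option backward.isDefEq.respectTransparency.types false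

universe u

open CategoryTheory CategoryTheory.Limits AlgebraicGeometry Opposite TopologicalSpace MonoidalCategory
open Groth.Agent Groth.Agent.H11Ample Groth.Agent.H22Alg.CMField

attribute [local instance 10000] Groth.Agent.H10Coh.hasSheafifyAb Groth.Agent.H10Coh.hasWeakSheafifyAb Groth.Agent.H10Coh.hasExtAb Groth.Agent.H10Coh.enoughInjAb

noncomputable section

namespace Groth.Agent.H10Coh.MulSections

variable {X : Scheme.{u}}

theorem comm_tm (A B : X.Modules) (U : X.Opens) (a : Γ(A, U)) (b : Γ(B, U)) :
    (tensorCommIso A B).hom.app U (tm a b) = tm b a := by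
  have h := (PresheafOfModules.sheafificationAdjunction (𝟙 X.ringCatSheaf.obj)).unit.naturality
    (show (CohB1.tensorPre A B : X.PresheafOfModules) ⟶ (CohB1.tensorPre B A : X.PresheafOfModules) from
      (β_ (CohB1.toPMod A) (CohB1.toPMod B)).hom)
  exact (ConcreteCategory.congr_hom (congrArg (fun w => PresheafOfModules.Hom.app w (op U)) h)
    ((show (CohB1.toPMod A).obj (op U) from a) ⊗ₜ (show (CohB1.toPMod B).obj (op U) from b))).symm

theorem spanned_comm {A B : X.Modules} (h : Spanned A B) : Spanned B A :=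
  h.mono (tensorCommIso A B).hom (fun S => ⟨_, hom_inv_apply _ _ S⟩) fun a b =>
    AddSubgroup.subset_closure ⟨b, a, (comm_tm A B ⊤ a b).symm⟩

/-- Products span the sections of a tensor product with a finite free module. -/
theorem spanned_free (N : X.Modules) (J : Type u) [Finite J] : Spanned N (H10Coh.freeMod X J) := by
  classical
  haveI := Fintype.ofFinite J
  choose p hp using fun j : J =>
    H10Coh.exists_free_desc (X := X) (N := Coh.structureModule X) fun i : J => if i = j then 𝟙 _ else 0
  have hid : ∑ j, p j ≫ H10Coh.freeIncl J j = 𝟙 (H10Coh.freeMod X J) := by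
    refine Cofan.IsColimit.hom_ext (SheafOfModules.isColimitFreeCofan (R := X.ringCatSheaf) J) _ _ fun i => ?_
    show H10Coh.freeIncl J i ≫ _ = H10Coh.freeIncl J i ≫ _
    rw [Category.comp_id, Preadditive.comp_sum, Finset.sum_eq_single i]
    · rw [← Category.assoc, hp, if_pos rfl, Category.id_comp]
    · intro j _ hj
      rw [← Category.assoc, hp, if_neg fun h => hj h.symm, Limits.zero_comp]
    · simp
  intro S
  have hS : S = ∑ j, (H22Alg.KosTwist.tensorLeftMap N (H10Coh.freeIncl J j)).app ⊤
      ((H22Alg.KosTwist.tensorLeftMap N (p j)).app ⊤ S) := by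
    let T := (DCoh.tensorBi (X := X)).obj N
    have h1 : T.map (∑ j, p j ≫ H10Coh.freeIncl J j) = 𝟙 _ := by rw [hid]; exact T.map_id _
    rw [Functor.map_sum] at h1
    have h2 := congr($(congrArg (fun m => Scheme.Modules.Hom.app m ⊤) h1) S)
    refine (Eq.trans ?_ h2).symm
    rw [H10Coh.app_sum_apply]
    refine (Finset.sum_congr rfl fun j _ => ?_)
    show _ = (T.map (p j ≫ H10Coh.freeIncl J j)).app ⊤ S
    rw [T.map_comp]
    rfl
  rw [hS]
  refine sum_mem fun j _ => ?_
  have hj := spanned_structure N ((H22Alg.KosTwist.tensorLeftMap N (p j)).app ⊤ S)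
  generalize (H22Alg.KosTwist.tensorLeftMap N (p j)).app ⊤ S = w at hj ⊢
  induction hj using AddSubgroup.closure_induction with
  | mem x hx =>
    obtain ⟨a, b, rfl⟩ := hx
    exact AddSubgroup.subset_closure ⟨a, _, (H22Alg.KosTwist.map_tm_right N (H10Coh.freeIncl J j) a b).symm⟩
  | zero => rw [map_zero]; exact zero_mem _
  | add x y _ _ hx hy => rw [map_add]; exact add_mem hx hy
  | neg x _ hx => rw [map_neg]; exact neg_mem hx

/-- The index set of the evaluation map is finite. -/
theorem finite_index (k : Type u) [Field k] [X.Over (Spec (CommRingCat.of k))]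
    [IsProper (X ↘ Spec (CommRingCat.of k))] [Nontrivial Γ(X, ⊤)] {L : X.Modules} (hL : Coh.IsCoh L) {J : Type u}
    (ev : H10Coh.freeMod X J ⟶ L) (hev : Function.Bijective (LeadFF.Hm ev 0)) : Finite J := by
  haveI : Module.Finite k (Coh.HH X L 0) := H10Coh.finite_HH_proper k X L hL 0
  haveI : Module.Finite Γ(X, ⊤) Γ(L, ⊤) := by
    obtain ⟨s, hs⟩ := Module.Finite.fg_top (R := k) (M := Coh.HH X L 0)
    classical
    refine ⟨s.image (LeadBC.secTopEquiv L), Submodule.eq_top_iff'.2 fun y => ?_⟩
    obtain ⟨x, rfl⟩ := (LeadBC.secTopEquiv L).surjective y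
    have hx : x ∈ Submodule.span k (s : Set (Coh.HH X L 0)) := hs ▸ Submodule.mem_top
    induction hx using Submodule.span_induction with
    | mem z hz => exact Submodule.subset_span (Finset.mem_image_of_mem _ hz)
    | zero => rw [map_zero]; exact zero_mem _
    | add a b _ _ ha hb => rw [map_add]; exact add_mem ha hb
    | smul c a _ ha => rw [LeadBC.secTopEquiv_smul]; exact Submodule.smul_mem _ _ ha
  have hb : Function.Bijective (ev.app ⊤) := by
    have h : ev.app ⊤ ∘ LeadBC.secTopEquiv (H10Coh.freeMod X J) = LeadBC.secTopEquiv L ∘ LeadFF.Hm ev 0 :=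
      funext fun x => (LeadBC.secTopEquiv_natural ev x).symm
    exact (Function.Bijective.of_comp_iff _ (LeadBC.secTopEquiv _).bijective).1
      (h ▸ (LeadBC.secTopEquiv L).bijective.comp hev)
  let E : Γ(H10Coh.freeMod X J, ⊤) →ₗ[Γ(X, ⊤)] Γ(L, ⊤) :=
    { toFun := ev.app ⊤, map_add' := map_add _, map_smul' := fun r x => Scheme.Modules.Hom.app_smul _ r x }
  haveI : Module.Finite Γ(X, ⊤) Γ(H10Coh.freeMod X J, ⊤) :=
    Module.Finite.equiv (LinearEquiv.ofBijective E hb).symm
  exact H14QCoh.finite_index (Iso.refl (H10Coh.freeMod X J)) (W := ⊤)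

/-- Multiplication of sections is surjective when the first cohomology with the kernel vanishes. -/
theorem spanned_of_vanishing (k : Type u) [Field k] [X.Over (Spec (CommRingCat.of k))]
    [IsProper (X ↘ Spec (CommRingCat.of k))] {L : X.Modules} (hL : PicF.IsInvertible L) {J : Type u}
    (ev : H10Coh.freeMod X J ⟶ L) [Epi ev] (hev : Function.Bijective (LeadFF.Hm ev 0)) (N : X.Modules)
    (hvan : Subsingleton (Coh.HH X (CohB1.tensorMod N (kernel ev)) 1)) : Spanned L N := by
  by_cases hne : Nonempty X
  · haveI : Nonempty ↥(⊤ : X.Opens) := ⟨⟨hne.some, trivial⟩⟩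
    haveI : Nontrivial Γ(X, ⊤) := @Scheme.component_nontrivial X ⊤ ⟨⟨hne.some, trivial⟩⟩
    have hlf := H28Pinch.isFinLocFree_of_isInvertible hL
    haveI := finite_index k (H16Derived.KFlat.Stalk.isCoh_of_isFinLocFree hlf) ev hev
    let S : ShortComplex X.Modules := ShortComplex.mk (kernel.ι ev) ev (kernel.condition ev)
    have hS : S.ShortExact :=
      { exact := ShortComplex.exact_of_f_is_kernel _ (kernelIsKernel ev), mono_f := inferInstance, epi_g := ‹_› }
    have hS' := H16Derived.KFlat.Stalk.shortExact_tensor_of_isFlat N hS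
      (H16Derived.KFlat.Stalk.isFlat_of_isFinLocFree hlf)
    have hsur : Function.Surjective ((H22Alg.KosTwist.tensorLeftMap N ev).app ⊤) :=
      H10Coh.surjective_app_of_subsingleton_HnM hS' ⊤ ((H10Coh.HHEquiv _ 1).toEquiv.subsingleton_congr.1 hvan)
    exact spanned_comm ((spanned_free N J).mono (H22Alg.KosTwist.tensorLeftMap N ev) hsur fun a b =>
      AddSubgroup.subset_closure ⟨a, ev.app ⊤ b, (H22Alg.KosTwist.map_tm_right N ev a b).symm⟩)
  · intro S
    haveI : Subsingleton Γ(CohB1.tensorMod L N, ⊤) := subsingleton_of_forall_eq 0 fun s =>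
      TopCat.Presheaf.section_ext (⟨_, (CohB1.tensorMod L N).isSheaf⟩ : TopCat.Sheaf Ab X) ⊤ s 0 fun x _ =>
        absurd ⟨x⟩ hne
    rw [Subsingleton.elim S 0]
    exact zero_mem _

end Groth.Agent.H10Coh.MulSections
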