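import Groth.Agent.H11Tilde.Frac

/-!
# `M_n → Γ(Proj A, M(n)~)` is bijective in large degrees
-/

set_option autoImplicit false
set_option linter.style.haveILetI false
set_option backward.isDefEq.respectTransparency.types false

noncomputable section

universe u

open CategoryTheory AlgebraicGeometry TopologicalSpace Opposite

namespace Groth.Agent.H10Coh.GradedTail

open H11Tilde GrMod

variable {A σ : Type u} [CommRing A] [SetLike σ A] [AddSubgroupClass σ A] (𝒜 : ℕ → σ) [GradedRing 𝒜]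

/-- Homogeneous generators of the irrelevant ideal, of positive degrees. -/
structure Gens (r : ℕ) where
  f : Fin r → A
  d : Fin r → ℕ
  pos : ∀ i, 0 < d i
  mem : ∀ i, f i ∈ 𝒜 (d i)
  span : (HomogeneousIdeal.irrelevant 𝒜).toIdeal = Ideal.span (Set.range f)

theorem exists_gens [IsNoetherianRing A] : ∃ r, Nonempty (Gens 𝒜 r) := by
  classical
  let S : Set A := {a | ∃ j, 0 < j ∧ a ∈ 𝒜 j}
  have hS : (HomogeneousIdeal.irrelevant 𝒜).toIdeal = Ideal.span S := by
    refine le_antisymm (fun a ha => ?_) (Ideal.span_le.2 fun a ⟨j, hj, ha⟩ =>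
      HomogeneousIdeal.mem_irrelevant_of_mem 𝒜 hj ha)
    rw [← DirectSum.sum_support_decompose 𝒜 a]
    refine Ideal.sum_mem _ fun j _ => ?_
    rcases Nat.eq_zero_or_pos j with rfl | hj
    · rw [show (DirectSum.decompose 𝒜 a 0 : A) = 0 from (HomogeneousIdeal.mem_irrelevant_iff 𝒜 a).1 ha]
      exact zero_mem _
    · exact Ideal.subset_span ⟨j, hj, (DirectSum.decompose 𝒜 a j).2⟩
  obtain ⟨T, hTS, hT⟩ := Submodule.fg_span_iff_fg_span_finset_subset S |>.1 (IsNoetherian.noetherian (Ideal.span S))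
  have key : ∀ t : T, ∃ j, 0 < j ∧ t.1 ∈ 𝒜 j := fun t => hTS t.2
  choose j hj hmem using key
  refine ⟨Fintype.card T, ⟨⟨fun i => ((Fintype.equivFin T).symm i).1, fun i => j ((Fintype.equivFin T).symm i),
    fun i => hj _, fun i => hmem _, ?_⟩⟩⟩
  refine hS.trans ((show Ideal.span S = Ideal.span (T : Set A) from hT).trans ?_)
  congr 1
  ext a
  exact ⟨fun ha => ⟨Fintype.equivFin T ⟨a, ha⟩, by simp⟩, by rintro ⟨i, rfl⟩; exact ((Fintype.equivFin T).symm i).2⟩

variable {𝒜} {r : ℕ} (g : Gens 𝒜 r)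

theorem Gens.exists_notMem (x : ProjectiveSpectrum 𝒜) : ∃ i, g.f i ∉ x.asHomogeneousIdeal := by
  by_contra h
  push Not at h
  refine x.not_irrelevant_le ?_
  show (HomogeneousIdeal.irrelevant 𝒜).toIdeal ≤ x.asHomogeneousIdeal.toIdeal
  rw [g.span, Ideal.span_le]
  rintro _ ⟨i, rfl⟩
  exact h i

theorem Gens.mem_pow (L : ℕ) : ∀ {m : ℕ} {a : A}, a ∈ 𝒜 m → L * (∑ i, g.d i) + L ≤ m →
    a ∈ Ideal.span (Set.range g.f) ^ L := by
  classical
  induction L with
  | zero => intro m a _ _; rw [pow_zero, Ideal.one_eq_top]; trivial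
  | succ L ih =>
    intro m a ha hm
    have hirr : a ∈ Ideal.span (Set.range g.f) :=
      g.span.le (HomogeneousIdeal.mem_irrelevant_of_mem 𝒜 (by omega) ha)
    obtain ⟨b, hb⟩ := Ideal.mem_span_range_iff_exists_fun.1 hirr
    rw [← DirectSum.decompose_of_mem_same 𝒜 ha, ← hb, DirectSum.decompose_sum, DFinsupp.finsetSum_apply,
      AddSubmonoidClass.coe_finsetSum]
    refine Ideal.sum_mem _ fun i _ => ?_
    have hdi : g.d i ≤ ∑ l, g.d l := Finset.single_le_sum (fun l _ => Nat.zero_le (g.d l)) (Finset.mem_univ i)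
    have hsplit : (L + 1) * (∑ l, g.d l) = L * (∑ l, g.d l) + ∑ l, g.d l := by ring
    rw [DirectSum.coe_decompose_mul_of_right_mem_of_le 𝒜 (g.mem i) (by omega), pow_succ]
    exact Ideal.mul_mem_mul (ih (DirectSum.decompose 𝒜 (b i) (m - g.d i)).2 (by omega)) (Ideal.subset_span ⟨i, rfl⟩)

include g in
/-- Homogeneous torsion modulo a submodule lives in bounded degrees. -/
theorem exists_bound {N : Type u} [AddCommGroup N] [Module A N] (R₀ : Submodule A N) (F : Submodule A N)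
    [IsNoetherian A F] (H : ℕ → Set N) (π : ℕ → N →+ N) (k : ℕ) (hHF : ∀ n, k ≤ n → ∀ c ∈ H n, c ∈ F)
    (hself : ∀ n, ∀ c ∈ H n, π n c = c)
    (hsmul : ∀ (n p : ℕ) (a : A), ∀ z ∈ H p, p ≤ n → π n (a • z) = (DirectSum.decompose 𝒜 a (n - p) : A) • z) :
    ∃ n₀, k ≤ n₀ ∧ ∀ n, n₀ ≤ n → ∀ c ∈ H n, (∀ j, ∃ e : ℕ, g.f j ^ e • c ∈ R₀) → c ∈ R₀ := by
  classical
  let S : Set N := {c | ∃ n, k ≤ n ∧ c ∈ H n ∧ ∀ j, ∃ e : ℕ, g.f j ^ e • c ∈ R₀}
  have hSF : Submodule.span A S ≤ F := Submodule.span_le.2 fun c ⟨n, hn, hc, _⟩ => hHF n hn c hc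
  have hfg : (Submodule.span A S).FG := by
    have h := (IsNoetherian.noetherian ((Submodule.span A S).comap F.subtype)).map F.subtype
    rwa [Submodule.map_comap_eq, Submodule.range_subtype, inf_eq_right.2 hSF] at h
  obtain ⟨Z, hZS, hZ⟩ := (Submodule.fg_span_iff_fg_span_finset_subset S).1 hfg
  choose p hpk hpH hpt using fun z : Z => hZS z.2
  choose e he using hpt
  have hrad : Ideal.span (Set.range g.f) ≤ (R₀.colon (Z : Set N)).radical := by
    rw [Ideal.span_le]
    rintro _ ⟨j, rfl⟩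
    refine ⟨Finset.univ.sup fun z : Z => e z j, Submodule.mem_colon.2 fun z hz => ?_⟩
    have hle : e ⟨z, hz⟩ j ≤ Finset.univ.sup fun z : Z => e z j :=
      Finset.le_sup (f := fun z : Z => e z j) (Finset.mem_univ _)
    rw [← Nat.sub_add_cancel hle, pow_add, mul_smul]
    exact R₀.smul_mem _ (he ⟨z, hz⟩ j)
  obtain ⟨L, hL⟩ := Ideal.exists_pow_le_of_le_radical_of_fg hrad ⟨Finset.univ.image g.f, by simp⟩
  refine ⟨k + (Finset.univ.sup p) + (L * (∑ i, g.d i) + L), by omega, fun n hn c hc ht => ?_⟩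
  have hcZ : c ∈ Submodule.span A (Z : Set N) := hZ ▸ Submodule.subset_span ⟨n, by omega, hc, ht⟩
  obtain ⟨a, -, hac⟩ := Submodule.mem_span_finset.1 hcZ
  rw [← hself n c hc, ← hac, map_sum]
  refine Submodule.sum_mem _ fun z hz => ?_
  have hpn : p ⟨z, hz⟩ ≤ Finset.univ.sup p := Finset.le_sup (f := p) (Finset.mem_univ _)
  rw [hsmul n (p ⟨z, hz⟩) (a z) z (hpH ⟨z, hz⟩) (by omega)]
  exact Submodule.mem_colon.1 (hL (g.mem_pow L (DirectSum.decompose 𝒜 (a z) (n - p ⟨z, hz⟩)).2 (by omega))) z hz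

section module

variable {M τ : Type u} [AddCommGroup M] [Module A M] [SetLike τ M] [AddSubgroupClass τ M] (ℳ : ℕ → τ)
variable [SetLike.GradedSMul 𝒜 ℳ] [DirectSum.Decomposition ℳ]

/-- The projection to a graded piece. -/
def proj (n : ℕ) : M →+ M :=
  AddMonoidHom.mk' (fun m => (DirectSum.decompose ℳ m n : M)) fun a b => by simp [DirectSum.decompose_add]

theorem proj_smul {p n : ℕ} (hpn : p ≤ n) (a : A) {z : M} (hz : z ∈ ℳ p) :
    proj ℳ n (a • z) = (DirectSum.decompose 𝒜 a (n - p) : A) • z := by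
  classical
  obtain ⟨q, rfl⟩ : ∃ q, n = q + p := ⟨n - p, (Nat.sub_add_cancel hpn).symm⟩
  rw [Nat.add_sub_cancel]
  show (DirectSum.decompose ℳ (a • z) (q + p) : M) = _
  conv_lhs => rw [← DirectSum.sum_support_decompose 𝒜 a, Finset.sum_smul]
  rw [DirectSum.decompose_sum, DFinsupp.finsetSum_apply, AddSubmonoidClass.coe_finsetSum, Finset.sum_eq_single q]
  · exact DirectSum.decompose_of_mem_same ℳ (SetLike.GradedSMul.smul_mem (DirectSum.decompose 𝒜 a q).2 hz)
  · intro l _ hl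
    exact DirectSum.decompose_of_mem_ne ℳ (SetLike.GradedSMul.smul_mem (DirectSum.decompose 𝒜 a l).2 hz)
      (fun e => hl (by simp only [vadd_eq_add] at e; omega))
  · intro hj
    rw [DFinsupp.notMem_support_iff.1 hj]
    simp

/-- The function `x ↦ m / 1`. -/
abbrev one' (m : M) (x : ProjectiveSpectrum 𝒜) : LocMod 𝒜 (M := M) x := fracAt 𝒜 x m 1 (one_notMem 𝒜 x)

omit [SetLike.GradedSMul 𝒜 ℳ] [DirectSum.Decomposition ℳ] in
theorem smul_fracAt (x : ProjectiveSpectrum 𝒜) (a : A) (m : M) (s : A) (hs : s ∉ x.asHomogeneousIdeal) :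
    a • fracAt 𝒜 x m s hs = fracAt 𝒜 x (a • m) s hs :=
  LocalizedModule.smul'_mk a m (⟨s, hs⟩ : x.asHomogeneousIdeal.toIdeal.primeCompl)

omit [SetLike.GradedSMul 𝒜 ℳ] [DirectSum.Decomposition ℳ] in
theorem smul_fracAt_self (x : ProjectiveSpectrum 𝒜) (m : M) (s : A) (hs : s ∉ x.asHomogeneousIdeal) :
    s • fracAt 𝒜 x m s hs = one' (𝒜 := 𝒜) m x := by
  rw [smul_fracAt]
  exact fracAt_eq_of 𝒜 x _ _ (by rw [one_smul])

omit [SetLike.GradedSMul 𝒜 ℳ] [DirectSum.Decomposition ℳ] in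
theorem eq_of_smul_eq {x : ProjectiveSpectrum 𝒜} {a : A} (ha : a ∉ x.asHomogeneousIdeal) {q q' : LocMod 𝒜 (M := M) x}
    (h : a • q = a • q') : q = q' := by
  have hu : IsUnit (algebraMap A (Module.End A (LocMod 𝒜 (M := M) x)) a) :=
    IsLocalizedModule.map_units (LocalizedModule.mkLinearMap x.asHomogeneousIdeal.toIdeal.primeCompl M) (⟨a, ha⟩ : x.asHomogeneousIdeal.toIdeal.primeCompl)
  exact ((Module.End.isUnit_iff _).1 hu).1 h

include g in
theorem exists_pow_smul_eq_zero' {n : ℕ} {m : M} (hm : m ∈ ℳ n) (h : ∀ x, one' (𝒜 := 𝒜) m x = 0) (j : Fin r) :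
    ∃ e : ℕ, g.f j ^ e • m = 0 :=
  exists_pow_smul_eq_zero 𝒜 ℳ (g.pos j) (g.mem j) hm fun x _ => (fracAt_eq_zero_iff 𝒜 x m 1 _).1 (h x)

/-- A function given by an element of degree `n`. -/
def IsImg (n : ℕ) (G : ∀ x : ProjectiveSpectrum 𝒜, LocMod 𝒜 (M := M) x) : Prop :=
  ∃ m ∈ ℳ n, ∀ x, G x = one' (𝒜 := 𝒜) m x

omit [AddSubgroupClass τ M] [DirectSum.Decomposition ℳ] in
theorem IsImg.smul {n e : ℕ} {G : ∀ x : ProjectiveSpectrum 𝒜, LocMod 𝒜 (M := M) x} (h : IsImg ℳ n G)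
    {a : A} (ha : a ∈ 𝒜 e) : IsImg ℳ (e + n) fun x => a • G x := by
  obtain ⟨m, hm, hG⟩ := h
  exact ⟨a • m, SetLike.GradedSMul.smul_mem ha hm, fun x => by
    show a • G x = _
    rw [hG x, smul_fracAt]⟩

/-- `M_n → Γ` is injective for `n ≥ n₀`, algebraically: torsion vanishes in those degrees. -/
def T0 (n₀ : ℕ) : Prop :=
  ∀ n, n₀ ≤ n → ∀ m ∈ ℳ n, (∀ j, ∃ e : ℕ, g.f j ^ e • m = 0) → m = 0

/-- The map `m ↦ (f i • m)_i`. -/
def phi (M : Type u) [AddCommGroup M] [Module A M] : M →ₗ[A] (Fin r → M) :=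
  LinearMap.pi fun i => g.f i • LinearMap.id

omit [SetLike.GradedSMul 𝒜 ℳ] [DirectSum.Decomposition ℳ] in
theorem phi_apply (m : M) (i : Fin r) : phi g M m i = g.f i • m := rfl

/-- Torsion of the cokernel of `phi` vanishes in degrees `≥ n₀`. -/
def T1 (n₀ : ℕ) : Prop :=
  ∀ n, n₀ ≤ n → ∀ c : Fin r → M, (∀ i, c i ∈ ℳ (g.d i + n)) →
    (∀ j, ∃ e : ℕ, g.f j ^ e • c ∈ LinearMap.range (phi g M)) → c ∈ LinearMap.range (phi g M)

include g in
theorem exists_T0 [IsNoetherianRing A] {k : ℕ}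
    (hk : (Submodule.span A (⋃ i ∈ Set.Ici k, (ℳ i : Set M))).FG) : ∃ n₀, T0 g ℳ n₀ := by
  let F := Submodule.span A (⋃ i ∈ Set.Ici k, (ℳ i : Set M))
  haveI : IsNoetherian A F := isNoetherian_of_fg_of_noetherian F hk
  obtain ⟨n₀, -, h⟩ := exists_bound g (⊥ : Submodule A M) F (fun n => (ℳ n : Set M)) (proj ℳ) k
    (fun n hn c hc => Submodule.subset_span (Set.mem_biUnion (show n ∈ Set.Ici k from hn) hc))
    (fun n c hc => DirectSum.decompose_of_mem_same ℳ hc)
    (fun n p a z hz hpn => proj_smul ℳ hpn a hz)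
  refine ⟨n₀, fun n hn m hm ht => (Submodule.mem_bot A).1 (h n hn m hm fun j => ?_)⟩
  obtain ⟨e, he⟩ := ht j
  exact ⟨e, (Submodule.mem_bot A).2 he⟩

include g in
theorem exists_T1 [IsNoetherianRing A] {k : ℕ}
    (hk : (Submodule.span A (⋃ i ∈ Set.Ici k, (ℳ i : Set M))).FG) : ∃ n₀, T1 g ℳ n₀ := by
  let F := Submodule.span A (⋃ i ∈ Set.Ici k, (ℳ i : Set M))
  let F' : Submodule A (Fin r → M) := Submodule.pi Set.univ fun _ => F
  have hF' : F'.FG := Submodule.fg_pi fun _ => hk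
  haveI : IsNoetherian A F' := isNoetherian_of_fg_of_noetherian F' hF'
  let π : ℕ → (Fin r → M) →+ (Fin r → M) := fun n =>
    AddMonoidHom.mk' (fun c i => proj ℳ (g.d i + n) (c i)) fun a b => funext fun i => map_add _ _ _
  obtain ⟨n₀, -, h⟩ := exists_bound g (LinearMap.range (phi g M)) F'
    (fun n => {c : Fin r → M | ∀ i, c i ∈ ℳ (g.d i + n)}) π k
    (fun n hn c hc i _ => Submodule.subset_span (Set.mem_biUnion (show g.d i + n ∈ Set.Ici k from Set.mem_Ici.2 (by omega)) (hc i)))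
    (fun n c hc => funext fun i => DirectSum.decompose_of_mem_same ℳ (hc i))
    (fun n p a z hz hpn => funext fun i => by
      show proj ℳ (g.d i + n) (a • z i) = _
      rw [proj_smul (𝒜 := 𝒜) ℳ (show g.d i + p ≤ g.d i + n by omega) a (hz i), Nat.add_sub_add_left]
      rfl)
  exact ⟨n₀, fun n hn c hc ht => h n hn c hc ht⟩

include g in
theorem injective_of_T0 {n₀ : ℕ} (h : T0 g ℳ n₀) {n : ℕ} (hn : n₀ ≤ n) {m : M} (hm : m ∈ ℳ n)
    (h0 : ∀ x, one' (𝒜 := 𝒜) m x = 0) : m = 0 :=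
  h n hn m hm fun j => exists_pow_smul_eq_zero' g ℳ hm h0 j

include g in
/-- A function which becomes an image after multiplication by every generator is an image. -/
theorem step_of_T1 {n₀ : ℕ} (h : T1 g ℳ n₀) :
    ∀ n, n₀ ≤ n → ∀ G : (∀ x : ProjectiveSpectrum 𝒜, LocMod 𝒜 (M := M) x),
      (∀ i, IsImg ℳ (g.d i + n) fun x => g.f i • G x) →
      (∀ j, ∃ e : ℕ, IsImg ℳ (e * g.d j + n) fun x => g.f j ^ e • G x) → IsImg ℳ n G := by
  classical
  intro n hn G h1 h2
  choose m hm hGm using h1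
  obtain ⟨m', hm'⟩ : m ∈ LinearMap.range (phi g M) := by
    refine h n hn m (fun i => hm i) fun j => ?_
    obtain ⟨e, p, hp, hGp⟩ := h2 j
    have hz : ∀ i, ∃ e' : ℕ, g.f j ^ e' • (g.f j ^ e • m i - g.f i • p) = 0 := fun i => by
      refine exists_pow_smul_eq_zero' g ℳ (n := e * g.d j + (g.d i + n)) (sub_mem ?_ ?_) (fun x => ?_) j
      · have h3 : g.f j ^ e • m i ∈ ℳ (e • g.d j + (g.d i + n)) :=
          SetLike.GradedSMul.smul_mem (SetLike.pow_mem_graded e (g.mem j)) (hm i)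
        simpa using h3
      · rw [Nat.add_left_comm]
        exact SetLike.GradedSMul.smul_mem (g.mem i) hp
      · show LocalizedModule.mkLinearMap _ M (g.f j ^ e • m i - g.f i • p) = 0
        rw [map_sub, map_smul, map_smul, sub_eq_zero]
        exact (congrArg (g.f j ^ e • ·) (hGm i x).symm).trans ((smul_comm _ _ _).trans (congrArg (g.f i • ·) (hGp x)))
    choose e' he' using hz
    refine ⟨Finset.univ.sup e' + e, g.f j ^ Finset.univ.sup e' • p, funext fun i => ?_⟩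
    have hle : e' i ≤ Finset.univ.sup e' := Finset.le_sup (Finset.mem_univ i)
    have h4 : g.f j ^ Finset.univ.sup e' • (g.f j ^ e • m i - g.f i • p) = 0 := by
      rw [← Nat.sub_add_cancel hle, pow_add, mul_smul, he' i, smul_zero]
    rw [smul_sub, sub_eq_zero] at h4
    show g.f i • g.f j ^ Finset.univ.sup e' • p = g.f j ^ (Finset.univ.sup e' + e) • m i
    rw [smul_comm, ← h4, pow_add, mul_smul]
  refine ⟨(DirectSum.decompose ℳ m' n : M), (DirectSum.decompose ℳ m' n).2, fun x => ?_⟩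
  obtain ⟨i, hi⟩ := g.exists_notMem x
  refine eq_of_smul_eq hi ?_
  rw [smul_fracAt]
  refine (hGm i x).trans (congrArg (fun z => one' (𝒜 := 𝒜) z x) ?_)
  have h5 : m i = g.f i • m' := (congrFun hm' i).symm
  have h6 := DirectSum.decompose_of_mem_same ℳ (hm i)
  rw [h5] at h6 ⊢
  refine h6.symm.trans ?_
  rw [← DirectSum.sum_support_decompose ℳ m', Finset.smul_sum, DirectSum.decompose_sum,
    DFinsupp.finsetSum_apply, AddSubmonoidClass.coe_finsetSum, DirectSum.sum_support_decompose]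
  rw [Finset.sum_eq_single n]
  · exact DirectSum.decompose_of_mem_same ℳ (SetLike.GradedSMul.smul_mem (g.mem i) (DirectSum.decompose ℳ m' n).2)
  · intro l _ hl
    exact DirectSum.decompose_of_mem_ne ℳ (SetLike.GradedSMul.smul_mem (g.mem i) (DirectSum.decompose ℳ m' l).2)
      (fun e => hl (by simp only [vadd_eq_add] at e; omega))
  · intro hn'
    rw [DFinsupp.notMem_support_iff.1 hn']
    simp

include g in
/-- A power of a generator times a section is an image. -/
theorem exists_isImg_pow {n : ℕ} (s : Γ(GrMod.tilde 𝒜 ℳ (n : ℤ), (⊤ : (Proj 𝒜).Opens))) (j : Fin r) :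
    ∃ e : ℕ, IsImg ℳ (e * g.d j + n) fun x => g.f j ^ e • GrMod.val s ⟨x, trivial⟩ := by
  classical
  have hloc : ∀ l, ∃ (k i : ℕ) (m : M), m ∈ ℳ i ∧ i = k * g.d l + n ∧
      ∀ (x : ProjectiveSpectrum 𝒜) (_ : g.f l ∉ x.asHomogeneousIdeal) (hk : g.f l ^ k ∉ x.asHomogeneousIdeal),
        GrMod.val s ⟨x, trivial⟩ = fracAt 𝒜 x m (g.f l ^ k) hk := fun l => by
    obtain ⟨k, i, m, hm, hi, h⟩ := exists_eq_fracAt 𝒜 ℳ (g.pos l) (g.mem l)
      ((GrMod.tilde 𝒜 ℳ (n : ℤ)).presheaf.map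
        (homOfLE (le_top : Proj.basicOpen 𝒜 (g.f l) ≤ (⊤ : (Proj 𝒜).Opens))).op s)
    exact ⟨k, i, m, hm, by exact_mod_cast hi, fun x hx hk => h ⟨x, hx⟩ hk⟩
  choose k i m hm hi hs using hloc
  have hz : ∀ l, ∃ e : ℕ, g.f j ^ e • g.f l ^ e • (g.f j ^ k j • m l - g.f l ^ k l • m j) = 0 := fun l => by
    have hdeg : g.f j ^ k j • m l - g.f l ^ k l • m j ∈ ℳ (k j * g.d j + i l) := by
      refine sub_mem ?_ ?_
      · simpa using SetLike.GradedSMul.smul_mem (SetLike.pow_mem_graded (k j) (g.mem j)) (hm l)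
      · rw [show k j * g.d j + i l = k l • g.d l + i j by rw [hi l, hi j, smul_eq_mul]; ring]
        exact SetLike.GradedSMul.smul_mem (SetLike.pow_mem_graded (k l) (g.mem l)) (hm j)
    obtain ⟨e, he⟩ := exists_pow_smul_eq_zero 𝒜 ℳ (show 0 < g.d j + g.d l by linarith [g.pos j])
      (SetLike.mul_mem_graded (g.mem j) (g.mem l)) hdeg fun x hx => by
        have hj : g.f j ∉ x.asHomogeneousIdeal := fun h => hx (x.asHomogeneousIdeal.toIdeal.mul_mem_right _ h)
        have hl : g.f l ∉ x.asHomogeneousIdeal := fun h => hx (x.asHomogeneousIdeal.toIdeal.mul_mem_left _ h)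
        exact exists_of_fracAt_eq 𝒜 x (pow_notMem 𝒜 hl _) (pow_notMem 𝒜 hj _)
          ((hs l x hl _).symm.trans (hs j x hj _))
    exact ⟨e, by rwa [mul_pow, mul_smul] at he⟩
  choose e he using hz
  let E := Finset.univ.sup e
  refine ⟨E + k j, g.f j ^ E • m j, ?_, fun x => ?_⟩
  · rw [show (E + k j) * g.d j + n = E • g.d j + i j by rw [hi j, smul_eq_mul]; ring]
    exact SetLike.GradedSMul.smul_mem (SetLike.pow_mem_graded E (g.mem j)) (hm j)
  · obtain ⟨l, hl⟩ := g.exists_notMem x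
    refine eq_of_smul_eq (pow_notMem 𝒜 hl (k l)) ?_
    show g.f l ^ k l • (g.f j ^ (E + k j) • GrMod.val s ⟨x, trivial⟩) = g.f l ^ k l • one' (𝒜 := 𝒜) (g.f j ^ E • m j) x
    rw [hs l x hl (pow_notMem 𝒜 hl _), smul_comm, smul_fracAt_self, smul_fracAt, smul_fracAt]
    have hle : e l ≤ E := Finset.le_sup (Finset.mem_univ l)
    have h7 : g.f l ^ e l • (g.f j ^ E • (g.f j ^ k j • m l - g.f l ^ k l • m j)) = 0 := by
      rw [← Nat.sub_add_cancel hle, pow_add, mul_smul, smul_comm, smul_comm (g.f l ^ e l), he l, smul_zero]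
    show LocalizedModule.mkLinearMap _ M (g.f j ^ (E + k j) • m l) = LocalizedModule.mkLinearMap _ M _
    refine eq_of_smul_eq (pow_notMem 𝒜 hl (e l)) ?_
    rw [← map_smul, ← map_smul]
    refine congrArg _ ?_
    rw [smul_sub, smul_sub, sub_eq_zero, ← mul_smul (g.f j ^ E) (g.f j ^ k j), ← pow_add] at h7
    rw [h7, smul_comm (g.f j ^ E) (g.f l ^ k l)]

include g in
/-- In large degrees every global section is an image. -/
theorem surjective_of_T1 {n₀ : ℕ} (h : T1 g ℳ n₀) (n : ℕ) (hn : n₀ ≤ n)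
    (s : Γ(GrMod.tilde 𝒜 ℳ (n : ℤ), (⊤ : (Proj 𝒜).Opens))) : IsImg ℳ n fun x => GrMod.val s ⟨x, trivial⟩ := by
  classical
  have hstep := step_of_T1 g ℳ h
  choose N hN using exists_isImg_pow g ℳ s
  have key : ∀ (t : ℕ) (e : Fin r → ℕ), (∑ i, (N i - e i)) ≤ t →
      IsImg ℳ ((∑ i, e i * g.d i) + n) fun x => (∏ i, g.f i ^ e i) • GrMod.val s ⟨x, trivial⟩ := by
    intro t
    induction t using Nat.strong_induction_on with
    | _ t ih =>
      intro e het
      have hdeg : ∏ i, g.f i ^ e i ∈ 𝒜 (∑ i, e i * g.d i) :=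
        by
        simpa [smul_eq_mul] using SetLike.prod_pow_mem_graded 𝒜 g.d g.f e (F := Finset.univ) (fun i _ => g.mem i)
      by_cases hex : ∃ i, N i ≤ e i
      · obtain ⟨i, hi⟩ := hex
        have h8 : ∏ l, g.f l ^ e l = (g.f i ^ (e i - N i) * ∏ l ∈ Finset.univ.erase i, g.f l ^ e l) * g.f i ^ N i := by
          rw [← Finset.mul_prod_erase Finset.univ (fun l => g.f l ^ e l) (Finset.mem_univ i)]
          conv_lhs => rw [← Nat.sub_add_cancel hi, pow_add]
          ring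
        have hmem : g.f i ^ (e i - N i) * ∏ l ∈ Finset.univ.erase i, g.f l ^ e l ∈
            𝒜 ((e i - N i) * g.d i + ∑ l ∈ Finset.univ.erase i, e l * g.d l) := by
          refine SetLike.mul_mem_graded ?_ (by simpa [smul_eq_mul] using SetLike.prod_pow_mem_graded 𝒜 g.d g.f e (F := Finset.univ.erase i) fun l _ => g.mem l)
          simpa using SetLike.pow_mem_graded (e i - N i) (g.mem i)
        have h9 := (hN i).smul ℳ hmem
        rw [show (e i - N i) * g.d i + ∑ l ∈ Finset.univ.erase i, e l * g.d l + (N i * g.d i + n) =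
            (∑ l, e l * g.d l) + n by
          rw [← Finset.add_sum_erase Finset.univ (fun l => e l * g.d l) (Finset.mem_univ i)]
          have : (e i - N i) * g.d i + N i * g.d i = e i * g.d i := by rw [← Nat.add_mul, Nat.sub_add_cancel hi]
          omega] at h9
        simpa only [h8, mul_smul] using h9
      · push Not at hex
        refine hstep _ (by omega) _ (fun i => ?_) fun j => ⟨N j, ?_⟩
        · have h10 : ∑ l, (N l - Function.update e i (e i + 1) l) < ∑ l, (N l - e l) :=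
            Finset.sum_lt_sum (fun l _ => by
              by_cases hl : l = i
              · subst hl; simp only [Function.update_self]; omega
              · rw [Function.update_of_ne hl])
              ⟨i, Finset.mem_univ i, by simp; have := hex i; omega⟩
          have h11 := ih _ (lt_of_lt_of_le h10 het) (Function.update e i (e i + 1)) le_rfl
          have hs1 : ∑ l, Function.update e i (e i + 1) l * g.d l = g.d i + ∑ l, e l * g.d l := by
            rw [← Finset.add_sum_erase Finset.univ _ (Finset.mem_univ i),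
              ← Finset.add_sum_erase Finset.univ (fun l => e l * g.d l) (Finset.mem_univ i), Function.update_self,
              Finset.sum_congr rfl (g := fun l => e l * g.d l) fun l hl => by
                rw [Function.update_of_ne (Finset.ne_of_mem_erase hl)]]
            ring
          have hp1 : ∏ l, g.f l ^ Function.update e i (e i + 1) l = g.f i * ∏ l, g.f l ^ e l := by
            rw [← Finset.mul_prod_erase Finset.univ _ (Finset.mem_univ i),
              ← Finset.mul_prod_erase Finset.univ (fun l => g.f l ^ e l) (Finset.mem_univ i), Function.update_self,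
              Finset.prod_congr rfl (g := fun l => g.f l ^ e l) fun l hl => by
                rw [Function.update_of_ne (Finset.ne_of_mem_erase hl)]]
            ring
          rw [hs1, Nat.add_assoc] at h11
          simpa only [hp1, mul_smul] using h11
        · have h12 := (hN j).smul ℳ hdeg
          rw [Nat.add_left_comm] at h12
          simpa only [smul_comm (g.f j ^ N j)] using h12
  have h0 := key _ (fun _ => 0) le_rfl
  simpa using h0

include g in
theorem bijective_of_bounds {n₀ : ℕ} (h0 : T0 g ℳ n₀) (h1 : T1 g ℳ n₀) {n : ℕ} (hn : n₀ ≤ n) :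
    Function.Bijective (GrMod.alpha 𝒜 ℳ n) := by
  refine ⟨(injective_iff_map_eq_zero _).2 fun m hm => Subtype.ext ?_, fun s => ?_⟩
  · exact injective_of_T0 g ℳ h0 hn m.2 fun x =>
      congrArg (fun t => GrMod.val t (⟨x, trivial⟩ : (⊤ : (Proj 𝒜).Opens))) hm
  · obtain ⟨m, hm, h⟩ := surjective_of_T1 g ℳ h1 n hn s
    exact ⟨⟨m, hm⟩, Subtype.ext (funext fun x => Subtype.ext (h x.1).symm)⟩

include g in
theorem exists_bounds [IsNoetherianRing A] {k : ℕ}
    (hk : (Submodule.span A (⋃ i ∈ Set.Ici k, (ℳ i : Set M))).FG) : ∃ n₀, T0 g ℳ n₀ ∧ T1 g ℳ n₀ := by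
  obtain ⟨n₁, h₁⟩ := exists_T0 g ℳ hk
  obtain ⟨n₂, h₂⟩ := exists_T1 g ℳ hk
  exact ⟨max n₁ n₂, fun n hn => h₁ n (le_of_max_le_left hn), fun n hn => h₂ n (le_of_max_le_right hn)⟩

theorem alpha_bijective [IsNoetherianRing A]
    (hTF : ∃ k : ℕ, (Submodule.span A (⋃ i ∈ Set.Ici k, (ℳ i : Set M))).FG) :
    ∃ N : ℕ, ∀ n : ℕ, N ≤ n → Function.Bijective (GrMod.alpha 𝒜 ℳ n) := by
  obtain ⟨k, hk⟩ := hTF
  obtain ⟨r, ⟨g⟩⟩ := exists_gens 𝒜
  obtain ⟨n₀, h0, h1⟩ := exists_bounds g ℳ hk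
  exact ⟨n₀, fun n hn => bijective_of_bounds g ℳ h0 h1 hn⟩

end module

end Groth.Agent.H10Coh.GradedTail
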