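import Groth.Agent.H10Coh.GradedTail

/-!
# The module of twisted sections is generated in one degree
-/

set_option autoImplicit false
set_option linter.style.haveILetI false
set_option backward.isDefEq.respectTransparency.types false

noncomputable section

universe u

open CategoryTheory AlgebraicGeometry TopologicalSpace Opposite

namespace Groth.Agent.H10Coh.GradedTail

open H11Tilde GrMod

variable {A σ : Type u} [CommRing A] [SetLike σ A] [AddSubgroupClass σ A] {𝒜 : ℕ → σ} [GradedRing 𝒜]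
variable {M τ : Type u} [AddCommGroup M] [Module A M] [SetLike τ M] [AddSubgroupClass τ M] (ℳ : ℕ → τ)
variable [SetLike.GradedSMul 𝒜 ℳ] [DirectSum.Decomposition ℳ]

theorem exists_gen_degree (hgen : (HomogeneousIdeal.irrelevant 𝒜).toIdeal = Ideal.span (𝒜 1 : Set A)) {k₀ : ℕ}
    (hk : (Submodule.span A (⋃ i ∈ Set.Ici k₀, (ℳ i : Set M))).FG) :
    ∃ k₁, ∀ k, k₁ ≤ k → ∀ (e : ℕ), ∀ z ∈ ℳ (k + e),
      z ∈ AddSubgroup.closure {c : M | ∃ b ∈ 𝒜 e, ∃ w ∈ ℳ k, c = b • w} := by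
  classical
  obtain ⟨Z, hZS, hZ⟩ := (Submodule.fg_span_iff_fg_span_finset_subset _).1 hk
  have hp : ∀ c : Z, ∃ p, k₀ ≤ p ∧ c.1 ∈ ℳ p := fun c => by
    simpa using hZS c.2
  choose p hpk hpm using hp
  refine ⟨k₀ + Finset.univ.sup p, fun k hk₁ e => ?_⟩
  induction e with
  | zero =>
    intro z hz
    exact AddSubgroup.subset_closure ⟨1, SetLike.one_mem_graded 𝒜, z, hz, (one_smul A z).symm⟩
  | succ e ih =>
    intro z hz
    have hzZ : z ∈ Submodule.span A (Z : Set M) :=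
      hZ ▸ Submodule.subset_span (Set.mem_biUnion (show k + (e + 1) ∈ Set.Ici k₀ from Set.mem_Ici.2 (by omega)) hz)
    obtain ⟨a, -, hac⟩ := Submodule.mem_span_finset.1 hzZ
    rw [← DirectSum.decompose_of_mem_same ℳ hz, ← hac]
    show proj ℳ (k + (e + 1)) (∑ i ∈ Z, a i • i) ∈ _
    rw [map_sum]
    refine sum_mem fun i hi => ?_
    have hpi : p ⟨i, hi⟩ ≤ Finset.univ.sup p := Finset.le_sup (f := p) (Finset.mem_univ _)
    rw [proj_smul (𝒜 := 𝒜) ℳ (show p ⟨i, hi⟩ ≤ k + (e + 1) by omega) (a i) (hpm ⟨i, hi⟩)]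
    obtain ⟨m, hm⟩ : ∃ m, k + (e + 1) - p ⟨i, hi⟩ = m + 1 := ⟨k + e - p ⟨i, hi⟩, by omega⟩
    rw [hm]
    have hb := (DirectSum.decompose 𝒜 (a i) (m + 1)).2
    generalize (DirectSum.decompose 𝒜 (a i) (m + 1) : A) = b at hb ⊢
    have hirr : b ∈ Ideal.span (𝒜 1 : Set A) :=
      hgen.le (HomogeneousIdeal.mem_irrelevant_of_mem 𝒜 (Nat.succ_pos m) hb)
    obtain ⟨T, hT, hT'⟩ := Submodule.mem_span_finite_of_mem_span hirr
    obtain ⟨c, -, hcb⟩ := Submodule.mem_span_finset.1 hT'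
    rw [← DirectSum.decompose_of_mem_same 𝒜 hb, ← hcb, DirectSum.decompose_sum, DFinsupp.finsetSum_apply,
      AddSubmonoidClass.coe_finsetSum, Finset.sum_smul]
    refine sum_mem fun f hf => ?_
    rw [smul_eq_mul, DirectSum.coe_decompose_mul_of_right_mem_of_le 𝒜 (hT hf) (by omega), mul_comm, mul_smul]
    have hdeg : m + p ⟨i, hi⟩ = k + e := by omega
    have hw : (DirectSum.decompose 𝒜 (c f) (m + 1 - 1) : A) • i ∈ ℳ (k + e) := by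
      rw [← hdeg]
      exact SetLike.GradedSMul.smul_mem (DirectSum.decompose 𝒜 (c f) (m + 1 - 1)).2 (hpm ⟨i, hi⟩)
    refine AddSubgroup.closure_induction (p := fun w _ => f • w ∈ _) ?_ ?_ ?_ ?_ (ih _ hw)
    · rintro _ ⟨b', hb', w, hw', rfl⟩
      exact AddSubgroup.subset_closure ⟨f * b', by
        rw [Nat.add_comm]; exact SetLike.mul_mem_graded (hT hf) hb', w, hw', (mul_smul f b' w).symm⟩
    · rw [smul_zero]; exact zero_mem _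
    · intro x y _ _ hx hy; rw [smul_add]; exact add_mem hx hy
    · intro x _ hx; rw [smul_neg]; exact neg_mem hx

/-- The sections of degree `k + e` coming from degree `k`. -/
abbrev genBy (k e : ℕ) : AddSubgroup (sect 𝒜 ℳ ((k : ℤ) + e) (op (⊤ : Opens (ProjectiveSpectrum.top 𝒜)))) :=
  ⨆ a : 𝒜 e, (GrMod.smulSect 𝒜 ℳ a (k : ℤ) (op (⊤ : Opens (ProjectiveSpectrum.top 𝒜)))).range

/-- `t` is the section `c / 1`. -/
def HasVal {n : ℤ} (t : sect 𝒜 ℳ n (op (⊤ : Opens (ProjectiveSpectrum.top 𝒜)))) (c : M) : Prop :=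
  ∀ x : (⊤ : Opens (ProjectiveSpectrum.top 𝒜)),
    ((t.1 x : tildeAt 𝒜 ℳ n x.1) : LocMod 𝒜 (M := M) x.1) = one' (𝒜 := 𝒜) c x.1

set_option linter.unusedSectionVars false

theorem hasVal_zero {n : ℤ} : HasVal ℳ (0 : sect 𝒜 ℳ n (op (⊤ : Opens (ProjectiveSpectrum.top 𝒜)))) 0 :=
  fun x => (fracAt_zero 𝒜 x.1 1 _).symm

theorem HasVal.add {n : ℤ} {t t' : sect 𝒜 ℳ n (op (⊤ : Opens (ProjectiveSpectrum.top 𝒜)))} {c c' : M}
    (h : HasVal ℳ t c) (h' : HasVal ℳ t' c') : HasVal ℳ (t + t') (c + c') := fun x =>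
  (congrArg₂ (· + ·) (h x) (h' x)).trans ((LocalizedModule.mkLinearMap _ M).map_add c c').symm

theorem HasVal.neg {n : ℤ} {t : sect 𝒜 ℳ n (op (⊤ : Opens (ProjectiveSpectrum.top 𝒜)))} {c : M}
    (h : HasVal ℳ t c) : HasVal ℳ (-t) (-c) := fun x =>
  (congrArg Neg.neg (h x)).trans ((LocalizedModule.mkLinearMap _ M).map_neg c).symm

theorem hasVal_smulSect {k e : ℕ} (b : 𝒜 e) (w : ℳ k) :
    HasVal ℳ (GrMod.smulSect 𝒜 ℳ b (k : ℤ) _ (GrMod.globalOf 𝒜 ℳ w)) ((b : A) • (w : M)) := fun x => by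
  show (Localization.mk (b : A) 1 : GrTwist.Loc 𝒜 x.1) • LocalizedModule.mk (w : M) _ = _
  rw [LocalizedModule.mk_smul_mk, one_mul]
  rfl

theorem exists_hasVal {k e : ℕ} {c : M}
    (hc : c ∈ AddSubgroup.closure {c : M | ∃ b ∈ 𝒜 e, ∃ w ∈ ℳ k, c = b • w}) :
    ∃ t ∈ genBy (𝒜 := 𝒜) ℳ k e, HasVal ℳ t c := by
  induction hc using AddSubgroup.closure_induction with
  | mem c hc =>
    obtain ⟨b, hb, w, hw, rfl⟩ := hc
    exact ⟨_, le_iSup (fun a : 𝒜 e => (GrMod.smulSect 𝒜 ℳ a (k : ℤ)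
      (op (⊤ : Opens (ProjectiveSpectrum.top 𝒜)))).range) ⟨b, hb⟩ ⟨_, rfl⟩, hasVal_smulSect ℳ ⟨b, hb⟩ ⟨w, hw⟩⟩
  | zero => exact ⟨0, zero_mem _, hasVal_zero ℳ⟩
  | add a b _ _ ha hb =>
    obtain ⟨ta, hta, ha⟩ := ha
    obtain ⟨tb, htb, hb⟩ := hb
    exact ⟨ta + tb, add_mem hta htb, ha.add ℳ hb⟩
  | neg a _ ha =>
    obtain ⟨ta, hta, ha⟩ := ha
    exact ⟨-ta, neg_mem hta, ha.neg ℳ⟩

theorem sections_generated [IsNoetherianRing A]
    (hgen : (HomogeneousIdeal.irrelevant 𝒜).toIdeal = Ideal.span (𝒜 1 : Set A))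
    (hTF : ∃ k : ℕ, (Submodule.span A (⋃ i ∈ Set.Ici k, (ℳ i : Set M))).FG) :
    ∃ k : ℕ, ∀ e : ℕ,
      (⨆ a : 𝒜 e, (GrMod.smulSect 𝒜 ℳ a (k : ℤ)
        (op (⊤ : Opens (ProjectiveSpectrum.top 𝒜)))).range) = ⊤ := by
  obtain ⟨k₀, hk₀⟩ := hTF
  obtain ⟨r, ⟨g⟩⟩ := exists_gens 𝒜
  obtain ⟨n₀, hT1⟩ := exists_T1 g ℳ hk₀
  have hsurj := surjective_of_T1 g ℳ hT1
  have hG := exists_gen_degree (𝒜 := 𝒜) (ℳ := ℳ) hgen (k₀ := k₀) hk₀
  obtain ⟨k₁, hk₁⟩ := hG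
  have hex : ∃ k : ℕ, n₀ ≤ k ∧ k₁ ≤ k := ⟨n₀ + k₁, Nat.le_add_right _ _, Nat.le_add_left _ _⟩
  clear hgen
  obtain ⟨k, hkn, hkk⟩ := hex
  refine ⟨k, fun e => top_le_iff.1 fun s _ => ?_⟩
  have key : ∀ q : ℤ, q = ((k + e : ℕ) : ℤ) → ∀ t : sect 𝒜 ℳ q (op ⊤),
      ∃ m ∈ ℳ (k + e), ∀ x : (⊤ : Opens (ProjectiveSpectrum.top 𝒜)),
        ((t.1 x : tildeAt 𝒜 ℳ q x.1) : LocMod 𝒜 (M := M) x.1) = one' (𝒜 := 𝒜) m x.1 := by
    rintro q rfl t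
    obtain ⟨m, hm, h⟩ := hsurj (k + e) (by omega) t
    exact ⟨m, hm, fun x => h x.1⟩
  have h := key ((k : ℤ) + (e : ℤ)) (Nat.cast_add k e).symm s
  clear key
  obtain ⟨z, hz, hsz⟩ := h
  have h2 := exists_hasVal (𝒜 := 𝒜) (ℳ := ℳ) (k := k) (e := e) (c := z) (hk₁ k hkk e z hz)
  obtain ⟨t, ht, hts⟩ := h2
  have hst : s = t := Subtype.ext (funext fun x => Subtype.ext ((hsz x).trans (hts x).symm))
  exact hst ▸ ht

end Groth.Agent.H10Coh.GradedTail
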