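import Groth.Agent.H10Coh.GradedTail
import Groth.Agent.H11Tilde.TildeLoc

/-!
# The bounds of `M_n → Γ(M(n)~)` pass to localisations in degree zero
-/

set_option autoImplicit false
set_option linter.style.haveILetI false
set_option backward.isDefEq.respectTransparency.types false

noncomputable section

universe u

open CategoryTheory AlgebraicGeometry TopologicalSpace Opposite
open scoped HomogeneousIdeal

namespace Groth.Agent.H10Coh.GradedTail

open H11Tilde GrMod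

variable {A σA B σB : Type u} [CommRing A] [SetLike σA A] [AddSubgroupClass σA A] {𝒜 : ℕ → σA} [GradedRing 𝒜]
  [CommRing B] [SetLike σB B] [AddSubgroupClass σB B] {ℬ : ℕ → σB} [GradedRing ℬ]
  (ψ : 𝒜 →+*ᵍ ℬ)

/-- The image of a family of generators of the irrelevant ideal. -/
def Gens.map {r : ℕ} (g : Gens 𝒜 r) (hψ : ℬ₊ ≤ (𝒜₊).map ψ) : Gens ℬ r where
  f i := ψ (g.f i)
  d := g.d
  pos := g.pos
  mem i := ψ.map_mem (g.mem i)
  span := by
    refine le_antisymm ?_ (Ideal.span_le.2 ?_)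
    · refine le_trans (show (ℬ₊).toIdeal ≤ ((𝒜₊).map ψ).toIdeal from hψ) ?_
      rw [HomogeneousIdeal.toIdeal_map, g.span, Ideal.map_span, ← Set.range_comp]
      rfl
    · rintro _ ⟨i, rfl⟩
      exact HomogeneousIdeal.mem_irrelevant_of_mem ℬ (g.pos i) (ψ.map_mem (g.mem i))

theorem Gens.map_f {r : ℕ} (g : Gens 𝒜 r) (hψ : ℬ₊ ≤ (𝒜₊).map ψ) (i : Fin r) : (g.map ψ hψ).f i = ψ (g.f i) := rfl

variable (hψ : ℬ₊ ≤ (𝒜₊).map ψ) (c : 𝒜 0)
  {M τ : Type u} [AddCommGroup M] [Module A M] [SetLike τ M] [AddSubgroupClass τ M] {ℳ : ℕ → τ}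
  [SetLike.GradedSMul 𝒜 ℳ] [DirectSum.Decomposition ℳ]
  {N τ' : Type u} [AddCommGroup N] [Module B N] [SetLike τ' N] [AddSubgroupClass τ' N] {𝒩 : ℕ → τ'}
  [SetLike.GradedSMul ℬ 𝒩] [DirectSum.Decomposition 𝒩]
  (v : M →ₛₗ[ψ.toRingHom] N) (hv : ∀ (i : ℕ) (m : M), m ∈ ℳ i → v m ∈ 𝒩 i)
  (hu : IsUnit (ψ (c : A)))
  (hsurj : ∀ x : N, ∃ (k : ℕ) (m : M), ψ (c : A) ^ k • x = v m)
  (hinj : ∀ m : M, v m = 0 → ∃ l : ℕ, (c : A) ^ l • m = 0)
  {r : ℕ} (g : Gens 𝒜 r) {n₀ : ℕ}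

omit [SetLike.GradedSMul 𝒜 ℳ] in
theorem pow_c_mem [SetLike.GradedSMul 𝒜 ℳ] {k i : ℕ} {m : M} (hm : m ∈ ℳ i) : (c : A) ^ k • m ∈ ℳ i := by
  simpa using SetLike.GradedSMul.smul_mem (SetLike.pow_mem_graded k c.2) hm

include hv hu hsurj hinj in
theorem T0.map (h : T0 g ℳ n₀) : T0 (g.map ψ hψ) 𝒩 n₀ := by
  intro n hn x hx ht
  obtain ⟨k, m, hm, hkm⟩ := TildeLoc.exists_eq_v ψ c v hv hsurj hx
  choose e he using ht
  have hl : ∀ j, ∃ l : ℕ, (c : A) ^ l • g.f j ^ e j • m = 0 := fun j => by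
    refine hinj _ ?_
    rw [TildeLoc.v_smul, ← hkm, map_pow, smul_comm, ← Gens.map_f ψ g hψ, he j, smul_zero]
  choose l hl using hl
  have h0 : (c : A) ^ Finset.univ.sup l • m = 0 := h n hn _ (pow_c_mem c hm) fun j => ⟨e j, by
    rw [smul_comm, ← Nat.sub_add_cancel (Finset.le_sup (Finset.mem_univ j) : l j ≤ Finset.univ.sup l), pow_add,
      mul_smul, hl j, smul_zero]⟩
  have h1 := congrArg v h0
  rw [TildeLoc.v_smul, ← hkm, map_zero, map_pow, smul_smul] at h1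
  exact ((hu.pow _).mul (hu.pow _)).smul_eq_zero.1 h1

include hv hu hsurj hinj in
theorem T1.map (h : T1 g ℳ n₀) : T1 (g.map ψ hψ) 𝒩 n₀ := by
  intro n hn x hx ht
  have hxl : ∀ i, ∃ (k : ℕ) (m : M), m ∈ ℳ (g.d i + n) ∧ ψ (c : A) ^ k • x i = v m := fun i =>
    TildeLoc.exists_eq_v ψ c v hv hsurj (hx i)
  choose k m hm hkm using hxl
  let K := Finset.univ.sup k
  let m' : Fin r → M := fun i => (c : A) ^ (K - k i) • m i
  have hm' : ∀ i, v (m' i) = ψ (c : A) ^ K • x i := fun i => by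
    simp only [m']
    rw [TildeLoc.v_smul, ← hkm, map_pow, smul_smul, ← pow_add,
      Nat.sub_add_cancel (Finset.le_sup (Finset.mem_univ i) : k i ≤ K)]
  choose e p hp using ht
  choose kq q hq using fun j => hsurj (p j)
  have hl : ∀ j i, ∃ l : ℕ,
      (c : A) ^ l • ((c : A) ^ kq j • g.f j ^ e j • m' i - (c : A) ^ K • g.f i • q j) = 0 := fun j i => by
    refine hinj _ ?_
    rw [map_sub, sub_eq_zero]
    simp only [TildeLoc.v_smul, map_pow, hm', ← hq j]
    have hpi : ψ (g.f i) • p j = ψ (g.f j) ^ e j • x i := congrFun (hp j) i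
    rw [smul_comm (ψ (g.f i)), hpi]
    simp only [smul_smul]
    congr 1
    ring
  choose l hl using hl
  let L := Finset.univ.sup fun j => kq j + Finset.univ.sup (l j)
  obtain ⟨y, hy⟩ : (fun i => (c : A) ^ L • m' i) ∈ LinearMap.range (phi g M) := by
    refine h n hn _ (fun i => pow_c_mem c (pow_c_mem c (hm i))) fun j =>
      ⟨e j, (c : A) ^ (L - kq j) • (c : A) ^ K • q j, funext fun i => ?_⟩
    have hjL : kq j + Finset.univ.sup (l j) ≤ L :=
      Finset.le_sup (f := fun j => kq j + Finset.univ.sup (l j)) (Finset.mem_univ j)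
    have hiL : l j i ≤ L - kq j := by
      have := (Finset.le_sup (Finset.mem_univ i) : l j i ≤ Finset.univ.sup (l j))
      omega
    have h3 : (c : A) ^ (L - kq j) • ((c : A) ^ kq j • g.f j ^ e j • m' i - (c : A) ^ K • g.f i • q j) = 0 := by
      rw [← Nat.sub_add_cancel hiL, pow_add, mul_smul, hl j i, smul_zero]
    rw [smul_sub, sub_eq_zero, smul_smul ((c : A) ^ (L - kq j)) ((c : A) ^ kq j), ← pow_add,
      Nat.sub_add_cancel (by omega : kq j ≤ L)] at h3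
    show g.f i • (c : A) ^ (L - kq j) • (c : A) ^ K • q j = g.f j ^ e j • (c : A) ^ L • m' i
    rw [smul_comm (g.f j ^ e j), h3]
    simp only [smul_smul]
    congr 1
    ring
  obtain ⟨w, hw⟩ := (hu.pow (L + K)).exists_left_inv
  refine ⟨w • v y, funext fun i => ?_⟩
  show ψ (g.f i) • w • v y = x i
  rw [smul_comm, ← TildeLoc.v_smul, show g.f i • y = (c : A) ^ L • m' i from congrFun hy i,
    TildeLoc.v_smul, map_pow, hm', smul_smul, smul_smul, mul_assoc, ← pow_add, hw, one_smul]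

end Groth.Agent.H10Coh.GradedTail
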