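import Groth.Agent.H10Coh.GradedTailLoc
import Groth.Agent.H11Tilde.ModLoc

/-!
# A uniform bound for `ℳ_n → π_*(ℳ(n)~)` over a Noetherian base
-/

set_option autoImplicit false
set_option linter.style.haveILetI false
set_option backward.isDefEq.respectTransparency.types false

noncomputable section

universe u

open CategoryTheory AlgebraicGeometry TopologicalSpace Opposite
open scoped HomogeneousIdeal

namespace Groth.Agent.H10Coh.GradedTail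

open H11Tilde GrMod

variable {Y : Scheme.{u}} {𝒮 : RelProj.QCGrAlg Y} (ℳ : RelProj.GrModule 𝒮)

/-- The degree zero element of a function on the base. -/
def cst {U : Y.Opens} (hU : IsAffineOpen U) (r : Γ(Y, U)) : 𝒮.deg U hU 0 :=
  ⟨(𝒮.str.app (op U)).hom r, 𝒮.str_mem U hU r⟩

theorem isUnit_res_cst {U : Y.Opens} (hU : IsAffineOpen U) (r : Γ(Y, U)) :
    IsUnit (𝒮.res hU (hU.basicOpen r) (Y.basicOpen_le r) (cst (𝒮 := 𝒮) hU r : 𝒮.presheaf.obj (op U))) := by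
  letI := (𝒮.res hU (hU.basicOpen r) (Y.basicOpen_le r)).toRingHom.toAlgebra
  haveI : IsLocalization.Away (cst (𝒮 := 𝒮) hU r : 𝒮.presheaf.obj (op U)) (𝒮.presheaf.obj (op (Y.basicOpen r))) :=
    𝒮.isQC U hU r
  exact IsLocalization.Away.algebraMap_isUnit (S := 𝒮.presheaf.obj (op (Y.basicOpen r)))
    (cst (𝒮 := 𝒮) hU r : 𝒮.presheaf.obj (op U))

theorem res_surj (hℳ : Coh.IsQCoh ((AMod.toOS 𝒮.toQCAlg).obj ℳ.mod)) {U : Y.Opens} (hU : IsAffineOpen U)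
    (r : Γ(Y, U)) (x : ℳ.mod.val.obj (op (Y.basicOpen r))) :
    ∃ (k : ℕ) (m : ℳ.mod.val.obj (op U)),
      𝒮.res hU (hU.basicOpen r) (Y.basicOpen_le r) (cst (𝒮 := 𝒮) hU r : 𝒮.presheaf.obj (op U)) ^ k • x =
        ℳ.res hU (hU.basicOpen r) (Y.basicOpen_le r) m := by
  haveI : ((AMod.toOS 𝒮.toQCAlg).obj ℳ.mod).IsQuasicoherent := hℳ
  obtain ⟨k, m, hm⟩ := H10Coh.exists_pow_smul_eq_res ((AMod.toOS 𝒮.toQCAlg).obj ℳ.mod) hU r x
  refine ⟨k, m, ?_⟩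
  have hstr : (𝒮.str.app (op (Y.basicOpen r))).hom (Y.presheaf.map (homOfLE (Y.basicOpen_le r)).op r) =
      𝒮.res hU (hU.basicOpen r) (Y.basicOpen_le r) (cst (𝒮 := 𝒮) hU r : 𝒮.presheaf.obj (op U)) :=
    congr($(𝒮.str.naturality (homOfLE (Y.basicOpen_le r)).op) r)
  rw [← hstr, ← map_pow, ← map_pow]
  exact hm.symm

theorem res_inj (hℳ : Coh.IsQCoh ((AMod.toOS 𝒮.toQCAlg).obj ℳ.mod)) {U : Y.Opens} (hU : IsAffineOpen U)
    (r : Γ(Y, U)) (m : ℳ.mod.val.obj (op U))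
    (hm : ℳ.res hU (hU.basicOpen r) (Y.basicOpen_le r) m = 0) :
    ∃ l : ℕ, (cst (𝒮 := 𝒮) hU r : 𝒮.presheaf.obj (op U)) ^ l • m = 0 := by
  haveI : ((AMod.toOS 𝒮.toQCAlg).obj ℳ.mod).IsQuasicoherent := hℳ
  obtain ⟨l, hl⟩ := H10Coh.exists_pow_smul_eq_zero_of_isCompact ((AMod.toOS 𝒮.toQCAlg).obj ℳ.mod)
    hU.isCompact r m hm
  refine ⟨l, ?_⟩
  show (𝒮.str.app (op U)).hom r ^ l • m = 0
  rw [← map_pow]
  exact hl

theorem mem_preimage_basicOpen {A σ : Type u} [CommRing A] [SetLike σ A] [AddSubgroupClass σ A] (𝒜 : ℕ → σ)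
    [GradedRing 𝒜] (c : 𝒜 0) (z : (Proj 𝒜 : Scheme.{u})) (hz : (c : A) ∉ z.asHomogeneousIdeal) :
    z ∈ Proj.toSpecZero 𝒜 ⁻¹ᵁ PrimeSpectrum.basicOpen c := by
  obtain ⟨j, w, rfl⟩ := (Proj.affineOpenCover 𝒜).openCover.exists_eq z
  obtain ⟨⟨m, hm⟩, f, hf⟩ : Σ i : PNat, 𝒜 i := j
  replace hf : f ∈ 𝒜 m := hf
  have hcf : (c : A) * f ∈ 𝒜 m := by simpa using SetLike.mul_mem_graded c.2 hf
  have hfz : Proj.awayι 𝒜 f hf hm w ∈ Proj.basicOpen 𝒜 f := by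
    rw [← Proj.opensRange_awayι 𝒜 f hf hm]
    exact ⟨w, rfl⟩
  have h1 : w ∈ Proj.awayι 𝒜 f hf hm ⁻¹ᵁ Proj.basicOpen 𝒜 ((c : A) * f) := by
    show Proj.awayι 𝒜 f hf hm w ∈ Proj.basicOpen 𝒜 ((c : A) * f)
    rw [Proj.basicOpen_mul]
    exact ⟨hz, hfz⟩
  rw [Proj.awayι_preimage_basicOpen (𝒜 := 𝒜) hf hm hcf hm] at h1
  show Proj.toSpecZero 𝒜 (Proj.awayι 𝒜 f hf hm w) ∈ PrimeSpectrum.basicOpen c
  rw [← Scheme.Hom.comp_apply, Proj.awayι_toSpecZero]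
  have h2 : HomogeneousLocalization.Away.isLocalizationElem hf hcf =
      HomogeneousLocalization.fromZeroRingHom 𝒜 (Submonoid.powers f) c ^ m := by
    ext
    simp [HomogeneousLocalization.Away.isLocalizationElem, HomogeneousLocalization.fromZeroRingHom,
      Localization.mk_pow, Localization.mk_eq_mk_iff, Localization.r_iff_exists, mul_pow]
    exact ⟨1, one_mem _, by ring⟩
  rw [h2, PrimeSpectrum.basicOpen_pow _ _ hm] at h1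
  exact h1

/-- `α_n` is bijective over `W`. -/
def Bij (n : ℕ) (W : Y.Opens) : Prop :=
  ∀ hW : IsAffineOpen W, Function.Bijective (GrMod.alpha (𝒮.deg W hW) (ℳ.deg W hW) n)

/-- Over an affine open there is a bound valid on all its basic opens. -/
theorem exists_bound_basicOpen (hℳ : Coh.IsQCoh ((AMod.toOS 𝒮.toQCAlg).obj ℳ.mod)) [IsLocallyNoetherian Y]
    (hft : ∀ (U : Y.Opens) (hU : IsAffineOpen U), (𝒮.str.app (op U)).hom.FiniteType) (hTF : ℳ.IsTF)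
    (U : Y.affineOpens) : ∃ N : ℕ, ∀ n, N ≤ n → ∀ r : Γ(Y, U.1), Bij ℳ n (Y.basicOpen r) := by
  haveI : IsNoetherianRing Γ(Y, U.1) := IsLocallyNoetherian.component_noetherian U
  haveI : IsNoetherianRing (𝒮.presheaf.obj (op U.1)) := by
    letI := (𝒮.str.app (op U.1)).hom.toAlgebra
    haveI : Algebra.FiniteType (Y.presheaf.obj (op U.1)) (𝒮.presheaf.obj (op U.1)) := hft U.1 U.2
    exact Algebra.FiniteType.isNoetherianRing (Y.presheaf.obj (op U.1)) (𝒮.presheaf.obj (op U.1))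
  obtain ⟨k, hk⟩ := hTF
  obtain ⟨r₀, ⟨g⟩⟩ := exists_gens (𝒮.deg U.1 U.2)
  obtain ⟨n₀, h0, h1⟩ := exists_bounds g (ℳ.deg U.1 U.2) (hk U.1 U.2)
  refine ⟨n₀, fun n hn r hW => ?_⟩
  let ψ := 𝒮.res U.2 hW (Y.basicOpen_le r)
  have hψ := 𝒮.irrelevant_le_map U.1 U.2 r
  exact bijective_of_bounds (g.map ψ hψ) _
    (h0.map ψ hψ (cst U.2 r) (ℳ.res U.2 hW (Y.basicOpen_le r)) (ℳ.res_mem _ _ _) (isUnit_res_cst U.2 r)
      (res_surj ℳ hℳ U.2 r) (res_inj ℳ hℳ U.2 r) g)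
    (h1.map ψ hψ (cst U.2 r) (ℳ.res U.2 hW (Y.basicOpen_le r)) (ℳ.res_mem _ _ _) (isUnit_res_cst U.2 r)
      (res_surj ℳ hℳ U.2 r) (res_inj ℳ hℳ U.2 r) g) hn

theorem one'_res {U W : Y.Opens} (hU : IsAffineOpen U) (hW : IsAffineOpen W) (h : W ≤ U)
    (hψ : (𝒮.deg W hW)₊ ≤ ((𝒮.deg U hU)₊).map (𝒮.res hU hW h)) (m : ℳ.mod.val.obj (op U))
    (y : ProjectiveSpectrum (𝒮.deg W hW)) :
    GrMod.locModMap (𝒮.res hU hW h) hψ (ℳ.res hU hW h) y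
        (one' (𝒜 := 𝒮.deg U hU) m (ProjectiveSpectrum.comap (𝒮.res hU hW h) hψ y)) =
      one' (𝒜 := 𝒮.deg W hW) (ℳ.res hU hW h m) y := by
  refine (GrMod.locModMap_mk (𝒮.res hU hW h) hψ (ℳ.res hU hW h) y m _).trans ?_
  exact fracAt_congr _ _ _ _ rfl (map_one _)

/-- Global twisted sections over an affine open. -/
abbrev Sec {U : Y.Opens} (hU : IsAffineOpen U) (n : ℕ) : Type u :=
  GrMod.sect (𝒮.deg U hU) (ℳ.deg U hU) (n : ℤ) (op (⊤ : Opens (ProjectiveSpectrum.top (𝒮.deg U hU))))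

/-- Restriction of global twisted sections. -/
abbrev rs {U W : Y.Opens} (hU : IsAffineOpen U) (hW : IsAffineOpen W) (h : W ≤ U)
    (hψ : (𝒮.deg W hW)₊ ≤ ((𝒮.deg U hU)₊).map (𝒮.res hU hW h)) (n : ℕ) (s : Sec ℳ hU n) : Sec ℳ hW n :=
  GrMod.comapApp (𝒮.res hU hW h) hψ (ℳ.res hU hW h) (ℳ.res_mem hU hW h) (n : ℤ) ⊤ ⊤ (fun _ _ => trivial) s

theorem rs_alpha {U W : Y.Opens} (hU : IsAffineOpen U) (hW : IsAffineOpen W) (h : W ≤ U)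
    (hψ : (𝒮.deg W hW)₊ ≤ ((𝒮.deg U hU)₊).map (𝒮.res hU hW h)) (n : ℕ) (m : ℳ.deg U hU n) :
    rs ℳ hU hW h hψ n (GrMod.alpha (𝒮.deg U hU) (ℳ.deg U hU) n m) =
      GrMod.alpha (𝒮.deg W hW) (ℳ.deg W hW) n ⟨_, ℳ.res_mem hU hW h n _ m.2⟩ :=
  Subtype.ext (funext fun y => Subtype.ext (one'_res ℳ hU hW h hψ (m : ℳ.mod.val.obj (op U)) y.1))

theorem res_comp {U V W : Y.Opens} (hU : IsAffineOpen U) (hV : IsAffineOpen V) (hW : IsAffineOpen W)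
    (h₁ : V ≤ U) (h₂ : W ≤ V) (h₃ : W ≤ U) : 𝒮.res hU hW h₃ = (𝒮.res hV hW h₂).comp (𝒮.res hU hV h₁) :=
  DFunLike.ext _ _ fun x => congr($(𝒮.presheaf.map_comp (homOfLE h₁).op (homOfLE h₂).op) x)

theorem rs_rs {U V W : Y.Opens} (hU : IsAffineOpen U) (hV : IsAffineOpen V) (hW : IsAffineOpen W)
    (h₁ : V ≤ U) (h₂ : W ≤ V) (h₃ : W ≤ U)
    (hψ₁ : (𝒮.deg V hV)₊ ≤ ((𝒮.deg U hU)₊).map (𝒮.res hU hV h₁))
    (hψ₂ : (𝒮.deg W hW)₊ ≤ ((𝒮.deg V hV)₊).map (𝒮.res hV hW h₂))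
    (hψ₃ : (𝒮.deg W hW)₊ ≤ ((𝒮.deg U hU)₊).map (𝒮.res hU hW h₃)) (n : ℕ) (s : Sec ℳ hU n) :
    rs ℳ hV hW h₂ hψ₂ n (rs ℳ hU hV h₁ hψ₁ n s) = rs ℳ hU hW h₃ hψ₃ n s := by
  have e := res_comp (𝒮 := 𝒮) hU hV hW h₁ h₂ h₃
  have hw : ∀ m, ℳ.res hU hW h₃ m = ℳ.res hV hW h₂ (ℳ.res hU hV h₁ m) := fun m =>
    TildeLoc.res_res ℳ hU hV hW h₁ h₂ h₃ m
  exact TildeLoc.comapApp_comp (ψ := 𝒮.res hU hV h₁) (hψ := hψ₁) (v := ℳ.res hU hV h₁)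
    (hv := ℳ.res_mem hU hV h₁) (n := (n : ℤ)) (𝒮.res hV hW h₂) hψ₂ (ℳ.res hV hW h₂)
    (ℳ.res_mem hV hW h₂) e hψ₃ (ℳ.res hU hW h₃) (ℳ.res_mem hU hW h₃) hw ⊤ ⊤ ⊤ _ _ _ s

theorem res_eq_of_alpha_eq {n : ℕ} {U : Y.Opens} (hU : IsAffineOpen U) (f : Γ(Y, U))
    (hb : Bij ℳ n (Y.basicOpen f)) (a b : ℳ.deg U hU n)
    (h : GrMod.alpha (𝒮.deg U hU) (ℳ.deg U hU) n a = GrMod.alpha (𝒮.deg U hU) (ℳ.deg U hU) n b) :
    ℳ.res hU (hU.basicOpen f) (Y.basicOpen_le f) a = ℳ.res hU (hU.basicOpen f) (Y.basicOpen_le f) b := by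
  have hψ := 𝒮.irrelevant_le_map U hU f
  have h1 := rs_alpha ℳ hU (hU.basicOpen f) (Y.basicOpen_le f) hψ n a
  have h2 := rs_alpha ℳ hU (hU.basicOpen f) (Y.basicOpen_le f) hψ n b
  rw [h] at h1
  have h3 := (hb (hU.basicOpen f)).1 (h1.symm.trans h2)
  exact congrArg Subtype.val h3

theorem alpha_injective_of_local (n : ℕ) (S : Set Y.Opens) (hS : ∀ W ∈ S, Bij ℳ n W)
    (hcov : ∀ (V : Y.affineOpens), ∀ x ∈ V.1, ∃ f : Γ(Y, V.1), x ∈ Y.basicOpen f ∧ Y.basicOpen f ∈ S)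
    {V : Y.Opens} (hV : IsAffineOpen V) :
    Function.Injective (GrMod.alpha (𝒮.deg V hV) (ℳ.deg V hV) n) := by
  intro a b h
  refine Subtype.ext (H11Tilde.eq_of_locally (F := (AMod.toOS 𝒮.toQCAlg).obj ℳ.mod) _ _ fun x hx => ?_)
  obtain ⟨f, hxf, hfS⟩ := hcov ⟨V, hV⟩ x hx
  exact ⟨Y.basicOpen f, Y.basicOpen_le f, hxf, res_eq_of_alpha_eq ℳ hV f (hS _ hfS) a b h⟩

theorem irrelevant_le_mul {V : Y.Opens} (hV : IsAffineOpen V) (f g : Γ(Y, V))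
    (hW : IsAffineOpen (Y.basicOpen (f * g))) (ha : Y.basicOpen (f * g) ≤ Y.basicOpen f) :
    (𝒮.deg _ hW)₊ ≤ ((𝒮.deg _ (hV.basicOpen f))₊).map (𝒮.res (hV.basicOpen f) hW ha) :=
  Groth.Agent.H11Proj.site_irrelevant_le 𝒮 (U := ⟨Y.basicOpen f, hV.basicOpen f⟩)
    (V := ⟨Y.basicOpen (f * g), hW⟩)
    ⟨Y.presheaf.map (homOfLE (Y.basicOpen_le f)).op g,
      (Y.basicOpen_res g (homOfLE (Y.basicOpen_le f)).op).trans (Y.basicOpen_mul f g).symm⟩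

theorem alpha_res_left {n : ℕ} {V : Y.Opens} (hV : IsAffineOpen V) (f g : Γ(Y, V))
    (hW : IsAffineOpen (Y.basicOpen (f * g))) (ha : Y.basicOpen (f * g) ≤ Y.basicOpen f)
    (m : ℳ.deg (Y.basicOpen f) (hV.basicOpen f) n) (s : Sec ℳ hV n)
    (hm : GrMod.alpha (𝒮.deg _ (hV.basicOpen f)) (ℳ.deg _ (hV.basicOpen f)) n m =
      rs ℳ hV (hV.basicOpen f) (Y.basicOpen_le f) (𝒮.irrelevant_le_map V hV f) n s) :
    GrMod.alpha (𝒮.deg _ hW) (ℳ.deg _ hW) n ⟨_, ℳ.res_mem (hV.basicOpen f) hW ha n _ m.2⟩ =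
      rs ℳ hV hW (Y.basicOpen_le _) (𝒮.irrelevant_le_map V hV (f * g)) n s := by
  rw [← rs_alpha ℳ (hV.basicOpen f) hW ha (irrelevant_le_mul hV f g hW ha) n m, hm]
  exact rs_rs ℳ hV (hV.basicOpen f) hW (Y.basicOpen_le f) ha (Y.basicOpen_le _)
    (𝒮.irrelevant_le_map V hV f) (irrelevant_le_mul hV f g hW ha) (𝒮.irrelevant_le_map V hV (f * g)) n s

theorem alpha_res_right {n : ℕ} {V : Y.Opens} (hV : IsAffineOpen V) (f g : Γ(Y, V))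
    (hW : IsAffineOpen (Y.basicOpen (f * g))) (hb : Y.basicOpen (f * g) ≤ Y.basicOpen g)
    (m : ℳ.deg (Y.basicOpen g) (hV.basicOpen g) n) (s : Sec ℳ hV n)
    (hm : GrMod.alpha (𝒮.deg _ (hV.basicOpen g)) (ℳ.deg _ (hV.basicOpen g)) n m =
      rs ℳ hV (hV.basicOpen g) (Y.basicOpen_le g) (𝒮.irrelevant_le_map V hV g) n s) :
    GrMod.alpha (𝒮.deg _ hW) (ℳ.deg _ hW) n ⟨_, ℳ.res_mem (hV.basicOpen g) hW hb n _ m.2⟩ =
      rs ℳ hV hW (Y.basicOpen_le _) (𝒮.irrelevant_le_map V hV (f * g)) n s := by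
  have key : ∀ (p : Γ(Y, V)) (_ : g * f = p) (hW : IsAffineOpen (Y.basicOpen p))
      (hb : Y.basicOpen p ≤ Y.basicOpen g),
      GrMod.alpha (𝒮.deg _ hW) (ℳ.deg _ hW) n ⟨_, ℳ.res_mem (hV.basicOpen g) hW hb n _ m.2⟩ =
        rs ℳ hV hW (Y.basicOpen_le _) (𝒮.irrelevant_le_map V hV p) n s := by
    rintro _ rfl hW hb
    exact alpha_res_left ℳ hV g f hW hb m s hm
  exact key _ (mul_comm g f) hW hb

theorem exists_cst_notMem {V : Y.Opens} (hV : IsAffineOpen V) {ι : Type u} (f : ι → Γ(Y, V))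
    (hspan : Ideal.span (Set.range f) = ⊤) (z : ProjectiveSpectrum (𝒮.deg V hV)) :
    ∃ i, (cst (𝒮 := 𝒮) hV (f i) : 𝒮.presheaf.obj (op V)) ∉ z.asHomogeneousIdeal := by
  by_contra h
  push Not at h
  have h0 : (1 : Γ(Y, V)) ∈ Ideal.span (Set.range f) := hspan.symm ▸ Submodule.mem_top
  have h1 := Ideal.mem_map_of_mem (𝒮.str.app (op V)).hom h0
  rw [map_one, Ideal.map_span, ← Set.range_comp] at h1
  exact z.isPrime.ne_top ((Ideal.eq_top_iff_one _).2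
    ((Ideal.span_le.2 (by rintro _ ⟨x, rfl⟩; exact h x)) h1))

theorem val_eq_of_rs_eq (hℳ : Coh.IsQCoh ((AMod.toOS 𝒮.toQCAlg).obj ℳ.mod)) {n : ℕ} {V : Y.Opens}
    (hV : IsAffineOpen V) (r : Γ(Y, V)) (s t : Sec ℳ hV n)
    (h : rs ℳ hV (hV.basicOpen r) (Y.basicOpen_le r) (𝒮.irrelevant_le_map V hV r) n s =
      rs ℳ hV (hV.basicOpen r) (Y.basicOpen_le r) (𝒮.irrelevant_le_map V hV r) n t)
    (z : ProjectiveSpectrum (𝒮.deg V hV))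
    (hz : (cst (𝒮 := 𝒮) hV r : 𝒮.presheaf.obj (op V)) ∉ z.asHomogeneousIdeal) :
    (s.1 ⟨z, trivial⟩).1 = (t.1 ⟨z, trivial⟩).1 := by
  have hloc : letI := (𝒮.res hV (hV.basicOpen r) (Y.basicOpen_le r)).toRingHom.toAlgebra
      IsLocalization.Away (cst (𝒮 := 𝒮) hV r : 𝒮.presheaf.obj (op V))
        (𝒮.presheaf.obj (op (Y.basicOpen r))) := 𝒮.isQC V hV r
  have hrange := (Groth.Agent.H11Proj.map_localization (𝒮.res hV (hV.basicOpen r) (Y.basicOpen_le r))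
    (𝒮.irrelevant_le_map V hV r) (cst (𝒮 := 𝒮) hV r) hloc).2
  have hz' : z ∈ Set.range (Proj.map (𝒮.res hV (hV.basicOpen r) (Y.basicOpen_le r))
      (𝒮.irrelevant_le_map V hV r)) := by
    rw [hrange]
    exact mem_preimage_basicOpen (𝒮.deg V hV) (cst (𝒮 := 𝒮) hV r) z hz
  obtain ⟨y, rfl⟩ := hz'
  have hinj := TildeLoc.locModMap_injective (ψ := 𝒮.res hV (hV.basicOpen r) (Y.basicOpen_le r))
    (hψ := 𝒮.irrelevant_le_map V hV r) (c := cst (𝒮 := 𝒮) hV r)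
    (v := ℳ.res hV (hV.basicOpen r) (Y.basicOpen_le r)) (hloc := hloc)
    (hinj := res_inj ℳ hℳ hV r) (y := y)
  exact hinj (congrArg Subtype.val (congrFun (congrArg Subtype.val h) ⟨y, trivial⟩))

/-- Two sections agreeing after restriction to a covering family of basic opens agree. -/
theorem sec_ext (hℳ : Coh.IsQCoh ((AMod.toOS 𝒮.toQCAlg).obj ℳ.mod)) {n : ℕ} {V : Y.Opens}
    (hV : IsAffineOpen V) {ι : Type u} (f : ι → Γ(Y, V)) (hspan : Ideal.span (Set.range f) = ⊤)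
    (s t : Sec ℳ hV n)
    (h : ∀ i, rs ℳ hV (hV.basicOpen (f i)) (Y.basicOpen_le (f i)) (𝒮.irrelevant_le_map V hV (f i)) n s =
      rs ℳ hV (hV.basicOpen (f i)) (Y.basicOpen_le (f i)) (𝒮.irrelevant_le_map V hV (f i)) n t) : s = t := by
  have key : ∀ z : ProjectiveSpectrum (𝒮.deg V hV), (s.1 ⟨z, trivial⟩).1 = (t.1 ⟨z, trivial⟩).1 := fun z =>
    (exists_cst_notMem (𝒮 := 𝒮) hV f hspan z).elim fun i hi => val_eq_of_rs_eq ℳ hℳ hV (f i) s t (h i) z hi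
  exact Subtype.ext (funext fun z => Subtype.ext (key z.1))

/-- Surjectivity is local on the base. -/
theorem alpha_surjective_of_local (hℳ : Coh.IsQCoh ((AMod.toOS 𝒮.toQCAlg).obj ℳ.mod)) (n : ℕ)
    (S : Set Y.Opens) (hS : ∀ W ∈ S, Bij ℳ n W)
    (hcov : ∀ (V : Y.affineOpens), ∀ x ∈ V.1, ∃ f : Γ(Y, V.1), x ∈ Y.basicOpen f ∧ Y.basicOpen f ∈ S)
    {V : Y.Opens} (hV : IsAffineOpen V) :
    Function.Surjective (GrMod.alpha (𝒮.deg V hV) (ℳ.deg V hV) n) := by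
  classical
  intro s
  choose f hxf hfS using fun x : V => hcov ⟨V, hV⟩ x.1 x.2
  choose m hm using fun x : V => (hS _ (hfS x) (hV.basicOpen (f x))).2
    (rs ℳ hV (hV.basicOpen (f x)) (Y.basicOpen_le (f x)) (𝒮.irrelevant_le_map V hV (f x)) n s)
  let F := (AMod.toOS 𝒮.toQCAlg).obj ℳ.mod
  obtain ⟨m₁, hm₁, -⟩ := TopCat.Sheaf.existsUnique_gluing' ⟨F.presheaf, F.isSheaf⟩
    (fun x : V => Y.basicOpen (f x)) V (fun x => homOfLE (Y.basicOpen_le (f x)))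
    (fun x hx => Opens.mem_iSup.2 ⟨⟨x, hx⟩, hxf ⟨x, hx⟩⟩)
    (fun x => (m x : ℳ.mod.val.obj (op (Y.basicOpen (f x)))))
    (fun a b => by
      have hW : IsAffineOpen (Y.basicOpen (f a * f b)) := hV.basicOpen _
      have e : Y.basicOpen (f a) ⊓ Y.basicOpen (f b) = Y.basicOpen (f a * f b) := (Y.basicOpen_mul _ _).symm
      have ha : Y.basicOpen (f a * f b) ≤ Y.basicOpen (f a) := e.ge.trans inf_le_left
      have hb : Y.basicOpen (f a * f b) ≤ Y.basicOpen (f b) := e.ge.trans inf_le_right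
      have h1 := alpha_res_left ℳ hV (f a) (f b) hW ha (m a) s (hm a)
      have h2 := alpha_res_right ℳ hV (f a) (f b) hW hb (m b) s (hm b)
      have hab := congrArg Subtype.val
        (alpha_injective_of_local ℳ n S hS hcov hW (h1.trans h2.symm))
      show F.presheaf.map _ _ = F.presheaf.map _ _
      have hgen : ∀ (W : Y.Opens) (_ : W = Y.basicOpen (f a * f b)) (i₁ : W ≤ Y.basicOpen (f a))
          (i₂ : W ≤ Y.basicOpen (f b)), F.presheaf.map (homOfLE i₁).op (m a : ℳ.mod.val.obj _) =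
            F.presheaf.map (homOfLE i₂).op (m b : ℳ.mod.val.obj _) := by
        rintro W rfl i₁ i₂
        exact hab
      exact hgen _ e inf_le_left inf_le_right)
  let m₀ : ℳ.mod.val.obj (op V) := m₁
  have hspan : Ideal.span (Set.range f) = ⊤ := by
    rw [← hV.iSup_basicOpen_eq_self_iff]
    refine le_antisymm (iSup_le fun g => Y.basicOpen_le g.1) fun x hx => ?_
    exact Opens.mem_iSup.2 ⟨⟨f ⟨x, hx⟩, ⟨x, hx⟩, rfl⟩, hxf ⟨x, hx⟩⟩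
  refine ⟨DirectSum.decompose (ℳ.deg V hV) m₀ n, sec_ext ℳ hℳ hV f hspan _ _ fun x => ?_⟩
  rw [rs_alpha, ← hm x]
  refine congrArg _ (Subtype.ext ?_)
  show ℳ.res hV (hV.basicOpen (f x)) (Y.basicOpen_le (f x))
      (DirectSum.decompose (ℳ.deg V hV) m₀ n : ℳ.mod.val.obj (op V)) = _
  rw [H11Tilde.TildeLoc.v_decompose (𝒮.res hV (hV.basicOpen (f x)) (Y.basicOpen_le (f x)))
    (ℳ.res hV (hV.basicOpen (f x)) (Y.basicOpen_le (f x))) (ℳ.res_mem _ _ _) m₀ n]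
  have h3 : ℳ.res hV (hV.basicOpen (f x)) (Y.basicOpen_le (f x)) m₀ = m x := hm₁ x
  rw [h3, DirectSum.decompose_of_mem_same (ℳ.deg (Y.basicOpen (f x)) (hV.basicOpen (f x))) (m x).2]

/-- Bijectivity is local on the base. -/
theorem bij_of_local (hℳ : Coh.IsQCoh ((AMod.toOS 𝒮.toQCAlg).obj ℳ.mod)) (n : ℕ) (S : Set Y.Opens)
    (hS : ∀ W ∈ S, Bij ℳ n W)
    (hcov : ∀ (V : Y.affineOpens), ∀ x ∈ V.1, ∃ f : Γ(Y, V.1), x ∈ Y.basicOpen f ∧ Y.basicOpen f ∈ S)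
    (V : Y.Opens) : Bij ℳ n V := fun hV =>
  ⟨alpha_injective_of_local ℳ n S hS hcov hV, alpha_surjective_of_local ℳ hℳ n S hS hcov hV⟩

theorem alpha_bijective_uniform [AlgebraicGeometry.IsNoetherian Y]
    (hft : ∀ (U : Y.Opens) (hU : IsAffineOpen U), (𝒮.str.app (op U)).hom.FiniteType)
    (hℳ : Coh.IsQCoh ((AMod.toOS 𝒮.toQCAlg).obj ℳ.mod)) (hTF : ℳ.IsTF) :
    ∃ N : ℕ, ∀ n : ℕ, N ≤ n → ∀ (U : Y.Opens) (hU : IsAffineOpen U),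
      Function.Bijective (GrMod.alpha (𝒮.deg U hU) (ℳ.deg U hU) n) := by
  classical
  choose N hN using exists_bound_basicOpen ℳ hℳ hft hTF
  obtain ⟨T, hT⟩ := isCompact_univ.elim_finite_subcover (fun U : Y.affineOpens => (U.1 : Set Y))
    (fun U => U.1.2) fun x _ => by
      obtain ⟨U, hU, hx, -⟩ := exists_isAffineOpen_mem_and_subset (U := (⊤ : Y.Opens)) (x := x) trivial
      exact Set.mem_iUnion.2 ⟨⟨U, hU⟩, hx⟩
  refine ⟨T.sup N, fun n hn U hU => bij_of_local ℳ hℳ n {W | ∃ U ∈ T, ∃ r : Γ(Y, U.1), W = Y.basicOpen r}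
    ?_ ?_ U hU⟩
  · rintro _ ⟨U, hUT, r, rfl⟩
    exact hN U n ((Finset.le_sup hUT).trans hn) r
  · intro V x hx
    obtain ⟨U, hUT, hxU⟩ := Set.mem_iUnion₂.1 (hT (Set.mem_univ x))
    obtain ⟨f, g, e, hxf⟩ := exists_basicOpen_le_affine_inter V.2 U.2 x ⟨hx, hxU⟩
    exact ⟨f, hxf, U, hUT, g, e⟩

end Groth.Agent.H10Coh.GradedTail
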