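import Groth.Agent.H10Coh.AffineLeray
import Groth.Agent.H10Coh.Support

/-!
# Higher direct images of quasi-coherent modules are quasi-coherent
-/

universe u

open CategoryTheory CategoryTheory.Limits AlgebraicGeometry Opposite TopologicalSpace

namespace Groth.Agent.H10Coh

attribute [local instance 10000] hasSheafifyAb hasWeakSheafifyAb hasExtAb enoughInjAb
attribute [local instance] enoughInjMod

/-- A module on `Spec R` whose sections localise is quasi-coherent. -/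
theorem isQuasicoherent_Spec_of_localizing {R : CommRingCat.{u}} (N : (Spec R).Modules)
    (hinj : ∀ (t : R) (s : Γ(N, ⊤)), rs N (le_top : D t ≤ ⊤) s = 0 → ∃ n : ℕ, (t ^ n : R) • s = 0)
    (hsurj : ∀ (t : R) (s' : Γ(N, D t)), ∃ (n : ℕ) (s : Γ(N, ⊤)),
      rs N (le_top : D t ≤ ⊤) s = (t ^ n : R) • s') : N.IsQuasicoherent := by
  rw [isQuasicoherent_iff_isIso_fromTildeΓ, isIso_fromTildeΓ_iff_isLocalizing]
  intro t
  let g := ((modulesSpecToSheaf.obj N).obj.map (PrimeSpectrum.basicOpen t).leTop.op).hom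
  refine
    { map_units := ?_
      surj := fun s' => ?_
      exists_of_eq := fun {a b} h => ?_ }
  · rintro ⟨_, k, rfl⟩
    change IsUnit (algebraMap R (Module.End R Γ(N, D t)) (t ^ k))
    rw [map_pow]
    exact (Scheme.Modules.isUnit_algebraMap_end_of_le_basicOpen (M := N) t le_rfl).pow k
  · obtain ⟨n, s, hs⟩ := hsurj t s'
    exact ⟨(s, ⟨t ^ n, n, rfl⟩), hs.symm⟩
  · obtain ⟨n, hn⟩ := hinj t (show Γ(N, ⊤) from a - b)
      ((map_sub (rs N (le_top : D t ≤ ⊤)) a b).trans (sub_eq_zero.2 h))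
    refine ⟨⟨t ^ n, n, rfl⟩, sub_eq_zero.1 ?_⟩
    exact (smul_sub (t ^ n) a b).symm.trans hn

/-- A module whose sections localise over affine opens is quasi-coherent. -/
theorem isQuasicoherent_of_localizing {X : Scheme.{u}} (N : X.Modules)
    (hinj : ∀ (W : X.Opens) (_ : IsAffineOpen W) (t : Γ(X, W)) (s : Γ(N, W)),
      rs N (X.basicOpen_le t) s = 0 → ∃ n : ℕ, t ^ n • s = 0)
    (hsurj : ∀ (W : X.Opens) (_ : IsAffineOpen W) (t : Γ(X, W)) (s' : Γ(N, X.basicOpen t)),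
      ∃ (n : ℕ) (s : Γ(N, W)), rs N (X.basicOpen_le t) s =
        X.presheaf.map (homOfLE (X.basicOpen_le t)).op (t ^ n) • s') : N.IsQuasicoherent := by
  refine isQuasicoherent_of_forall_affine N fun U hU => ?_
  let f := hU.fromSpec
  have htop : f ''ᵁ ⊤ = U := by
    rw [Scheme.Hom.image_top_eq_opensRange, hU.opensRange_fromSpec]
  refine isQuasicoherent_Spec_of_localizing _ (fun t s hs => ?_) fun t s' => ?_
  · have hD : f ''ᵁ D t = X.basicOpen t := hU.fromSpec_image_basicOpen t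
    have hs0 : rs N (Scheme.Hom.image_mono f (le_top : D t ≤ ⊤)) (show Γ(N, f ''ᵁ ⊤) from s) = 0 := hs
    obtain ⟨n, hn⟩ := hinj U hU t (rs N htop.ge (show Γ(N, f ''ᵁ ⊤) from s)) (by
      have := congrArg (rs N hD.ge) hs0
      rw [rs_rs, map_zero] at this
      rw [rs_rs]
      exact this)
    refine ⟨n, ?_⟩
    have key : ((f.appIso ⊤).inv ((Scheme.ΓSpecIso Γ(X, U)).inv (t ^ n))) •
        (show Γ(N, f ''ᵁ ⊤) from s) = 0 := by
      rw [← ConcreteCategory.comp_apply, H29Blow.res_eq_appIso_inv hU htop.le]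
      have h2 := congrArg (rs N htop.le) hn
      rw [map_zero] at h2
      refine Eq.trans ?_ h2
      refine Eq.trans ?_ (Scheme.Modules.map_smul N (homOfLE htop.le) (t ^ n) _).symm
      exact congrArg _ ((rs_rs N _ _ _).trans (rs_self N _ _)).symm
    have hsmul : ((t ^ n : Γ(X, U)) • s : Γ(N.restrict f, ⊤)) =
        ((f.appIso ⊤).inv ((Scheme.ΓSpecIso Γ(X, U)).inv (t ^ n))) •
          (show Γ(N, f ''ᵁ ⊤) from s) := by
      rw [Scheme.Modules.smul_Spec_def, Subsingleton.elim (⊤ : (Spec Γ(X, U)).Opens).leTop.op (𝟙 _),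
        CategoryTheory.Functor.map_id]
      rfl
    exact hsmul.trans key
  · have hD : f ''ᵁ D t = X.basicOpen t := hU.fromSpec_image_basicOpen t
    obtain ⟨n, s, hs⟩ := hsurj U hU t (rs N hD.ge (show Γ(N, f ''ᵁ D t) from s'))
    refine ⟨n, (show Γ(N.restrict f, ⊤) from rs N htop.le s), ?_⟩
    have h2 := congrArg (rs N hD.le) hs
    rw [rs_rs] at h2
    refine ((rs_rs N htop.le (Scheme.Hom.image_mono f (le_top : D t ≤ ⊤)) s).trans h2).trans ?_
    refine (Scheme.Modules.map_smul N (homOfLE hD.le) _ _).trans ?_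
    rw [Scheme.Modules.smul_Spec_def]
    refine congrArg₂ (fun (a : Γ(X, f ''ᵁ D t)) (b : Γ(N, f ''ᵁ D t)) => a • b) ?_ ?_
    · refine Eq.trans ?_ (ConcreteCategory.congr_hom
        (Scheme.Hom.appIso_inv_naturality f (homOfLE (le_top : D t ≤ ⊤)).op) _).symm
      rw [ConcreteCategory.comp_apply, ← ConcreteCategory.comp_apply (Scheme.ΓSpecIso Γ(X, U)).inv,
        H29Blow.res_eq_appIso_inv hU htop.le]
      exact (rres_rres _ _ _).trans
        (rres_rres htop.le (Scheme.Hom.image_mono f (le_top : D t ≤ ⊤)) (t ^ n)).symm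
    · exact (rs_rs N _ _ _).trans (rs_self N _ _)

/-- Naturality of the maps on sections. -/
theorem app_rs {X : Scheme.{u}} {M N : X.Modules} (φ : M ⟶ N) {U V : X.Opens} (h : V ≤ U) (x : Γ(M, U)) :
    φ.app V (rs M h x) = rs N h (φ.app U x) :=
  ConcreteCategory.congr_hom (φ.mapPresheaf.naturality (homOfLE h).op) x

section restrict

variable {X : Scheme.{u}} (R : MRes X) (U : X.Opens)

theorem scalar_eq (a : Γ(X, U)) (V : U.toScheme.Opens) (h : U.ι ''ᵁ V ≤ U) :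
    (show Γ(X, U.ι ''ᵁ V) from gres (U.topIso.inv a) V) = X.presheaf.map (homOfLE h).op a := by
  show (U.topIso.inv ≫ U.toScheme.presheaf.map (homOfLE (le_top : V ≤ ⊤)).op) a = _
  simp only [Scheme.Opens.topIso_inv, Scheme.Opens.toScheme_presheaf_map]
  erw [← Functor.map_comp]
  exact congr(X.presheaf.map $(Subsingleton.elim _ _) a)

theorem restrict_smul_pow (N : X.Modules) (a : Γ(X, U)) (V : U.toScheme.Opens) (h : U.ι ''ᵁ V ≤ U)
    (k : ℕ) (x : Γ(N, U.ι ''ᵁ V)) :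
    (show Γ(N, U.ι ''ᵁ V) from gres (U.topIso.inv a) V ^ k • (show Γ(N.restrict U.ι, V) from x)) =
      X.presheaf.map (homOfLE h).op (a ^ k) • x := by
  rw [map_pow, ← scalar_eq U a V h]
  have hid : (U.ι.appIso V).inv (gres (U.topIso.inv a) V ^ k) =
      (show Γ(X, U.ι ''ᵁ V) from gres (U.topIso.inv a) V) ^ k := by
    rw [Scheme.Opens.ι_appIso]; rfl
  exact congrArg (· • x) hid

theorem Bd_restrict (n : ℕ) (V : U.toScheme.Opens) (z : Γ(R.Z (n + 1), U.ι ''ᵁ V)) :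
    Bd (R.restrict U.ι) (n + 1) (show Γ((R.restrict U.ι).Z (n + 1), V) from z) ↔ Bd R (n + 1) z :=
  Iff.rfl

theorem injAt_local [QuasiSeparatedSpace U.toScheme] [CompactSpace U.toScheme]
    [(R.Z 0).IsQuasicoherent] (n : ℕ) (a : Γ(X, U)) (z : Γ(R.Z (n + 1), U))
    (hz : Bd R (n + 1) (rs _ (X.basicOpen_le a) z)) :
    ∃ N : ℕ, Bd R (n + 1) (a ^ N • z) := by
  have := Scheme.Modules.isQuasicoherent_restrictFunctor U.ι (R.Z 0)
  have htop : U.ι ''ᵁ ⊤ = U := by rw [Scheme.Hom.image_top_eq_opensRange, Scheme.Opens.opensRange_ι]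
  have hb : U.ι ''ᵁ (⊤ ⊓ U.toScheme.basicOpen (U.topIso.inv a)) = X.basicOpen a := by
    rw [top_inf_eq, Scheme.Opens.ι_image_basicOpen_topIso_inv]
  obtain ⟨N, hN⟩ := (injAt_surjAt (R.restrict U.ι) (U.topIso.inv a) (n + 1) ⊤
    (by simpa using isCompact_univ)).1 (show Γ((R.restrict U.ι).Z (n + 1), ⊤) from rs _ htop.le z) (by
      refine (Bd_restrict R U n _ _).2 ?_
      have h := Bd.res R (n + 1) hb.le hz
      rw [rs_rs] at h
      exact (rs_rs (R.Z (n + 1)) htop.le (Scheme.Hom.image_mono U.ι inf_le_left) z).symm ▸ h)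
  refine ⟨N, ?_⟩
  have h : Bd R (n + 1) (X.presheaf.map (homOfLE htop.le).op (a ^ N) • rs _ htop.le z) :=
    restrict_smul_pow U _ a ⊤ htop.le N (rs _ htop.le z) ▸ (Bd_restrict R U n _ _).1 hN
  have h' := Bd.res R (n + 1) htop.ge h
  have heq : rs _ htop.ge (X.presheaf.map (homOfLE htop.le).op (a ^ N) • rs _ htop.le z) = a ^ N • z :=
    (congrArg (rs _ htop.ge) (Scheme.Modules.map_smul _ (homOfLE htop.le) (a ^ N) z).symm).trans
      ((rs_rs _ _ _ _).trans (rs_self _ _ _))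
  exact heq ▸ h'

theorem surjAt_local [QuasiSeparatedSpace U.toScheme] [CompactSpace U.toScheme]
    [(R.Z 0).IsQuasicoherent] (n : ℕ) (a : Γ(X, U)) (z : Γ(R.Z (n + 1), X.basicOpen a)) :
    ∃ (N : ℕ) (z₀ : Γ(R.Z (n + 1), U)), Bd R (n + 1)
      (rs _ (X.basicOpen_le a) z₀ - X.presheaf.map (homOfLE (X.basicOpen_le a)).op (a ^ N) • z) := by
  have := Scheme.Modules.isQuasicoherent_restrictFunctor U.ι (R.Z 0)
  have htop : U.ι ''ᵁ ⊤ = U := by rw [Scheme.Hom.image_top_eq_opensRange, Scheme.Opens.opensRange_ι]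
  have hb : U.ι ''ᵁ (⊤ ⊓ U.toScheme.basicOpen (U.topIso.inv a)) = X.basicOpen a := by
    rw [top_inf_eq, Scheme.Opens.ι_image_basicOpen_topIso_inv]
  obtain ⟨N, z₀, hN⟩ := (injAt_surjAt (R.restrict U.ι) (U.topIso.inv a) (n + 1) ⊤
    (by simpa using isCompact_univ)).2
    (show Γ((R.restrict U.ι).Z (n + 1), ⊤ ⊓ U.toScheme.basicOpen (U.topIso.inv a)) from rs _ hb.le z)
  refine ⟨N, rs _ htop.ge (show Γ(R.Z (n + 1), U.ι ''ᵁ ⊤) from z₀), ?_⟩
  have h : Bd R (n + 1) (rs _ (Scheme.Hom.image_mono U.ι inf_le_left) (show Γ(R.Z (n + 1), U.ι ''ᵁ ⊤) from z₀) -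
      X.presheaf.map (homOfLE (hb.le.trans (X.basicOpen_le a))).op (a ^ N) • rs _ hb.le z) :=
    restrict_smul_pow U _ a _ (hb.le.trans (X.basicOpen_le a)) N (rs _ hb.le z) ▸ (Bd_restrict R U n _ _).1 hN
  have h' := Bd.res R (n + 1) hb.ge h
  have heq : rs _ hb.ge (X.presheaf.map (homOfLE (hb.le.trans (X.basicOpen_le a))).op (a ^ N) • rs _ hb.le z) =
      X.presheaf.map (homOfLE (X.basicOpen_le a)).op (a ^ N) • z :=
    (Scheme.Modules.map_smul _ (homOfLE hb.ge) _ _).trans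
      (congrArg₂ (fun (c : Γ(X, X.basicOpen a)) (x : Γ(R.Z (n + 1), X.basicOpen a)) => c • x)
        (rres_rres _ _ _) ((rs_rs _ _ _ _).trans (rs_self _ _ _)))
  rw [map_sub, heq, rs_rs] at h'
  rw [rs_rs]
  exact h'

end restrict

section cokernel

variable {X S : Scheme.{u}} (f : X ⟶ S) (R : MRes X) (n : ℕ)

/-- The sheaf `R^{n+1} f_*` computed from a resolution. -/
noncomputable abbrev hdir : S.Modules := cokernel ((Coh.push f).map (R.p n))

/-- The quotient map on sections. -/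
noncomputable def piA (W : S.Opens) : Γ(R.Z (n + 1), f ⁻¹ᵁ W) →+ Γ(hdir f R n, W) :=
  ((cokernel.π ((Coh.push f).map (R.p n))).app W).hom

theorem piA_rs {W V : S.Opens} (h : V ≤ W) (z : Γ(R.Z (n + 1), f ⁻¹ᵁ W)) :
    piA f R n V (rs _ ((Opens.map f.base).monotone h) z) = rs _ h (piA f R n W z) :=
  app_rs (cokernel.π ((Coh.push f).map (R.p n))) h z

theorem piA_smul (W : S.Opens) (c : Γ(S, W)) (z : Γ(R.Z (n + 1), f ⁻¹ᵁ W)) :
    piA f R n W (f.app W c • z) = c • piA f R n W z :=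
  (cokernel.π ((Coh.push f).map (R.p n))).app_smul c z

theorem piA_eq_zero_of_Bd (W : S.Opens) (z : Γ(R.Z (n + 1), f ⁻¹ᵁ W)) (h : Bd R (n + 1) z) :
    piA f R n W z = 0 := by
  obtain ⟨d, rfl⟩ := h
  exact congr($(cokernel.condition ((Coh.push f).map (R.p n))).app W d)

theorem Bd_of_piA_eq_zero_local (W : S.Opens) (z : Γ(R.Z (n + 1), f ⁻¹ᵁ W))
    (h : piA f R n W z = 0) (x : S) (hx : x ∈ W) :
    ∃ (V : S.Opens) (hV : V ≤ W), x ∈ V ∧ Bd R (n + 1) (rs _ ((Opens.map f.base).monotone hV) z) := by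
  let φ := (Coh.push f).map (R.p n)
  let σ : ShortComplex S.Modules :=
    ShortComplex.mk (Abelian.image.ι φ) (cokernel.π φ) (kernel.condition _)
  have hσ : σ.ShortExact :=
    { exact := ShortComplex.exact_of_f_is_kernel _ (kernelIsKernel _)
      mono_f := inferInstanceAs (Mono (Abelian.image.ι φ))
      epi_g := inferInstanceAs (Epi (cokernel.π φ)) }
  obtain ⟨y, hy⟩ := exists_app_eq_of_exact hσ W z h
  obtain ⟨V, hV, hxV, d, hd⟩ := exists_nhds_lift_of_epi (Abelian.factorThruImage φ) W y x hx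
  refine ⟨V, hV, hxV, d, ?_⟩
  have h1 : (Abelian.factorThruImage φ ≫ Abelian.image.ι φ).app V d =
      (Abelian.image.ι φ).app V (rs _ hV y) := congrArg ((Abelian.image.ι φ).app V) hd
  rw [Abelian.image.fac] at h1
  exact h1.trans ((app_rs (Abelian.image.ι φ) hV y).trans (congrArg (rs _ hV) hy))

variable [QuasiCompact f] [QuasiSeparated f] [(R.Z 0).IsQuasicoherent]

omit [(R.Z 0).IsQuasicoherent] in
theorem qcqs_preimage {W : S.Opens} (hW : IsAffineOpen W) :
    QuasiSeparatedSpace (f ⁻¹ᵁ W).toScheme ∧ CompactSpace (f ⁻¹ᵁ W).toScheme := by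
  refine ⟨?_, isCompact_iff_compactSpace.1 (QuasiCompact.isCompact_preimage (f := f) _ W.2 hW.isCompact)⟩
  have : IsAffine W.toScheme := hW
  exact quasiSeparatedSpace_of_quasiSeparated (f ∣_ W)

theorem Bd_of_piA_eq_zero {W : S.Opens} (hW : IsAffineOpen W) (z : Γ(R.Z (n + 1), f ⁻¹ᵁ W))
    (h : piA f R n W z = 0) : Bd R (n + 1) z := by
  obtain ⟨_, _⟩ := qcqs_preimage f hW
  have hloc : ∀ x : W, ∃ t : Γ(S, W), x.1 ∈ S.basicOpen t ∧
      ∃ N : ℕ, Bd R (n + 1) (f.app W t ^ N • z) := by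
    rintro ⟨x, hx⟩
    obtain ⟨V, hV, hxV, hB⟩ := Bd_of_piA_eq_zero_local f R n W z h x hx
    obtain ⟨t, ht, hxt⟩ := hW.exists_basicOpen_le ⟨x, hxV⟩ hx
    have hle : X.basicOpen (f.app W t) ≤ f ⁻¹ᵁ V := by
      rw [← Scheme.preimage_basicOpen]; exact (Opens.map f.base).monotone ht
    have h2 := Bd.res R (n + 1) hle hB
    rw [rs_rs] at h2
    exact ⟨t, hxt, injAt_local R _ n (f.app W t) z h2⟩
  choose t hxt N hN using hloc
  have hspan : Ideal.span (Set.range fun x : W => f.app W (t x)) = ⊤ := by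
    have : Ideal.span (Set.range t) = ⊤ := by
      rw [← hW.self_le_iSup_basicOpen_iff]
      intro x hx
      exact Opens.mem_iSup.2 ⟨⟨t ⟨x, hx⟩, _, rfl⟩, hxt ⟨x, hx⟩⟩
    have h2 := congrArg (Ideal.map (f.app W).hom) this
    rw [Ideal.map_span, Ideal.map_top, ← Set.range_comp] at h2
    exact h2
  let P : Submodule Γ(X, f ⁻¹ᵁ W) Γ(R.Z (n + 1), f ⁻¹ᵁ W) :=
    { carrier := {z | Bd R (n + 1) z}
      add_mem' := Bd.add R (n + 1)
      zero_mem' := Bd.zero R (n + 1) _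
      smul_mem' := fun c _ hz => Bd.smul R (n + 1) c hz }
  exact Submodule.mem_of_span_eq_top_of_smul_pow_mem P _ hspan z fun ⟨_, x, rfl⟩ => ⟨N x, hN x⟩

theorem exists_pow_smul_piA_eq_zero {W : S.Opens} (hW : IsAffineOpen W) (t : Γ(S, W))
    (z : Γ(R.Z (n + 1), f ⁻¹ᵁ W)) (h : rs _ (S.basicOpen_le t) (piA f R n W z) = 0) :
    ∃ N : ℕ, t ^ N • piA f R n W z = 0 := by
  obtain ⟨_, _⟩ := qcqs_preimage f hW
  rw [← piA_rs] at h
  have h1 := Bd_of_piA_eq_zero f R n (hW.basicOpen t) _ h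
  have h2 := Bd.res R (n + 1) (Scheme.preimage_basicOpen f t).ge h1
  rw [rs_rs] at h2
  obtain ⟨N, hN⟩ := injAt_local R _ n (f.app W t) z h2
  refine ⟨N, ?_⟩
  rw [← piA_smul, map_pow]
  exact piA_eq_zero_of_Bd f R n W _ hN

theorem exists_pow_smul_eq_piA {W : S.Opens} (hW : IsAffineOpen W) (t : Γ(S, W))
    (z : Γ(R.Z (n + 1), f ⁻¹ᵁ S.basicOpen t)) :
    ∃ (N : ℕ) (z₀ : Γ(R.Z (n + 1), f ⁻¹ᵁ W)), rs _ (S.basicOpen_le t) (piA f R n W z₀) =
      S.presheaf.map (homOfLE (S.basicOpen_le t)).op (t ^ N) • piA f R n _ z := by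
  obtain ⟨_, _⟩ := qcqs_preimage f hW
  obtain ⟨N, z₀, hN⟩ := surjAt_local R _ n (f.app W t) (rs _ (Scheme.preimage_basicOpen f t).ge z)
  refine ⟨N, z₀, ?_⟩
  rw [← piA_rs, ← piA_smul, ← sub_eq_zero, ← map_sub]
  refine piA_eq_zero_of_Bd f R n _ _ ?_
  have h2 := Bd.res R (n + 1) (Scheme.preimage_basicOpen f t).le hN
  rw [map_sub, rs_rs] at h2
  have heq : rs (R.Z (n + 1)) (Scheme.preimage_basicOpen f t).le
      (X.presheaf.map (homOfLE (X.basicOpen_le (f.app W t))).op ((f.app W t) ^ N) •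
        rs _ (Scheme.preimage_basicOpen f t).ge z) =
      f.app (S.basicOpen t) (S.presheaf.map (homOfLE (S.basicOpen_le t)).op (t ^ N)) • z := by
    refine (Scheme.Modules.map_smul _ (homOfLE _) _ _).trans ?_
    refine congrArg₂ (fun (c : Γ(X, f ⁻¹ᵁ S.basicOpen t)) (x : Γ(R.Z (n + 1), f ⁻¹ᵁ S.basicOpen t)) => c • x)
      ?_ ((rs_rs _ _ _ _).trans (rs_self _ _ _))
    rw [rres_rres, ← map_pow]
    exact (ConcreteCategory.congr_hom (f.naturality (homOfLE (S.basicOpen_le t)).op) (t ^ N)).symm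
  rwa [heq] at h2

theorem piA_surjective {W : S.Opens} (hW : IsAffineOpen W) : Function.Surjective (piA f R n W) := by
  classical
  intro s
  -- local lifts
  have hloc : ∀ x : W, ∃ t : Γ(S, W), x.1 ∈ S.basicOpen t ∧
      ∃ z, piA f R n (S.basicOpen t) z = rs _ (S.basicOpen_le t) s := by
    rintro ⟨x, hx⟩
    obtain ⟨V, hV, hxV, z, hz⟩ := exists_nhds_lift_of_epi (cokernel.π ((Coh.push f).map (R.p n))) W s x hx
    obtain ⟨t, ht, hxt⟩ := hW.exists_basicOpen_le ⟨x, hxV⟩ hx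
    refine ⟨t, hxt, rs _ ((Opens.map f.base).monotone ht) z, ?_⟩
    exact ((piA_rs f R n ht z).trans (congrArg (rs _ ht) hz)).trans (rs_rs _ hV ht s)
  choose t hxt z hz using hloc
  obtain ⟨T, hT⟩ := hW.isCompact.elim_finite_subcover (fun x : W => (S.basicOpen (t x) : Set S))
    (fun x => (S.basicOpen (t x)).2) fun x hx => Set.mem_iUnion.2 ⟨⟨x, hx⟩, hxt _⟩
  have hspan : Ideal.span (t '' T) = ⊤ := by
    rw [← hW.self_le_iSup_basicOpen_iff]
    intro x hx
    obtain ⟨i, hi, hxi⟩ := Set.mem_iUnion₂.1 (hT hx)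
    exact Opens.mem_iSup.2 ⟨⟨t i, i, hi, rfl⟩, hxi⟩
  refine Submodule.mem_of_span_eq_top_of_smul_pow_mem
    (LinearMap.range ({ toFun := fun z => piA f R n W z, map_add' := map_add _,
                        map_smul' := fun c a => piA_smul f R n W c a } :
      Γ((Coh.push f).obj (R.Z (n + 1)), W) →ₗ[Γ(S, W)] Γ(hdir f R n, W))) _ hspan s ?_
  rintro ⟨_, i, hi, rfl⟩
  obtain ⟨N, y, hy⟩ := exists_pow_smul_eq_piA f R n hW (t i) (z i)
  -- the defect on each piece
  have hdef : ∀ j ∈ T, ∃ k : ℕ, rs _ (S.basicOpen_le (t j)) (t i ^ k • (piA f R n W y - t i ^ N • s)) = 0 := by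
    intro j _
    let g := S.presheaf.map (homOfLE (S.basicOpen_le (t j))).op (t i)
    let a := rs (R.Z (n + 1)) ((Opens.map f.base).monotone (S.basicOpen_le (t j))) y -
      f.app _ (g ^ N) • z j
    have ha : piA f R n _ a = rs _ (S.basicOpen_le (t j)) (piA f R n W y - t i ^ N • s) := by
      rw [map_sub, piA_rs, piA_smul, hz, map_sub]
      refine congrArg (_ - ·) ?_
      exact ((Scheme.Modules.map_smul _ (homOfLE (S.basicOpen_le (t j))) (t i ^ N) s).trans
        (by rw [map_pow]; rfl)).symm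
    obtain ⟨k, hk⟩ := exists_pow_smul_piA_eq_zero f R n (hW.basicOpen (t j)) g a (by
      have hgle : S.basicOpen g ≤ S.basicOpen (t i) := by
        rw [Scheme.basicOpen_res]; exact inf_le_right
      rw [ha, rs_rs, ← rs_rs _ (S.basicOpen_le (t i)) hgle, map_sub, hy, hz]
      refine (congrArg (rs _ hgle) (sub_eq_zero.2 ?_)).trans (map_zero _)
      exact (Scheme.Modules.map_smul _ (homOfLE (S.basicOpen_le (t i))) (t i ^ N) s).symm)
    refine ⟨k, ?_⟩
    rw [ha] at hk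
    refine (Scheme.Modules.map_smul _ (homOfLE (S.basicOpen_le (t j))) (t i ^ k) _).trans ?_
    rw [map_pow]
    exact hk
  choose! k hk using hdef
  let K := T.sup k
  have hglob : t i ^ K • (piA f R n W y - t i ^ N • s) = 0 := by
    refine TopCat.Sheaf.eq_of_locally_eq' (sheafOf (hdir f R n)) (fun j : T => S.basicOpen (t j.1)) W
      (fun j => homOfLE (S.basicOpen_le _)) (fun x hx => ?_) _ _ fun j => ?_
    · obtain ⟨l, hl, hxl⟩ := Set.mem_iUnion₂.1 (hT hx)
      exact Opens.mem_iSup.2 ⟨⟨l, hl⟩, hxl⟩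
    · obtain ⟨d, hd⟩ := Nat.exists_eq_add_of_le (Finset.le_sup (f := k) j.2)
      refine Eq.trans ?_ (map_zero _).symm
      change rs _ (S.basicOpen_le (t j.1)) (t i ^ K • (piA f R n W y - t i ^ N • s)) = 0
      rw [show K = d + k j.1 by omega, pow_add, mul_smul]
      exact (Scheme.Modules.map_smul _ (homOfLE (S.basicOpen_le (t j.1))) _ _).trans
        ((congrArg _ (hk j.1 j.2)).trans (smul_zero _))
  refine ⟨K + N, f.app W (t i ^ K) • y, ?_⟩
  rw [smul_sub, sub_eq_zero, smul_smul, ← pow_add] at hglob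
  exact (piA_smul f R n W _ y).trans hglob

/-- `R^{n+1} f_*` of a quasi-coherent module is quasi-coherent. -/
theorem isQuasicoherent_hdir : (hdir f R n).IsQuasicoherent := by
  refine isQuasicoherent_of_localizing _ (fun W hW t s hs => ?_) fun W hW t s' => ?_
  · obtain ⟨z, rfl⟩ := piA_surjective f R n hW s
    exact exists_pow_smul_piA_eq_zero f R n hW t z hs
  · obtain ⟨z, rfl⟩ := piA_surjective f R n (hW.basicOpen t) s'
    obtain ⟨N, z₀, h⟩ := exists_pow_smul_eq_piA f R n hW t z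
    exact ⟨N, piA f R n W z₀, h⟩

/-- Sections of `R^{n+1} f_*` over affine opens are cohomology groups. -/
noncomputable def hdirEquiv {W : S.Opens} (hW : IsAffineOpen W) :
    HnM (R.Z 0) (n + 1) (f ⁻¹ᵁ W) ≃+ Γ(hdir f R n, W) :=
  let Z := (R.toF.Z (n + 1)).obj.obj (op (f ⁻¹ᵁ W))
  let π : Z →+ Γ(hdir f R n, W) := piA f R n W
  let P := ((R.toF.p n).hom.app (op (f ⁻¹ᵁ W))).hom.range
  have h : P = π.ker := AddSubgroup.ext fun z =>
    ⟨fun ⟨d, hd⟩ => piA_eq_zero_of_Bd f R n W z ⟨d, hd⟩, fun hz => Bd_of_piA_eq_zero f R n hW z hz⟩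
  (R.toF.quotEquiv n (f ⁻¹ᵁ W)).symm.trans
    ((QuotientAddGroup.quotientAddEquivOfEq h).trans
      (QuotientAddGroup.quotientKerEquivOfSurjective π (piA_surjective f R n hW)))

end cokernel

end Groth.Agent.H10Coh
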