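import Groth.Agent.H10Coh.ExtPowEuler

/-!
# Cohomology of twisted forms from an Euler sequence: the formal part
-/

set_option autoImplicit false
set_option linter.style.haveILetI false
set_option linter.unusedSectionVars false
set_option backward.isDefEq.respectTransparency.types false

noncomputable section

universe u

open CategoryTheory CategoryTheory.Limits AlgebraicGeometry Opposite TopologicalSpace

namespace Groth.Agent.H10Coh.Hodge

/-- Twists with the vanishing pattern of projective `n`-space and an Euler sequence. -/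
structure Setup (X : Scheme.{u}) (n : ℕ) where
  /-- The twists. -/
  O : ℤ → X.Modules
  inv : ∀ d, PicF.IsInvertible (O d)
  add : ∀ a b c : ℤ, c = a + b → Nonempty (CohB1.tensorMod (O a) (O b) ≅ O c)
  zero : Nonempty (O 0 ≅ Coh.structureModule X)
  van : ∀ (d : ℤ) (q : ℕ), ¬ (q = 0 ∧ 0 ≤ d) → ¬ (q = n ∧ d ≤ -((n : ℤ) + 1)) → Subsingleton (Coh.HH X (O d) q)
  top : ∀ M : X.Modules, Coh.IsQCoh M → ∀ q, n < q → Subsingleton (Coh.HH X M q)
  /-- The Euler sequence. -/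
  E : ShortComplex X.Modules
  exact : E.ShortExact
  qc : Coh.IsQCoh E.X₁
  /-- The quotient. -/
  e₃ : E.X₃ ≅ Coh.structureModule X
  middle : Nonempty (E.X₂ ≅ CohB1.tensorMod (ExtPowFree.F X (n + 1)) (O (-1)))

section Generic

variable {X : Scheme.{u}} {L₁ T L₀ N : X.Modules} {i : L₁ ⟶ T} {g : T ⟶ L₀} {w : i ≫ g = 0}
  (hS : (ShortComplex.mk i g w).ShortExact) (hN : PicF.IsInvertible N) {q : ℕ}

include hS hN

theorem twisted₁ (h₀ : Subsingleton (Coh.HH X (CohB1.tensorMod L₀ N) q))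
    (hT : Subsingleton (Coh.HH X (CohB1.tensorMod T N) (q + 1))) :
    Subsingleton (Coh.HH X (CohB1.tensorMod L₁ N) (q + 1)) :=
  HHSeq.subsingleton₁ (S := Tw.seq (ShortComplex.mk i g w) hN) (Tw.shortExact_seq hS hN) h₀ hT

theorem twisted_zero (hT : Subsingleton (Coh.HH X (CohB1.tensorMod T N) 0)) :
    Subsingleton (Coh.HH X (CohB1.tensorMod L₁ N) 0) :=
  HHSeq.subsingleton_zero (S := Tw.seq (ShortComplex.mk i g w) hN) (Tw.shortExact_seq hS hN) hT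

theorem twisted₃ (hT : Subsingleton (Coh.HH X (CohB1.tensorMod T N) q))
    (h₁ : Subsingleton (Coh.HH X (CohB1.tensorMod L₁ N) (q + 1))) :
    Subsingleton (Coh.HH X (CohB1.tensorMod L₀ N) q) :=
  HHSeq.subsingleton₃ (S := Tw.seq (ShortComplex.mk i g w) hN) (Tw.shortExact_seq hS hN) hT h₁

end Generic

variable {X : Scheme.{u}} {n : ℕ} (S : Setup X n)

theorem nonempty_pow_neg : ∀ p : ℕ, Nonempty (CohB1.tensorPow (S.O (-1)) p ≅ S.O (-(p : ℤ)))
  | 0 => by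
    obtain ⟨e⟩ := S.zero
    exact ⟨e.symm ≪≫ eqToIso (congrArg S.O (by simp))⟩
  | p + 1 => by
    obtain ⟨e⟩ := nonempty_pow_neg p
    obtain ⟨e'⟩ := S.add (-(p : ℤ)) (-1) (-((p + 1 : ℕ) : ℤ)) (by push_cast; ring)
    exact ⟨PicGrp.tensorModIso e (Iso.refl _) ≪≫ e'⟩

theorem exists_seq (p : ℕ) {L₁ L₀ : X.Modules}
    (hL₁ : ExtPow.IsExtPow (p + 1) S.E.X₁ L₁)
    (hL₀ : ExtPow.IsExtPow p S.E.X₁ L₀) :
    ∃ (T : X.Modules) (i : L₁ ⟶ T) (g : T ⟶ L₀) (w : i ≫ g = 0),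
      (ShortComplex.mk i g w).ShortExact ∧
      ∀ (k : ℤ) (q : ℕ), ¬ (q = 0 ∧ (p : ℤ) < k) → ¬ (q = n ∧ k - p ≤ -(n : ℤ)) →
        Subsingleton (Coh.HH X (CohB1.tensorMod T (S.O (k))) q) := by
  obtain ⟨e₀⟩ := S.zero
  obtain ⟨e₂⟩ := S.middle
  obtain ⟨M, i, g, w, hM, hS⟩ := ExtPowEuler.exists_seq S.exact S.e₃ (S.inv (-1)) e₂
    S.qc p hL₁ hL₀
  refine ⟨_, i, g, w, hS, fun k q h0 hn => ?_⟩
  obtain ⟨e⟩ := nonempty_pow_neg S (p + 1)
  obtain ⟨e'⟩ := S.add (-((p + 1 : ℕ) : ℤ)) k (k - (p : ℤ) - 1) (by push_cast; ring)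
  refine subsingleton_HH_of_iso (Tw.assoc _ _ _ ≪≫
    PicGrp.tensorModIso (Iso.refl M) (PicGrp.tensorModIso e (Iso.refl _) ≪≫ e')).symm q ?_
  refine ExtPowFree.subsingleton_HH (S.inv _) ?_ _ _ hM
  exact S.van _ q (fun h => h0 ⟨h.1, by omega⟩) (fun h => hn ⟨h.1, by omega⟩)

theorem isZero_of_gt {p : ℕ} (hp : n < p) {L : X.Modules}
    (hL : ExtPow.IsExtPow p S.E.X₁ L) : IsZero L := by
  obtain ⟨e₀⟩ := S.zero
  obtain ⟨e₂⟩ := S.middle
  exact ExtPowEuler.isZero_of_le S.exact S.e₃ (S.inv (-1)) e₂ S.qc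
    (show n + 1 ≤ p by omega) hL

theorem exists_extPow (p : ℕ) : ∃ L, ExtPow.IsExtPow p S.E.X₁ L :=
  H22Alg.ExtPowSheaf.exists_isExtPow p S.qc

theorem nonempty_zero {L : X.Modules} (hL : ExtPow.IsExtPow 0 S.E.X₁ L)
    (k : ℤ) : Nonempty (CohB1.tensorMod L (S.O (k)) ≅ (S.O (k))) := by
  obtain ⟨e⟩ := H22Alg.ExtPowHom.nonempty_iso hL (H22Alg.KExists.isExtPow_zero _)
  exact ⟨PicGrp.tensorModIso e (Iso.refl _) ≪≫ Tw.leftUnitIso _⟩

theorem nonempty_tensor_zero (L : X.Modules) : Nonempty (CohB1.tensorMod L (S.O (0)) ≅ L) := by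
  obtain ⟨e₀⟩ := S.zero
  exact ⟨PicGrp.tensorModIso (Iso.refl L) e₀ ≪≫ Tw.rightUnitIso L⟩

/-- Ascending in `p`: `H^q(Ω^p(k)) = 0` for `k ≤ 0` and `q < n` away from the diagonal at `k = 0`. -/
theorem subsingleton_nonpos : ∀ (p : ℕ) {L : X.Modules},
    ExtPow.IsExtPow p S.E.X₁ L → ∀ (k : ℤ) (q : ℕ), k ≤ 0 →
      ¬ (k = 0 ∧ p = q ∧ p ≤ n) → ¬ (q = n ∧ k < (p : ℤ) - n) →
      Subsingleton (Coh.HH X (CohB1.tensorMod L (S.O (k))) q)
  | 0, L, hL, k, q, hk, hd, hn => by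
    obtain ⟨e⟩ := nonempty_zero S hL k
    exact subsingleton_HH_of_iso e.symm q (S.van _ q
      (fun h => hd ⟨le_antisymm hk h.2, h.1.symm, Nat.zero_le n⟩) (fun h => hn ⟨h.1, by omega⟩))
  | p + 1, L, hL, k, q, hk, hd, hn => by
    by_cases hp : n < p + 1
    · exact ExtPowFree.subsingleton_HH_of_isZero (H22Alg.ESZ.isZero_tensor (isZero_of_gt S hp hL) _) q
    obtain ⟨L₀, hL₀⟩ := exists_extPow S p
    obtain ⟨T, i, g, w, hS, hv⟩ := exists_seq S p hL hL₀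
    cases q with
    | zero => exact twisted_zero hS (S.inv k) (hv k 0 (by omega) (by omega))
    | succ q =>
      by_cases hq : n < q + 1
      · exact S.top _ (H11Ample.isQCoh_tensor (H22Alg.ExtPowHom.isQCoh_of_isExtPow S.qc hL) (S.inv k)) _ hq
      refine twisted₁ hS (S.inv k) (subsingleton_nonpos p hL₀ k q hk ?_ ?_) (hv k (q + 1) (by omega) (by omega))
      · rintro ⟨h1, h2, h3⟩
        exact hd ⟨h1, by omega, by omega⟩
      · rintro ⟨h1, h2⟩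
        exact hn ⟨by omega, by omega⟩

/-- Descending in `p`: `H^q(Ω^p(k)) = 0` for `q > 0` and `k > 0`. -/
theorem subsingleton_pos : ∀ (d p : ℕ), n + 1 ≤ p + d → ∀ {L : X.Modules},
    ExtPow.IsExtPow p S.E.X₁ L → ∀ (k : ℤ) (q : ℕ), 0 < k →
      ¬ (q = 0 ∧ (p : ℤ) < k) → Subsingleton (Coh.HH X (CohB1.tensorMod L (S.O (k))) q)
  | 0, p, hp, L, hL, k, q, _, _ =>
    ExtPowFree.subsingleton_HH_of_isZero (H22Alg.ESZ.isZero_tensor (isZero_of_gt S (by omega) hL) _) q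
  | d + 1, p, hp, L, hL, k, q, hk, h0 => by
    by_cases hpn : n < p
    · exact ExtPowFree.subsingleton_HH_of_isZero (H22Alg.ESZ.isZero_tensor (isZero_of_gt S hpn hL) _) q
    obtain ⟨L₁, hL₁⟩ := exists_extPow S (p + 1)
    obtain ⟨T, i, g, w, hS, hv⟩ := exists_seq S p hL₁ hL
    exact twisted₃ hS (S.inv k) (hv k q h0 (by omega))
      (subsingleton_pos d (p + 1) (by omega) hL₁ k (q + 1) hk (by omega))

/-- `H^q(Ω^p) = 0` off the diagonal. -/
theorem subsingleton_offdiag {p : ℕ} {L : X.Modules}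
    (hL : ExtPow.IsExtPow p S.E.X₁ L) {q : ℕ} (h : p ≠ q ∨ n < p) :
    Subsingleton (Coh.HH X L q) := by
  by_cases hp : n < p
  · exact ExtPowFree.subsingleton_HH_of_isZero (isZero_of_gt S hp hL) q
  obtain ⟨e⟩ := nonempty_tensor_zero S L
  exact subsingleton_HH_of_iso e q (subsingleton_nonpos S p hL 0 q le_rfl (by omega) (by omega))

/-- `H^p(Ω^p) ≅ A`. -/
theorem nonempty_diag {A : Type u} [CommRing A] [X.Over (Spec (CommRingCat.of A))]
    (hu : Nonempty (Coh.HH X (Coh.structureModule X) 0 ≃ₗ[A] A)) : ∀ p, p ≤ n → ∀ {L : X.Modules},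
    ExtPow.IsExtPow p S.E.X₁ L → Nonempty (Coh.HH X L p ≃ₗ[A] A)
  | 0, _, L, hL => by
    obtain ⟨e⟩ := H22Alg.ExtPowHom.nonempty_iso hL (H22Alg.KExists.isExtPow_zero _)
    obtain ⟨u⟩ := hu
    exact ⟨(HHSeq.isoₗ e 0).trans u⟩
  | p + 1, hp, L, hL => by
    obtain ⟨L₀, hL₀⟩ := exists_extPow S p
    obtain ⟨u⟩ := nonempty_diag hu p (by omega) hL₀
    obtain ⟨T, i, g, w, hS, hv⟩ := exists_seq S p hL hL₀
    obtain ⟨e⟩ := nonempty_tensor_zero S T
    have h : ∀ q, Subsingleton (Coh.HH X T q) := fun q =>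
      subsingleton_HH_of_iso e q (hv 0 q (by omega) (by omega))
    exact ⟨(LinearEquiv.ofBijective _ (HHSeq.bijective_dlₗ (A := A) hS p (h p) (h (p + 1)))).symm.trans u⟩

end Groth.Agent.H10Coh.Hodge
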