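import Groth.Agent.H10Coh.OpenEmb
import Mathlib.Algebra.Homology.ShortComplex.Exact
import Mathlib.CategoryTheory.Functor.EpiMono

/-!
If the cohomology of `F` vanishes in low degrees on the traces on `V` of a basis of opens, then a
class which vanishes on `V` dies in `j_*(F|_V)`.
-/

universe u

open CategoryTheory CategoryTheory.Limits Opposite TopologicalSpace Abelian Topology

namespace Groth.Agent.H10Coh

attribute [local instance 10000] hasSheafifyAb hasWeakSheafifyAb hasExtAb enoughInjAb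

variable {X Y : TopCat.{u}} {j : X ⟶ Y} (hj : IsOpenEmbedding j)

/-- `F ↦ j_*(F|_X)`. -/
noncomputable abbrev Tj : CohTop.Ab Y ⥤ CohTop.Ab Y := Rf hj ⋙ CohTop.push j

/-- `W ↦ j''(j⁻¹ W)`. -/
noncomputable abbrev inter (W : Opens Y) : Opens Y := im hj ((Opens.map j).obj W)

theorem inter_le (W : Opens Y) : inter hj W ≤ W := by
  rintro _ ⟨x, hx, rfl⟩
  exact hx

theorem inter_mono {V W : Opens Y} (h : W ≤ V) : inter hj W ≤ inter hj V :=
  im_mono hj ((Opens.map j).map (homOfLE h)).le

/-- The unit `F ⟶ j_*(F|)`. -/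
noncomputable def unitT (F : CohTop.Ab Y) : F ⟶ (Tj hj).obj F :=
  ⟨{ app := fun W => F.obj.map (homOfLE (inter_le hj W.unop)).op
     naturality := fun _ _ _ => (F.obj.map_comp _ _).symm.trans
      ((congrArg F.obj.map (Subsingleton.elim _ _)).trans (F.obj.map_comp _ _)) }⟩

theorem unitT_app (F : CohTop.Ab Y) (W : Opens Y) :
    (unitT hj F).hom.app (op W) = F.obj.map (homOfLE (inter_le hj W)).op := rfl

theorem unitT_naturality {F G : CohTop.Ab Y} (f : F ⟶ G) :
    f ≫ unitT hj G = unitT hj F ≫ (Tj hj).map f := by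
  apply CategoryTheory.Sheaf.hom_ext
  ext W : 2
  exact (f.hom.naturality (homOfLE (inter_le hj W.unop)).op).symm

theorem flasque_Tj {F : CohTop.Ab Y} (hF : Flasque F) : Flasque ((Tj hj).obj F) :=
  fun _ _ h => hF (inter_mono hj h)

instance : PreservesFiniteLimits (Tj hj) := by
  have : (CohTop.push j).IsRightAdjoint :=
    (TopCat.Sheaf.pullbackPushforwardAdjunction AddCommGrpCat.{u} j).isRightAdjoint
  have : PreservesFiniteLimits (CohTop.push j) :=
    PreservesLimitsOfSize.preservesFiniteLimits.{u, u} (CohTop.push j)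
  exact comp_preservesFiniteLimits _ _

theorem exact_Tj {S : ShortComplex (CohTop.Ab Y)} (hS : S.ShortExact) :
    (S.map (Tj hj)).Exact ∧ Mono ((Tj hj).map S.f) := by
  have h : PreservesFiniteLimits (Tj hj) := inferInstance
  have h' : ∀ (S : ShortComplex (CohTop.Ab Y)), S.ShortExact → (S.map (Tj hj)).Exact ∧ Mono ((Tj hj).map S.f) :=
    ((Functor.preservesFiniteLimits_tfae (Tj hj)).out 0 3 rfl rfl).2 h
  exact h' S hS

theorem surjective_sections_of_subsingleton {S : ShortComplex (CohTop.Ab Y)} (hS : S.ShortExact)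
    (W : Opens Y) (h : Subsingleton (Hn S.X₁ 1 W)) :
    Function.Surjective (S.g.hom.app (op W)) := fun s => by
  obtain ⟨x, hx⟩ := Ext.covariant_sequence_exact₃ (Zsh W) hS ((H0Equiv S.X₃ W).symm s) rfl
    (h.elim _ _)
  exact ⟨H0Equiv S.X₂ W x, by rw [← H0Equiv_map, hx, AddEquiv.apply_symm_apply]⟩

theorem injective_app_of_mono {F G : CohTop.Ab Y} (f : F ⟶ G) [Mono f] (W : Opens Y) :
    Function.Injective (f.hom.app (op W)) := by
  rw [← AddCommGrpCat.mono_iff_injective]
  have : Mono ((sheafToPresheaf _ _).map f) := inferInstance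
  exact (NatTrans.mono_iff_mono_app _).1 this _

theorem epi_Tj_map (B : Set (Opens Y)) (hB : Opens.IsBasis B) {S : ShortComplex (CohTop.Ab Y)}
    (hS : S.ShortExact) (h : ∀ W ∈ B, Subsingleton (Hn S.X₁ 1 (inter hj W))) :
    Epi ((Tj hj).map S.g) := by
  refine (TopCat.Sheaf.isLocallySurjective_iff_epi _).1 ?_
  refine (TopCat.Presheaf.isLocallySurjective_iff _).2 fun U t x hx => ?_
  obtain ⟨W, hW, hxW, hWU⟩ := Opens.isBasis_iff_nbhd.1 hB hx
  obtain ⟨s, hs⟩ := surjective_sections_of_subsingleton hS (inter hj W) (h W hW)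
    (((Tj hj).obj S.X₃).obj.map (homOfLE hWU).op t)
  exact ⟨W, hWU, ⟨s, hs⟩, hxW⟩

/-- Main lemma. -/
theorem comp_unitT_eq_zero (B : Set (Opens Y)) (hB : Opens.IsBasis B) {F : CohTop.Ab Y} (n : ℕ)
    (hF : ∀ W ∈ B, ∀ q, q + 1 ≤ n → Subsingleton (Hn F (q + 1) (inter hj W)))
    (U : Opens Y) (x : Hn F (n + 1) U) (hx : resH F (n + 1) (inter_le hj U) x = 0) :
    x.comp (Ext.mk₀ (unitT hj F)) (add_zero (n + 1)) = 0 := by
  induction n generalizing F with
  | zero =>
    have hS := injSeq_shortExact F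
    obtain ⟨q, rfl⟩ : ∃ q : Hn (injSeq F).X₃ 0 U, q.comp hS.extClass rfl = x :=
      Ext.covariant_sequence_exact₁ _ hS x (Ext.eq_zero_of_injective _) rfl
    rw [resH_comp] at hx
    obtain ⟨j₀, hj₀⟩ := Ext.covariant_sequence_exact₃ _ hS _ rfl hx
    have hz : (Tj hj).map (injSeq F).f ≫ (Tj hj).map (injSeq F).g = 0 := by
      rw [← Functor.map_comp, ShortComplex.zero, Functor.map_zero]
    have hM := exact_Tj hj hS
    let i := cokernel.desc ((Tj hj).map (injSeq F).f) ((Tj hj).map (injSeq F).g) hz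
    have : Mono i := hM.1.mono_cokernelDesc
    let S' : ShortComplex (CohTop.Ab Y) :=
      ShortComplex.mk ((Tj hj).map (injSeq F).f) (cokernel.π _) (cokernel.condition _)
    have hS' : S'.ShortExact :=
      { exact := ShortComplex.exact_of_g_is_cokernel _ (cokernelIsCokernel _)
        mono_f := hM.2
        epi_g := by dsimp [S']; infer_instance }
    let p : (injSeq F).X₃ ⟶ S'.X₃ :=
      cokernel.map _ _ (unitT hj F) (unitT hj _) (unitT_naturality hj (injSeq F).f)
    let φ : injSeq F ⟶ S' :=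
      { τ₁ := unitT hj F, τ₂ := unitT hj _, τ₃ := p
        comm₁₂ := (unitT_naturality hj (injSeq F).f).symm
        comm₂₃ := (cokernel.π_desc _ _ _).symm }
    have hpi : p ≫ i = unitT hj _ := by
      apply coequalizer.hom_ext
      change cokernel.π _ ≫ p ≫ i = cokernel.π _ ≫ unitT hj _
      rw [← Category.assoc, show cokernel.π _ ≫ p = unitT hj _ ≫ cokernel.π _ from φ.comm₂₃.symm,
        Category.assoc, cokernel.π_desc]
      exact (unitT_naturality hj (injSeq F).g).symm
    have hq : q.comp (Ext.mk₀ p) (add_zero 0) =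
        ((H0Equiv S'.X₂ U).symm (H0Equiv (injSeq F).X₂ _ j₀)).comp (Ext.mk₀ S'.g) (add_zero 0) := by
      apply (H0Equiv _ U).injective
      apply injective_app_of_mono i U
      rw [← H0Equiv_map, ← H0Equiv_map i, Ext.comp_assoc_of_second_deg_zero, Ext.mk₀_comp_mk₀, hpi,
        Ext.comp_assoc_of_second_deg_zero, Ext.mk₀_comp_mk₀, cokernel.π_desc, H0Equiv_map,
        H0Equiv_map]
      erw [AddEquiv.apply_symm_apply]
      have e := congrArg (H0Equiv (injSeq F).X₃ _) hj₀
      rw [H0Equiv_map, H0Equiv_res] at e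
      exact e.symm
    rw [Ext.comp_assoc_of_third_deg_zero, ShortComplex.ShortExact.extClass_naturality hS hS' φ,
      ← Ext.comp_assoc_of_second_deg_zero, hq, Ext.comp_assoc_of_second_deg_zero, hS'.comp_extClass,
      Ext.comp_zero]
  | succ n ih =>
    have hS := injSeq_shortExact F
    obtain ⟨q, rfl⟩ : ∃ q : Hn (injSeq F).X₃ (n + 1) U, q.comp hS.extClass rfl = x :=
      Ext.covariant_sequence_exact₁ _ hS x (Ext.eq_zero_of_injective _) rfl
    rw [resH_comp] at hx
    have : Subsingleton (Ext.{u} (Zsh (inter hj U)) (injSeq F).X₂ (n + 1)) :=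
      subsingleton_of_forall_eq 0 fun x => Ext.eq_zero_of_injective x
    have hq0 := comp_extClass_injective hS hx
    have hQ : ∀ W ∈ B, ∀ r, r + 1 ≤ n → Subsingleton (Hn (injSeq F).X₃ (r + 1) (inter hj W)) := by
      intro W hW r hr
      have h2 := hF W hW (r + 1) (by omega)
      refine subsingleton_of_forall_eq 0 fun y => ?_
      have : Subsingleton (Ext.{u} (Zsh (inter hj W)) (injSeq F).X₂ (r + 1)) :=
        subsingleton_of_forall_eq 0 fun x => Ext.eq_zero_of_injective x
      exact comp_extClass_injective hS (h2.elim _ _)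
    have he := epi_Tj_map hj B hB hS fun W hW => hF W hW 0 (by omega)
    have hM := exact_Tj hj hS
    have hS' : ((injSeq F).map (Tj hj)).ShortExact :=
      { exact := hM.1, mono_f := hM.2, epi_g := he }
    let φ : injSeq F ⟶ (injSeq F).map (Tj hj) :=
      { τ₁ := unitT hj F, τ₂ := unitT hj _, τ₃ := unitT hj _
        comm₁₂ := (unitT_naturality hj (injSeq F).f).symm
        comm₂₃ := (unitT_naturality hj (injSeq F).g).symm }
    rw [Ext.comp_assoc_of_third_deg_zero]
    erw [ShortComplex.ShortExact.extClass_naturality hS hS' φ]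
    erw [← Ext.comp_assoc_of_second_deg_zero, ih hQ q hq0]
    exact Ext.zero_comp (Zsh U) (n + 1) hS'.extClass _ _

end Groth.Agent.H10Coh
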