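import Groth.Agent.H15Site.CechLeray
import Mathlib.Algebra.Homology.HomologySequenceLemmas
import Mathlib.Algebra.Homology.DerivedCategory.Ext.ExtClass

/-!
# Leray's isomorphism for an acyclic covering, natural in the sheaf
-/

universe u

open CategoryTheory CategoryTheory.Limits Opposite TopologicalSpace Abelian

namespace Groth.Agent.H10Coh.LerayNat

open Groth.Agent.H15Site Groth.Agent.H15Site.CechLeray Groth.Agent.H15Site.CechTop

attribute [local instance 10000] hasSheafifyAb hasWeakSheafifyAb hasExtAb enoughInjAb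

/-- An equivalence of targets from two surjections with the same kernel. -/
noncomputable def equivOfKer {A B B' : Type u} [AddCommGroup A] [AddCommGroup B] [AddCommGroup B']
    (α : A →+ B) (β : A →+ B') (hα : Function.Surjective α) (hβ : Function.Surjective β)
    (h : α.ker = β.ker) : B ≃+ B' :=
  (QuotientAddGroup.quotientKerEquivOfSurjective α hα).symm.trans
    ((QuotientAddGroup.quotientAddEquivOfEq h).trans
      (QuotientAddGroup.quotientKerEquivOfSurjective β hβ))

theorem equivOfKer_apply {A B B' : Type u} [AddCommGroup A] [AddCommGroup B] [AddCommGroup B']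
    (α : A →+ B) (β : A →+ B') (hα : Function.Surjective α) (hβ : Function.Surjective β)
    (h : α.ker = β.ker) (a : A) : equivOfKer α β hα hβ h (α a) = β a := by
  have e : (QuotientAddGroup.quotientKerEquivOfSurjective α hα).symm (α a) = QuotientAddGroup.mk a :=
    (AddEquiv.symm_apply_eq _).2 rfl
  rw [equivOfKer, AddEquiv.trans_apply, AddEquiv.trans_apply, e]
  rfl

variable {X : TopCat.{u}} {ι : Type u} {U : ι → Opens X} {V : Opens X}

/-- Acyclicity on all finite intersections. -/
def Acy (U : ι → Opens X) (F : CohTop.Ab X) : Prop :=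
  ∀ (p : ℕ) (a : Fin (p + 1) → ι) (q : ℕ), Subsingleton (Hn F (q + 1) (cap U a))

theorem subsingleton_of_injective (I : CohTop.Ab X) [Injective I] (q : ℕ) (W : Opens X) :
    Subsingleton (Hn I (q + 1) W) :=
  subsingleton_of_forall_eq 0 fun x => Ext.eq_zero_of_injective x

theorem acy_injective (I : CohTop.Ab X) [Injective I] : Acy U I :=
  fun _ _ q => subsingleton_of_injective I q _

theorem acy_quotient {F : CohTop.Ab X} (h : Acy U F) : Acy U (injSeq F).X₃ := fun n a q => by
  refine subsingleton_of_forall_eq 0 fun x => ?_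
  have := subsingleton_of_injective (injSeq F).X₂ q (cap U a)
  exact comp_extClass_injective (injSeq_shortExact F) ((h n a (q + 1)).elim _ _)

/-- The map on Čech cohomology induced by a morphism of sheaves. -/
noncomputable def cmap {F G : CohTop.Ab X} (f : F ⟶ G) (p : ℕ) :
    CohTop.cechH F.obj U p →+ CohTop.cechH G.obj U p :=
  (HomologicalComplex.homologyMap ((cechComplexFunctor U).map f.hom) p).hom

/-- The map on cohomology induced by a morphism of sheaves. -/
noncomputable def hmap {F G : CohTop.Ab X} (f : F ⟶ G) (p : ℕ) (W : Opens X) : Hn F p W →+ Hn G p W :=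
  (Ext.mk₀ f).postcomp (Zsh W) (add_zero p)

theorem hmap_apply {F G : CohTop.Ab X} (f : F ⟶ G) (p : ℕ) (W : Opens X) (x : Hn F p W) :
    hmap f p W x = x.comp (Ext.mk₀ f) (add_zero p) := rfl

/-- A natural family of isomorphisms in one degree. -/
structure Lv (U : ι → Opens X) (V : Opens X) (p : ℕ) where
  e : ∀ F : CohTop.Ab X, Acy U F → (CohTop.cechH F.obj U p ≃+ Hn F p V)
  nat : ∀ {F G : CohTop.Ab X} (f : F ⟶ G) (hF : Acy U F) (hG : Acy U G) (x : CohTop.cechH F.obj U p),
    e G hG (cmap f p x) = hmap f p V (e F hF x)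

/-- Degree zero. -/
noncomputable def lv0 (hU : ∀ k, U k ≤ V) (hV : V ≤ iSup U) : Lv U V 0 where
  e F _ :=
    haveI := isIso_θ V hU hV F
    ((asIso (θ V hU F)).addCommGroupIsoToAddEquiv).symm.trans (H0Equiv F V).symm
  nat {F G} f _ _ x := by
    have := isIso_θ V hU hV F
    have := isIso_θ V hU hV G
    obtain ⟨s, rfl⟩ := ((asIso (θ V hU F)).addCommGroupIsoToAddEquiv).surjective x
    rw [AddEquiv.trans_apply, AddEquiv.trans_apply, AddEquiv.symm_apply_apply]
    refine (H0Equiv G V).injective ?_
    rw [AddEquiv.apply_symm_apply, hmap_apply, H0Equiv_map, AddEquiv.apply_symm_apply,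
      AddEquiv.symm_apply_eq]
    exact ConcreteCategory.congr_hom (θ_naturality V hU f) s

section next

variable {p : ℕ} (L : Lv U V p)

/-- Sections surject along the injective sequence of an acyclic sheaf. -/
theorem cech_shortExact {F : CohTop.Ab X} (h : Acy U F) : (cechSeq U (injSeq F)).ShortExact :=
  cechSeq_shortExact U (injSeq_shortExact F) fun n a =>
    surjective_sections_of_subsingleton (injSeq_shortExact F) _ (h n a 0)

/-- The Čech connecting map. -/
noncomputable def cδ {F : CohTop.Ab X} (h : Acy U F) (p : ℕ) :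
    CohTop.cechH (injSeq F).X₃.obj U p →+ CohTop.cechH F.obj U (p + 1) :=
  ((cech_shortExact h).δ p (p + 1) (by simp)).hom

/-- The connecting map. -/
noncomputable def eδ (F : CohTop.Ab X) (p : ℕ) (W : Opens X) :
    Hn (injSeq F).X₃ p W →+ Hn F (p + 1) W :=
  (injSeq_shortExact F).extClass.postcomp (Zsh W) rfl

theorem cδ_surjective {F : CohTop.Ab X} (h : Acy U F) (p : ℕ) : Function.Surjective (cδ h p) :=
  (AddCommGrpCat.epi_iff_surjective _).1 (((cech_shortExact h).homology_exact₁ p (p + 1)
    (by simp)).epi_f_iff.2 ((isZero_cechH_of_flasque U (flasque_of_injective _) p).eq_of_tgt _ _))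

theorem eδ_surjective (F : CohTop.Ab X) (p : ℕ) (W : Opens X) : Function.Surjective (eδ F p W) :=
  fun x => by
    have := subsingleton_of_injective (injSeq F).X₂ p W
    exact exists_extClass_lift (injSeq_shortExact F) x

theorem ker_cδ_eq {F : CohTop.Ab X} (h : Acy U F) :
    (cδ h p).ker = ((eδ F p V).comp (L.e _ (acy_quotient h)).toAddMonoidHom).ker := by
  refine le_antisymm (fun x hx => ?_) (fun x hx => ?_)
  · obtain ⟨w, rfl⟩ := (ShortComplex.ab_exact_iff _).1
      ((cech_shortExact h).homology_exact₃ p (p + 1) (by simp)) x hx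
    change eδ F p V (L.e _ (acy_quotient h) (cmap (injSeq F).g p w)) = 0
    refine (congrArg (eδ F p V) ((L.nat (injSeq F).g (acy_injective _) (acy_quotient h) w).trans
      (hmap_apply _ _ _ _))).trans ?_
    change (Ext.comp _ _ _).comp (injSeq_shortExact F).extClass rfl = 0
    rw [Ext.comp_assoc_of_second_deg_zero, (injSeq_shortExact F).comp_extClass, Ext.comp_zero]
  · obtain ⟨v, hv⟩ := Ext.covariant_sequence_exact₃ (Zsh V) (injSeq_shortExact F)
      (L.e _ (acy_quotient h) x) rfl hx
    have hw : x = cmap (injSeq F).g p ((L.e (injSeq F).X₂ (acy_injective _)).symm v) := by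
      refine (L.e _ (acy_quotient h)).injective ?_
      rw [L.nat (injSeq F).g (acy_injective _) (acy_quotient h), AddEquiv.apply_symm_apply, hmap_apply, hv]
    rw [hw]
    exact ConcreteCategory.congr_hom ((cech_shortExact h).comp_δ p (p + 1) (by simp))
      ((L.e (injSeq F).X₂ (acy_injective _)).symm v)

/-- The next degree. -/
noncomputable def nextE (F : CohTop.Ab X) (h : Acy U F) :
    CohTop.cechH F.obj U (p + 1) ≃+ Hn F (p + 1) V :=
  equivOfKer (cδ h p) ((eδ F p V).comp (L.e _ (acy_quotient h)).toAddMonoidHom) (cδ_surjective h p)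
    ((eδ_surjective F p V).comp (L.e _ (acy_quotient h)).surjective) (ker_cδ_eq L h)

theorem nextE_cδ (F : CohTop.Ab X) (h : Acy U F) (x : CohTop.cechH (injSeq F).X₃.obj U p) :
    nextE L F h (cδ h p x) = eδ F p V (L.e _ (acy_quotient h) x) :=
  equivOfKer_apply _ _ _ _ _ x

/-- A map of injective sequences over a morphism. -/
noncomputable def injSeqMap {F G : CohTop.Ab X} (f : F ⟶ G) : injSeq F ⟶ injSeq G where
  τ₁ := f
  τ₂ := Injective.factorThru (f ≫ Injective.ι G) (Injective.ι F)
  τ₃ := cokernel.map _ _ f (Injective.factorThru (f ≫ Injective.ι G) (Injective.ι F))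
    (Injective.comp_factorThru _ _)
  comm₁₂ := (Injective.comp_factorThru _ _).symm
  comm₂₃ := (cokernel.π_desc _ _ _).symm

theorem nextE_nat {F G : CohTop.Ab X} (f : F ⟶ G) (hF : Acy U F) (hG : Acy U G)
    (x : CohTop.cechH F.obj U (p + 1)) :
    nextE L G hG (cmap f (p + 1) x) = hmap f (p + 1) V (nextE L F hF x) := by
  obtain ⟨y, rfl⟩ := cδ_surjective hF p x
  let φ : cechSeq U (injSeq F) ⟶ cechSeq U (injSeq G) :=
    { τ₁ := (cechComplexFunctor U).map (injSeqMap f).τ₁.hom
      τ₂ := (cechComplexFunctor U).map (injSeqMap f).τ₂.hom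
      τ₃ := (cechComplexFunctor U).map (injSeqMap f).τ₃.hom
      comm₁₂ := by
        refine ((cechComplexFunctor U).map_comp _ _).symm.trans (Eq.trans ?_ ((cechComplexFunctor U).map_comp _ _))
        exact congrArg _ (congrArg (fun g => g.hom) (injSeqMap f).comm₁₂)
      comm₂₃ := by
        refine ((cechComplexFunctor U).map_comp _ _).symm.trans (Eq.trans ?_ ((cechComplexFunctor U).map_comp _ _))
        exact congrArg _ (congrArg (fun g => g.hom) (injSeqMap f).comm₂₃) }
  have h1 : cmap f (p + 1) (cδ hF p y) = cδ hG p (cmap (injSeqMap f).τ₃ p y) :=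
    (ConcreteCategory.congr_hom (HomologicalComplex.HomologySequence.δ_naturality φ
      (cech_shortExact hF) (cech_shortExact hG) p (p + 1) (by simp)) y :)
  rw [h1, nextE_cδ, nextE_cδ, L.nat (injSeqMap f).τ₃ (acy_quotient hF) (acy_quotient hG), hmap_apply,
    hmap_apply]
  change (Ext.comp _ _ _).comp (injSeq_shortExact G).extClass rfl =
    (Ext.comp _ (injSeq_shortExact F).extClass rfl).comp (Ext.mk₀ (injSeqMap f).τ₁) (add_zero _)
  rw [Ext.comp_assoc (a₁₂ := p + 1) (a₂₃ := 1) _ (injSeq_shortExact F).extClass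
      (Ext.mk₀ (injSeqMap f).τ₁) rfl (add_zero 1) (by omega),
    ShortComplex.ShortExact.extClass_naturality (injSeq_shortExact F) (injSeq_shortExact G) (injSeqMap f),
    ← Ext.comp_assoc (a₁₂ := p) (a₂₃ := 1) _ (Ext.mk₀ (injSeqMap f).τ₃) (injSeq_shortExact G).extClass
      (add_zero p) (zero_add 1) (by omega)]

end next

/-- Leray's isomorphisms. -/
noncomputable def lv (hU : ∀ k, U k ≤ V) (hV : V ≤ iSup U) : ∀ p, Lv U V p
  | 0 => lv0 hU hV
  | p + 1 => ⟨nextE (lv hU hV p), nextE_nat (lv hU hV p)⟩

end Groth.Agent.H10Coh.LerayNat
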