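import Groth.Agent.S9370
import Groth.Agent.S9386
import Groth.Agent.H17.PrinOmega
import Groth.Agent.H19AbSch.OmegaAbScheme

/-!
# Differentials of a fibre product

For a cartesian square `X = X₁ ×_S X₂` the sheaf of differentials of `X/S` is the direct sum of the two pull-backs.
-/

set_option autoImplicit false
set_option linter.style.haveILetI false
set_option backward.isDefEq.respectTransparency.types false

noncomputable section

universe u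

open CategoryTheory CategoryTheory.Limits AlgebraicGeometry Opposite TopologicalSpace

namespace Groth.Agent.H10Coh.OmegaProd

variable {X X₁ X₂ S : Scheme.{u}} {p₁ : X ⟶ X₁} {p₂ : X ⟶ X₂} {f₁ : X₁ ⟶ S} {f₂ : X₂ ⟶ S} {h : X ⟶ S}

/-- A derivation relative to `p₁` is a derivation relative to `p₁ ≫ f₁`. -/
def coarsen (hh : p₁ ≫ f₁ = h) {F : X.Modules} (D : OmegaSh.Der p₁ F) : OmegaSh.Der h F where
  d {U} := D.d (X := U)
  d_mul {U} a b := D.d_mul a b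
  d_map {U V} i a := D.d_map i a
  d_app {U} c := by
    subst hh
    obtain ⟨U⟩ := U
    change D.d (X := op (p₁ ⁻¹ᵁ (f₁ ⁻¹ᵁ U))) (((p₁ ≫ f₁).app U).hom c) = 0
    rw [Scheme.Hom.comp_app]
    exact D.d_app (X := op (f₁ ⁻¹ᵁ U)) ((f₁.app U).hom c)

/-- A derivation relative to `h` killing functions from `X₁` is one relative to `p₁`. -/
def refine' {F : X.Modules} (D : OmegaSh.Der h F)
    (hD : ∀ (U : X₁.Opens) (c : Γ(X₁, U)), D.app (p₁ ⁻¹ᵁ U) (p₁.app U c) = 0) : OmegaSh.Der p₁ F where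
  d {U} := D.d (X := U)
  d_mul {U} a b := D.d_mul a b
  d_map {U V} i a := D.d_map i a
  d_app {U} c := hD U.unop c

variable {Ω₁ : X₁.Modules} {d₁ : OmegaSh.Der f₁ Ω₁} {Ω₂ : X₂.Modules} {d₂ : OmegaSh.Der f₂ Ω₂} {Ω : X.Modules}
  {d : OmegaSh.Der h Ω} {Ωr : X.Modules} {dr : OmegaSh.Der p₁ Ωr}

/-- The relative differentials receive the pull-back of the other factor isomorphically, and kill the first. -/
theorem exists_retraction (hsq : IsPullback p₂ p₁ f₂ f₁) (hh : p₁ ≫ f₁ = h) (hd₁ : OmegaSh.IsUniversal d₁)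
    (hd₂ : OmegaSh.IsUniversal d₂) (hd : OmegaSh.IsUniversal d) (hdr : OmegaSh.IsUniversal dr)
    (c₁ : (Scheme.Modules.pullback p₁).obj Ω₁ ⟶ Ω) (hc₁ : OmegaSh.IsDiffCompat p₁ d₁ d c₁)
    (c₂ : (Scheme.Modules.pullback p₂).obj Ω₂ ⟶ Ω) (hc₂ : OmegaSh.IsDiffCompat p₂ d₂ d c₂) :
    (∃ r : Ω ⟶ (Scheme.Modules.pullback p₂).obj Ω₂, c₂ ≫ r = 𝟙 _ ∧ c₁ ≫ r = 0) ∧
      ∀ {F : X.Modules} (φ : Ω ⟶ F), c₁ ≫ φ = 0 → c₂ ≫ φ = 0 → φ = 0 := by
  obtain ⟨ρ, hρ, -⟩ := hd _ (coarsen hh dr)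
  have hρv : ∀ (U : X.Opens) (s : Γ(X, U)), ρ.app U (d.app U s) = dr.app U s := fun U s =>
    PresheafOfModules.Derivation.congr_d hρ (X := op U) s
  have hc2ρ : OmegaSh.IsDiffCompat p₂ d₂ dr (c₂ ≫ ρ) := fun U s => by
    refine Eq.trans ?_ (hρv _ (p₂.app U s))
    exact congrArg (ρ.app (p₂ ⁻¹ᵁ U)) (hc₂ U s)
  haveI : IsIso (c₂ ≫ ρ) := S9386.result f₂ f₁ p₂ p₁ hsq Ω₂ d₂ hd₂ Ωr dr hdr (c₂ ≫ ρ) hc2ρ
  have hc1ρ : c₁ ≫ ρ = 0 := by
    obtain ⟨c, -, huniq⟩ := S9370.result f₁ p₁ p₁ f₁ rfl Ω₁ d₁ hd₁ Ωr dr hdr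
    refine (huniq _ fun U s => ?_).trans (huniq 0 fun U s => ?_).symm
    · exact ((congrArg (ρ.app (p₁ ⁻¹ᵁ U)) (hc₁ U s)).trans (hρv _ (p₁.app U s)))
    · exact Eq.symm (dr.d_app (X := op U) s)
  refine ⟨⟨ρ ≫ inv (c₂ ≫ ρ), by rw [← Category.assoc, IsIso.hom_inv_id],
    by rw [← Category.assoc, hc1ρ, zero_comp]⟩, fun {F} φ h₁ h₂ => ?_⟩
  have hD : ∀ (U : X₁.Opens) (c : Γ(X₁, U)), OmegaSh.Der.app (d.postcomp φ.val) (p₁ ⁻¹ᵁ U) (p₁.app U c) = 0 := fun U c => by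
    change φ.app (p₁ ⁻¹ᵁ U) (d.app (p₁ ⁻¹ᵁ U) (p₁.app U c)) = 0
    rw [← hc₁ U c]
    change (c₁ ≫ φ).app (p₁ ⁻¹ᵁ U) _ = 0
    rw [h₁]
    rfl
  obtain ⟨ψ, hψ, -⟩ := hdr F (refine' (d.postcomp φ.val) hD)
  have hφ : φ = ρ ≫ ψ := by
    obtain ⟨a, -, huniq⟩ := hd F (d.postcomp φ.val)
    refine (huniq φ rfl).trans (huniq (ρ ≫ ψ) ?_).symm
    ext ⟨U⟩ s
    exact (congrArg (ψ.app U) (hρv U s)).trans (PresheafOfModules.Derivation.congr_d hψ (X := op U) s)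
  have hψ0 : ψ = 0 := by
    rw [← cancel_epi (c₂ ≫ ρ), Category.assoc, ← hφ, h₂, comp_zero]
  rw [hφ, hψ0, comp_zero]

/-- The differentials of a fibre product. -/
theorem nonempty_biprod_iso [QuasiSeparated f₁] [QuasiSeparated f₂] [QuasiSeparated h]
    (hsq : IsPullback p₁ p₂ f₁ f₂) (hh : p₁ ≫ f₁ = h) :
    Nonempty ((Scheme.Modules.pullback p₁).obj (Omega.sheaf f₁) ⊞ (Scheme.Modules.pullback p₂).obj (Omega.sheaf f₂) ≅
      Omega.sheaf h) := by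
  haveI : QuasiSeparated p₁ := MorphismProperty.of_isPullback hsq.flip inferInstance
  haveI : QuasiSeparated p₂ := MorphismProperty.of_isPullback hsq inferInstance
  have hh' : p₂ ≫ f₂ = h := hsq.w.symm.trans hh
  have u₁ := H17.PrinOmega.isUniversal_dOmega f₁
  have u₂ := H17.PrinOmega.isUniversal_dOmega f₂
  have u := H17.PrinOmega.isUniversal_dOmega h
  obtain ⟨c₁, hc₁, -⟩ := S9370.result f₁ h p₁ (𝟙 S) (by rw [Category.comp_id]; exact hh.symm) _ _ u₁ _ _ u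
  obtain ⟨c₂, hc₂, -⟩ := S9370.result f₂ h p₂ (𝟙 S) (by rw [Category.comp_id]; exact hh'.symm) _ _ u₂ _ _ u
  obtain ⟨⟨r₂, h22, h12⟩, hepi⟩ := exists_retraction hsq.flip hh u₁ u₂ u
    (H17.PrinOmega.isUniversal_dOmega p₁) c₁ hc₁ c₂ hc₂
  obtain ⟨⟨r₁, h11, h21⟩, -⟩ := exists_retraction hsq hh' u₂ u₁ u
    (H17.PrinOmega.isUniversal_dOmega p₂) c₂ hc₂ c₁ hc₁
  refine ⟨{ hom := biprod.desc c₁ c₂, inv := biprod.lift r₁ r₂, hom_inv_id := ?_, inv_hom_id := ?_ }⟩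
  · apply biprod.hom_ext' <;> apply biprod.hom_ext <;> simp [h11, h12, h21, h22]
  · refine sub_eq_zero.1 (hepi _ ?_ ?_)
    · simp [biprod.lift_desc, Preadditive.comp_sub, Preadditive.comp_add, reassoc_of% h11, reassoc_of% h12]
    · simp [biprod.lift_desc, Preadditive.comp_sub, Preadditive.comp_add, reassoc_of% h21, reassoc_of% h22]

end Groth.Agent.H10Coh.OmegaProd
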