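import Groth.Agent.H10Coh.SheafH

/-!
Restriction of abelian sheaves along an open embedding: `H^n(V, F|) = H^n(j''V, F)`.
-/

universe u

open CategoryTheory CategoryTheory.Limits Opposite TopologicalSpace Abelian Topology

namespace Groth.Agent.H10Coh

attribute [local instance 10000] hasSheafifyAb hasWeakSheafifyAb hasExtAb enoughInjAb

variable {X Y : TopCat.{u}} {j : X ⟶ Y} (hj : IsOpenEmbedding j)

/-- Restriction along an open embedding. -/
noncomputable abbrev Rf : CohTop.Ab Y ⥤ CohTop.Ab X := hj.sheafPullback AddCommGrpCat.{u}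

/-- The image of an open. -/
noncomputable abbrev im (V : Opens X) : Opens Y := hj.isOpenMap.functor.obj V

theorem im_mono {V W : Opens X} (h : W ≤ V) : im hj W ≤ im hj V :=
  (hj.isOpenMap.functor.map (homOfLE h)).le

instance : (Rf hj).Additive := ⟨rfl⟩

instance : PreservesFiniteColimits (Rf hj) := by
  have : (CohTop.pull j).IsLeftAdjoint :=
    (TopCat.Sheaf.pullbackPushforwardAdjunction AddCommGrpCat.{u} j).isLeftAdjoint
  have : PreservesFiniteColimits (CohTop.pull j) :=
    PreservesColimitsOfSize.preservesFiniteColimits.{u, u} (CohTop.pull j)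
  exact preservesFiniteColimits_of_natIso (hj.sheafPullbackIso AddCommGrpCat.{u})

instance : PreservesFiniteLimits (Rf hj) := by
  have : PreservesFiniteLimits (Rf hj ⋙ sheafToPresheaf _ _) := by
    change PreservesFiniteLimits
      (sheafToPresheaf (Opens.grothendieckTopology Y) AddCommGrpCat.{u} ⋙
        (Functor.whiskeringLeft _ _ AddCommGrpCat.{u}).obj hj.isOpenMap.functor.op)
    infer_instance
  exact preservesFiniteLimits_of_reflects_of_preserves _ (sheafToPresheaf _ _)

theorem flasque_Rf {F : CohTop.Ab Y} (hF : Flasque F) : Flasque ((Rf hj).obj F) :=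
  fun _ _ h => hF (im_mono hj h)

/-- The canonical map `ℤ_V ⟶ (ℤ_{j''V})|`. -/
noncomputable def genR (V : Opens X) : Zsh V ⟶ (Rf hj).obj (Zsh (im hj V)) :=
  (sect V _).symm (sect (im hj V) _ (𝟙 _))

theorem sect_genR_self (V : Opens X) :
    sect V _ (genR hj V) = (sect (im hj V) _ (𝟙 _) : (Zsh (im hj V)).obj.obj (op (im hj V))) :=
  (sect V _).apply_symm_apply _

theorem sect_genR {V : Opens X} {F : CohTop.Ab Y} (φ : Zsh (im hj V) ⟶ F) :
    sect V ((Rf hj).obj F) (genR hj V ≫ (Rf hj).map φ) = sect (im hj V) F φ := by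
  refine (congrArg (fun t => φ.hom.app (op (im hj V)) t) (sect_genR_self hj V)).trans ?_
  exact (sect_comp (𝟙 _) φ).symm.trans (by rw [Category.id_comp])

theorem genR_natural {V W : Opens X} (h : W ≤ V) :
    zmap h ≫ genR hj V = genR hj W ≫ (Rf hj).map (zmap (im_mono hj h)) := by
  apply (sect W _).injective
  refine ((sect_res h _).trans ?_).trans (sect_genR hj (zmap (im_mono hj h))).symm
  refine (congrArg (fun t => (Zsh (im hj V)).obj.map (homOfLE (im_mono hj h)).op t)
    (sect_genR_self hj V)).trans ?_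
  exact (sect_res (im_mono hj h) (𝟙 _)).symm.trans (by rw [Category.comp_id])

theorem genR_bijective (V : Opens X) (F : CohTop.Ab Y) :
    Function.Bijective fun φ : Zsh (im hj V) ⟶ F => genR hj V ≫ (Rf hj).map φ := by
  have : (fun φ : Zsh (im hj V) ⟶ F => genR hj V ≫ (Rf hj).map φ) =
      fun φ => (sect V ((Rf hj).obj F)).symm (sect (im hj V) F φ) := by
    funext φ
    exact ((sect V _).symm_apply_eq.2 (sect_genR hj φ).symm).symm
  rw [this]
  exact (sect V _).symm.bijective.comp (sect _ _).bijective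

/-- `H^n(j''V, F) ≃ H^n(V, F|)`. -/
noncomputable def restrEquiv (F : CohTop.Ab Y) (n : ℕ) (V : Opens X) :
    Hn F n (im hj V) ≃+ Hn ((Rf hj).obj F) n V :=
  extMapEquiv (Rf hj) (genR hj V) (genR_bijective hj V)
    (fun J _ n => subsingleton_of_flasque (flasque_Rf hj (flasque_of_injective J)) n V) n F

theorem restrEquiv_map {F G : CohTop.Ab Y} (f : F ⟶ G) (n : ℕ) (V : Opens X) (x : Hn F n (im hj V)) :
    restrEquiv hj G n V (x.comp (Ext.mk₀ f) (add_zero n)) =
      (restrEquiv hj F n V x).comp (Ext.mk₀ ((Rf hj).map f)) (add_zero n) :=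
  extMap_naturality (Rf hj) (genR hj V) f n x

theorem restrEquiv_res (F : CohTop.Ab Y) (n : ℕ) {V W : Opens X} (h : W ≤ V) (x : Hn F n (im hj V)) :
    restrEquiv hj F n W (resH F n (im_mono hj h) x) = resH _ n h (restrEquiv hj F n V x) :=
  extMap_precomp (Rf hj) (genR hj V) (genR hj W) _ _ (genR_natural hj h) F n x

theorem H0Equiv_restrEquiv (F : CohTop.Ab Y) (V : Opens X) (x : Hn F 0 (im hj V)) :
    H0Equiv ((Rf hj).obj F) V (restrEquiv hj F 0 V x) = H0Equiv F (im hj V) x := by
  obtain ⟨φ, rfl⟩ := (Ext.mk₀_bijective _ _).2 x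
  rw [restrEquiv, extMapEquiv_apply, extMap_mk₀, H0Equiv_mk₀, H0Equiv_mk₀, sect_genR]

theorem subsingleton_restr_iff (F : CohTop.Ab Y) (n : ℕ) (V : Opens X) :
    Subsingleton (Hn ((Rf hj).obj F) n V) ↔ Subsingleton (Hn F n (im hj V)) :=
  (restrEquiv hj F n V).toEquiv.subsingleton_congr.symm

end Groth.Agent.H10Coh
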