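import Groth.Agent.H11Ample.Converse
import Groth.Agent.H10Coh.TensorBasics
import Groth.Agent.H25Theta.Basic
import Groth.Agent.H17.Reduced
import Mathlib.AlgebraicGeometry.Morphisms.Proper
import Mathlib.AlgebraicGeometry.IdealSheaf.IrreducibleComponent

/-! # Morphisms from connected proper schemes that see an ample module as trivial -/

set_option autoImplicit false
set_option backward.isDefEq.respectTransparency.types false
set_option linter.style.haveILetI false

universe u

open CategoryTheory CategoryTheory.Limits AlgebraicGeometry TopologicalSpace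

noncomputable section

namespace Groth.Agent.H10Coh.PointImage

variable {K : Type u} [Field K]

theorem nonempty_tensorPow_unit {Z : Scheme.{u}} {M : Z.Modules} (e : M ≅ Coh.structureModule Z) :
    ∀ k, Nonempty (CohB1.tensorPow M k ≅ Coh.structureModule Z)
  | 0 => ⟨Iso.refl _⟩
  | k + 1 => by
    obtain ⟨φ⟩ := nonempty_tensorPow_unit e k
    exact ⟨PicGrp.tensorModIso φ e ≪≫ H10Coh.Tw.rightUnitIso _⟩

/-- An integral proper scheme on which an ample module becomes trivial goes to a point. -/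
theorem eq_of_trivial {W P : Scheme.{u}} [IsIntegral W] (q : W ⟶ Spec (CommRingCat.of K)) [UniversallyClosed q]
    (ψ : W ⟶ P) {M : P.Modules} (hM : CohB1.IsAmple M)
    (h : Nonempty ((Scheme.Modules.pullback ψ).obj M ≅ Coh.structureModule W)) (x x' : W) : ψ x = ψ x' := by
  obtain ⟨hM', -, hpts⟩ := H11Ample.isAmple_iff.1 hM
  obtain ⟨k, s, hk, hxs, hs⟩ := hpts (ψ x)
  obtain ⟨φ⟩ := H11Ample.exists_iso_pullback_tensorPow ψ hM' k
  obtain ⟨e⟩ := h
  obtain ⟨e'⟩ := nonempty_tensorPow_unit e k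
  let g : Γ(Coh.structureModule W, ⊤) := (φ ≪≫ e').hom.app ⊤ (H11Ample.pullTop ψ s)
  have hgen : H11Ample.gen (Coh.structureModule W) g = ψ ⁻¹ᵁ H11Ample.gen (CohB1.tensorPow M k) s := by
    show H11Ample.gen _ ((φ ≪≫ e').hom.app ⊤ (H11Ample.pullTop ψ s)) = _
    rw [H11Ample.gen_iso]
    have := H11Ample.gen_smul_pullSect ψ (H11Ample.isInvertible_tensorPow hM' k) s (isUnit_one (M := Γ(W, ⊤)))
    rwa [one_smul] at this
  have hone : H11Tilde.IsGen (Coh.structureModule W) (H11Ample.one (X := W) ⊤) := H11Ample.isGen_one ⊤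
  have hb := H11Ample.gen_inf_eq_basicOpen (V := ⊤) hone g (show Γ(W, ⊤) from g) (by
    change (Coh.structureModule W).presheaf.map _ g = (show Γ(W, ⊤) from g) * (1 : Γ(W, ⊤))
    rw [mul_one, show (homOfLE (le_top : (⊤ : W.Opens) ≤ ⊤)).op = 𝟙 _ from Subsingleton.elim _ _,
      (Coh.structureModule W).presheaf.map_id]
    rfl)
  rw [inf_top_eq, hgen] at hb
  letI := (isField_of_universallyClosed (K := K) q).toField
  have hne : (show Γ(W, ⊤) from g) ≠ 0 := fun h0 => by
    rw [h0, Scheme.basicOpen_zero] at hb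
    exact (hb.le (show x ∈ ψ ⁻¹ᵁ H11Ample.gen (CohB1.tensorPow M k) s from hxs) : x ∈ (⊥ : W.Opens))
  have hall : ∀ w, ψ w ∈ H11Ample.gen (CohB1.tensorPow M k) s := fun w =>
    (hb.ge (by rw [Scheme.basicOpen_of_isUnit W (Ne.isUnit hne)]; trivial) :
      w ∈ ψ ⁻¹ᵁ H11Ample.gen (CohB1.tensorPow M k) s)
  haveI : IsAffine (H11Ample.gen (CohB1.tensorPow M k) s).toScheme := hs
  let U := H11Ample.gen (CohB1.tensorPow M k) s
  let l : W ⟶ U.toScheme := IsOpenImmersion.lift U.ι ψ (by
    rintro _ ⟨y, rfl⟩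
    rw [Scheme.Opens.range_ι]
    exact hall y)
  have hl : l ≫ U.ι = ψ := IsOpenImmersion.lift_fac _ _ _
  haveI : Subsingleton ↥(Spec Γ(W, ⊤)) := inferInstanceAs (Subsingleton (PrimeSpectrum Γ(W, ⊤)))
  have hfac : l = W.toSpecΓ ≫ (Spec.map l.appTop ≫ U.toScheme.isoSpec.inv) := by
    rw [← Category.assoc, ← Scheme.toSpecΓ_naturality, Category.assoc]
    exact ((Category.comp_id l).symm.trans (congrArg (l ≫ ·) U.toScheme.isoSpec.hom_inv_id.symm)).trans (by rfl)
  rw [← hl, hfac]
  simp only [Scheme.Hom.comp_apply]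
  rw [Subsingleton.elim (W.toSpecΓ x) (W.toSpecΓ x')]

/-- A connected proper scheme on which an ample module becomes trivial goes to a point. -/
theorem exists_point {Z P : Scheme.{u}} [ConnectedSpace Z] (t : Z ⟶ Spec (CommRingCat.of K)) [IsProper t]
    (ψ : Z ⟶ P) {M : P.Modules} (hM : CohB1.IsAmple M)
    (h : Nonempty ((Scheme.Modules.pullback ψ).obj M ≅ Coh.structureModule Z)) :
    ∃ c, Set.range ψ = {c} := by
  haveI : IsLocallyNoetherian Z := LocallyOfFiniteType.isLocallyNoetherian t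
  haveI : CompactSpace Z := QuasiCompact.compactSpace_of_compactSpace t
  haveI : IsNoetherian Z := {}
  obtain ⟨e⟩ := h
  have hconst : ∀ A ∈ irreducibleComponents Z, ∀ a ∈ A, ∀ b ∈ A, ψ a = ψ b := by
    intro A hA a ha b hb
    let I := Scheme.IdealSheafData.vanishingIdeal (⟨A, isClosed_of_mem_irreducibleComponents A hA⟩ : Closeds Z)
    have hr : Set.range I.subschemeι = A := by
      rw [Scheme.IdealSheafData.range_subschemeι, Scheme.IdealSheafData.coe_support_vanishingIdeal]
      rfl
    haveI : IrreducibleSpace I.subscheme := by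
      haveI : IrreducibleSpace (Set.range I.subschemeι) := by
        rw [hr]
        exact Subtype.irreducibleSpace hA.1
      exact Function.Surjective.irreducibleSpace I.subschemeι.isEmbedding.toHomeomorph.symm.continuous
        I.subschemeι.isEmbedding.toHomeomorph.symm.surjective
    haveI := Groth.Agent.H17.isReduced_vanishingIdeal_subscheme (⟨A, isClosed_of_mem_irreducibleComponents A hA⟩ : Closeds Z)
    haveI := isIntegral_of_irreducibleSpace_of_isReduced I.subscheme
    rw [← hr] at ha hb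
    obtain ⟨a', rfl⟩ := ha
    obtain ⟨b', rfl⟩ := hb
    exact eq_of_trivial (I.subschemeι ≫ t) (I.subschemeι ≫ ψ) hM
      ⟨((Scheme.Modules.pullbackComp I.subschemeι ψ).app M).symm ≪≫
        (Scheme.Modules.pullback I.subschemeι).mapIso e ≪≫ H25Theta.pO _⟩ a' b'
  obtain ⟨z₀⟩ : Nonempty Z := inferInstance
  refine ⟨ψ z₀, Set.eq_singleton_iff_unique_mem.2 ⟨⟨z₀, rfl⟩, ?_⟩⟩
  rintro _ ⟨z, rfl⟩
  by_contra hne
  let S : Set Z := ψ ⁻¹' {ψ z₀}
  have hS : S = ⋃₀ {A ∈ irreducibleComponents Z | A ⊆ S} := by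
    refine subset_antisymm (fun w hw => ?_) (Set.sUnion_subset fun A hA => hA.2)
    exact ⟨irreducibleComponent w, ⟨irreducibleComponent_mem_irreducibleComponents w, fun v hv =>
      ((hconst _ (irreducibleComponent_mem_irreducibleComponents w) v hv w mem_irreducibleComponent).trans hw :
        ψ v = ψ z₀)⟩, mem_irreducibleComponent⟩
  have hS' : Sᶜ = ⋃₀ {A ∈ irreducibleComponents Z | A ⊆ Sᶜ} := by
    refine subset_antisymm (fun w hw => ?_) (Set.sUnion_subset fun A hA => hA.2)
    exact ⟨irreducibleComponent w, ⟨irreducibleComponent_mem_irreducibleComponents w, fun v hv hv' => hw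
      ((hconst _ (irreducibleComponent_mem_irreducibleComponents w) w mem_irreducibleComponent v hv).trans hv' :
        ψ w = ψ z₀)⟩, mem_irreducibleComponent⟩
  have hfin := NoetherianSpace.finite_irreducibleComponents (α := Z)
  have hc : ∀ T : Set Z, IsClosed (⋃₀ {A ∈ irreducibleComponents Z | A ⊆ T}) := fun T => by
    rw [Set.sUnion_eq_biUnion]
    exact (hfin.subset fun A hA => hA.1).isClosed_biUnion fun A hA => isClosed_of_mem_irreducibleComponents A hA.1
  have hclo : IsClopen S := ⟨hS ▸ hc S, isClosed_compl_iff.1 (hS' ▸ hc Sᶜ)⟩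
  rcases isClopen_iff.1 hclo with h0 | h0
  · exact (Set.eq_empty_iff_forall_notMem.1 h0 z₀) rfl
  · exact hne (h0.ge (Set.mem_univ z) : ψ z = ψ z₀)

end Groth.Agent.H10Coh.PointImage
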