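import Groth.Agent.H24Formal.HomComplete
import Groth.Agent.H24GE.Sys
import Groth.Agent.H8Props.ClosedBaseChange
import Groth.Agent.H17.RegPres.Chart
import Groth.Agent.LeadFF.ProperSupp
import Groth.Agent.LeadBC.Gamma
import Groth.Agent.H11Aff.DirImgFull
import Mathlib.AlgebraicGeometry.Morphisms.UniversallyInjective

/-!
# Radiciality of global sections under reduction modulo a power of an ideal
-/

set_option autoImplicit false
set_option linter.style.haveILetI false
set_option linter.unusedSectionVars false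
set_option backward.isDefEq.respectTransparency.types false

universe u

open CategoryTheory CategoryTheory.Limits AlgebraicGeometry Opposite TopologicalSpace
open Groth.Agent Groth.Agent.H24Formal Groth.Agent.H24Formal.HomC Groth.Agent.LeadFF

attribute [local instance 10000] Groth.Agent.H10Coh.hasSheafifyAb Groth.Agent.H10Coh.hasWeakSheafifyAb Groth.Agent.H10Coh.hasExtAb Groth.Agent.H10Coh.enoughInjAb

namespace Groth.Agent.H10Coh.Radicial

/-- A ring map onto the target modulo nilpotents is radicial. -/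
theorem universallyInjective_of_mod_nilpotent {B C : CommRingCat.{u}} (β : B ⟶ C)
    (h : ∀ c : C, ∃ b : B, IsNilpotent (β b - c)) : UniversallyInjective (Spec.map β) := by
  refine (List.TFAE.out (tfae_universallyInjective (Spec.map β)) 0 1 rfl rfl).mpr ?_
  intro K _ g₁ g₂ he
  obtain ⟨a₁, rfl⟩ := Spec.map_surjective g₁
  obtain ⟨a₂, rfl⟩ := Spec.map_surjective g₂
  have he' : β ≫ a₁ = β ≫ a₂ := Spec.map_injective (by simpa only [Spec.map_comp] using he)
  refine congrArg Spec.map (CommRingCat.hom_ext (RingHom.ext fun c => ?_))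
  obtain ⟨b, hb⟩ := h c
  have h1 : a₁.hom (β b - c) = 0 := (hb.map a₁.hom).eq_zero
  have h2 : a₂.hom (β b - c) = 0 := (hb.map a₂.hom).eq_zero
  rw [map_sub, sub_eq_zero] at h1 h2
  exact h1.symm.trans (congr($(he').hom b).trans h2)

/-- Left cancellation for universally injective morphisms. -/
theorem universallyInjective_of_comp {X Y Z : Scheme.{u}} (g : X ⟶ Y) (i : Y ⟶ Z) [UniversallyInjective (g ≫ i)] :
    UniversallyInjective g := by
  refine (List.TFAE.out (tfae_universallyInjective g) 0 1 rfl rfl).mpr ?_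
  intro K _ g₁ g₂ he
  have h := (List.TFAE.out (tfae_universallyInjective (g ≫ i)) 0 1 rfl rfl).mp inferInstance K
  exact h (show g₁ ≫ g ≫ i = g₂ ≫ g ≫ i by
    rw [← Category.assoc, ← Category.assoc]; exact congrArg (· ≫ i) he)

variable {A : Type u} [CommRing A] [IsNoetherianRing A] {X : Scheme.{u}} [X.Over (Spec (CommRingCat.of A))]
  [IsProper (X ↘ Spec (CommRingCat.of A))]

local notation "f" => (X ↘ Spec (CommRingCat.of A))

local notation "qJ" J => pullback.fst f (Spec.map (CommRingCat.ofHom (Ideal.Quotient.mk J)))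

/-- Sections over the closed subscheme of `J` on affine opens. -/
theorem ker_app_eq (J : Ideal A) {V : X.Opens} (hV : IsAffineOpen V) :
    RingHom.ker ((qJ J).app V).hom = J.map (scalA A V) := by
  haveI : IsClosedImmersion (Spec.map (CommRingCat.ofHom (Ideal.Quotient.mk J))) :=
    IsClosedImmersion.spec_of_surjective _ Ideal.Quotient.mk_surjective
  rw [H8Props.ClosedBC.ker_app_baseChange (i := Spec.map (CommRingCat.ofHom (Ideal.Quotient.mk J)))
    (IsPullback.of_hasPullback f _).flip (V := ⊤) (isAffineOpen_top _) hV le_top]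
  erw [H17.RegPres.ker_appTop_spec J, Ideal.map_map]
  refine congrArg (fun φ : A →+* Γ(X, V) => J.map φ) ?_
  rfl

theorem surjective_app (J : Ideal A) {V : X.Opens} (hV : IsAffineOpen V) :
    Function.Surjective ((qJ J).app V) := by
  haveI : IsClosedImmersion (Spec.map (CommRingCat.ofHom (Ideal.Quotient.mk J))) :=
    IsClosedImmersion.spec_of_surjective _ Ideal.Quotient.mk_surjective
  exact (H17.app_surjective_of_restrict (qJ J) hV).1

theorem exists_nilpotent_lift (I : Ideal A) :
    ∃ m : ℕ, 0 < m ∧ ∀ t : Γ(pullback f (Spec.map (CommRingCat.ofHom (Ideal.Quotient.mk (I ^ m)))), ⊤),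
      ∃ b : Γ(X, ⊤), IsNilpotent ((qJ (I ^ m)).appTop b - t) := by
  haveI : IsLocallyNoetherian X := LocallyOfFiniteType.isLocallyNoetherian f
  let M := Coh.structureModule X
  have hM : Coh.IsCoh M := H10Coh.isCoh_structureModule' X
  have hI : I.FG := IsNoetherian.noetherian I
  obtain ⟨c, hc⟩ := LeadFF.exists_kernel_stabilizes I M (LeadFF.properCoh_of_isProper f hM) 1
  let n := c + 1
  refine ⟨n, c.succ_pos, fun t => ?_⟩
  let π := qJ (I ^ n)
  have hlift : ∀ V : X.affineOpens, ∃ a : Γ(X, V.1),
      π.app V.1 a = (pullback f _ : Scheme.{u}).presheaf.map (homOfLE le_top).op t :=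
    fun V => surjective_app (I ^ n) V.2 _
  choose a ha using hlift
  let σ : ∀ V : X.affineOpens, Γ(Formal.modPow I n M, V.1) := fun V =>
    (Formal.modPowπ I n M).app V.1 (show Γ(M, V.1) from a V)
  -- two lifts of the same section agree modulo the ideal
  have hkey : ∀ (W : X.Opens) (hW : IsAffineOpen W) (u v : Γ(X, W)), π.app W u = π.app W v →
      (Formal.modPowπ I n M).app W (show Γ(M, W) from u) = (Formal.modPowπ I n M).app W (show Γ(M, W) from v) := by
    intro W hW u v huv
    rw [H24GE.modPowπ_eq_iff (I := I) hI hM hW n]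
    have h : u - v ∈ RingHom.ker (π.app W).hom := by rw [RingHom.mem_ker, map_sub, sub_eq_zero]; exact huv
    rw [ker_app_eq (I ^ n) hW, Ideal.map_pow] at h
    have h' := Submodule.smul_mem_smul h (Submodule.mem_top (R := Γ(X, W)) (x := (show Γ(M, W) from (1 : Γ(X, W)))))
    exact mul_one (u - v) ▸ h'
  have hres : ∀ (V : X.affineOpens) {W : X.Opens} (hWV : W ≤ V.1),
      π.app W (X.presheaf.map (homOfLE hWV).op (a V)) =
        (pullback f _ : Scheme.{u}).presheaf.map (homOfLE le_top).op t := by
    intro V W hWV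
    refine (congr($(π.naturality (homOfLE hWV).op) (a V))).trans ?_
    show (pullback f _ : Scheme.{u}).presheaf.map _ (π.app V.1 (a V)) = _
    rw [ha]
    exact (congr($((pullback f _ : Scheme.{u}).presheaf.map_comp _ _) t)).symm
  have hcompat : TopCat.Presheaf.IsCompatible (H10Coh.sh (Formal.modPow I n M)).obj (fun V : X.affineOpens => V.1) σ := by
    intro V V'
    refine H11Tilde.eq_of_locally _ _ fun x hx => ?_
    obtain ⟨W, hW, hxW, hWle⟩ := exists_isAffineOpen_mem_and_subset (U := V.1 ⊓ V'.1) (x := x) hx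
    refine ⟨W, hWle, hxW, ?_⟩
    show (Formal.modPow I n M).presheaf.map (homOfLE hWle).op
        ((Formal.modPow I n M).presheaf.map (homOfLE (inf_le_left : V.1 ⊓ V'.1 ≤ V.1)).op (σ V)) =
      (Formal.modPow I n M).presheaf.map (homOfLE hWle).op
        ((Formal.modPow I n M).presheaf.map (homOfLE (inf_le_right : V.1 ⊓ V'.1 ≤ V'.1)).op (σ V'))
    refine (H11Aff.DirImg.res_res (Formal.modPow I n M) _ hWle (hWle.trans inf_le_left) (σ V)).trans
      (Eq.trans ?_ (H11Aff.DirImg.res_res (Formal.modPow I n M) _ hWle (hWle.trans inf_le_right) (σ V')).symm)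
    refine (H11Tilde.app_map_apply (Formal.modPowπ I n M) (hWle.trans inf_le_left) _).symm.trans
      (Eq.trans ?_ (H11Tilde.app_map_apply (Formal.modPowπ I n M) (hWle.trans inf_le_right) _))
    exact hkey W hW _ _ ((hres V (hWle.trans inf_le_left)).trans (hres V' (hWle.trans inf_le_right)).symm)
  obtain ⟨s, hs, -⟩ := TopCat.Sheaf.existsUnique_gluing' (H10Coh.sh (Formal.modPow I n M))
    (fun V : X.affineOpens => V.1) ⊤ (fun V => homOfLE le_top)
    (fun x _ => by
      obtain ⟨W, hW, hxW, -⟩ := exists_isAffineOpen_mem_and_subset (U := (⊤ : X.Opens)) (x := x) trivial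
      exact Opens.mem_iSup.2 ⟨⟨W, hW⟩, hxW⟩) σ hcompat
  -- lift modulo a lower power
  let x : Coh.HH X (Formal.modPow I n M) 0 := (LeadBC.secTopEquiv (X := X) (Formal.modPow I n M)).symm s
  have hδ : Hm (Formal2.idealPowModι I n M) 1 (dl (powSeq_shortExact I M n) 0 x) = 0 :=
    Hm_dl (powSeq_shortExact I M n) 0 x
  have hδ' := hc n (Nat.le_succ c) _ hδ
  have hle : n - c ≤ n := Nat.sub_le n c
  have hd : dl (powSeq_shortExact I M (n - c)) 0 (Hm (Formal2.modPowLE I hle M) 0 x) = 0 :=
    (dl_natural (powSeq_shortExact I M n) (powSeq_shortExact I M (n - c)) (powSeqMap I M hle) 0 x).trans hδ'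
  obtain ⟨y, hy⟩ := exists_Hm_g (powSeq_shortExact I M (n - c)) 0 _ hd
  let b : Γ(X, ⊤) := LeadBC.secTopEquiv (X := X) M y
  have hb : (Formal.modPowπ I (n - c) M).app ⊤ (show Γ(M, ⊤) from b) = (Formal2.modPowLE I hle M).app ⊤ s := by
    refine (LeadBC.secTopEquiv_natural (Formal.modPowπ I (n - c) M) y).symm.trans ?_
    refine (congrArg (LeadBC.secTopEquiv (X := X) (Formal.modPow I (n - c) M)) hy).trans ?_
    rw [LeadBC.secTopEquiv_natural, AddEquiv.apply_symm_apply]
  refine ⟨b, n, ?_⟩
  refine TopCat.Sheaf.eq_of_locally_eq' (pullback f _ : Scheme.{u}).sheaf (fun V : X.affineOpens => π ⁻¹ᵁ V.1) ⊤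
    (fun V => homOfLE le_top) (fun z _ => by
      obtain ⟨W, hW, hxW, -⟩ := exists_isAffineOpen_mem_and_subset (U := (⊤ : X.Opens)) (x := π z) trivial
      exact Opens.mem_iSup.2 ⟨⟨W, hW⟩, hxW⟩) _ _ fun V => ?_
  let bV : Γ(X, V.1) := X.presheaf.map (homOfLE le_top).op b
  have hmem : bV - a V ∈ secIdeal I V.1 := by
    have h : (Formal.modPowπ I (n - c) M).app V.1 (show Γ(M, V.1) from bV) =
        (Formal.modPowπ I (n - c) M).app V.1 (show Γ(M, V.1) from a V) := by
      refine (H11Tilde.app_map_apply (Formal.modPowπ I (n - c) M) (le_top : V.1 ≤ ⊤) (show Γ(M, ⊤) from b)).trans ?_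
      rw [hb, ← H11Tilde.app_map_apply]
      refine (congrArg _ (hs V)).trans ?_
      exact congr($(congrArg (fun k => Scheme.Modules.Hom.app k V.1) (Formal2.modPowπ_modPowLE I hle M))
        (show Γ(M, V.1) from a V))
    rw [H24GE.modPowπ_eq_iff (I := I) hI hM V.2 (n - c)] at h
    refine Submodule.smul_induction_on (p := fun q : Γ(M, V.1) => (show Γ(X, V.1) from q) ∈ secIdeal I V.1) h
      (fun r hr q _ => ?_) fun p q hp hq => add_mem hp hq
    show r * (show Γ(X, V.1) from q) ∈ secIdeal I V.1
    exact Ideal.mul_mem_right _ _ (Ideal.pow_le_self (by omega) hr)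
  have h0 : π.app V.1 ((bV - a V) ^ n) = 0 := by
    have h : (bV - a V) ^ n ∈ RingHom.ker (π.app V.1).hom := by
      rw [ker_app_eq (I ^ n) V.2, Ideal.map_pow]
      exact Ideal.pow_mem_pow hmem n
    exact h
  rw [map_pow, map_sub] at h0
  show (pullback f _ : Scheme.{u}).presheaf.map _ _ = (pullback f _ : Scheme.{u}).presheaf.map _ 0
  rw [map_zero, map_pow, map_sub]
  refine Eq.trans ?_ h0
  rw [ha]
  refine congrArg (fun w => (w - _) ^ n) ?_
  exact (congr($(π.naturality (homOfLE (le_top : V.1 ≤ ⊤)).op) b)).symm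

/-- Some power of the ideal has radicial ring of sections. -/
theorem exists_universallyInjective (hpi : UniversallyInjective (Spec.map (f : X ⟶ _).appTop)) (I : Ideal A) :
    ∃ m : ℕ, 0 < m ∧ UniversallyInjective (Spec.map
      (pullback.snd f (Spec.map (CommRingCat.ofHom (Ideal.Quotient.mk (I ^ m))))).appTop) := by
  obtain ⟨m, hm, h⟩ := exists_nilpotent_lift (X := X) I
  refine ⟨m, hm, ?_⟩
  haveI := hpi
  haveI := universallyInjective_of_mod_nilpotent ((qJ (I ^ m)).appTop) h
  let i := Spec.map (CommRingCat.ofHom (Ideal.Quotient.mk (I ^ m)))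
  have e : Spec.map (pullback.snd f i).appTop ≫ Spec.map i.appTop =
      Spec.map (pullback.fst f i).appTop ≫ Spec.map (f : X ⟶ _).appTop := by
    rw [← Spec.map_comp, ← Spec.map_comp, ← Scheme.Hom.comp_appTop, ← Scheme.Hom.comp_appTop, pullback.condition]
  haveI : UniversallyInjective (Spec.map (pullback.snd f i).appTop ≫ Spec.map i.appTop) := by
    rw [e]
    exact MorphismProperty.comp_mem _ _ _ ‹UniversallyInjective (Spec.map (qJ (I ^ m)).appTop)› hpi
  exact universallyInjective_of_comp _ (Spec.map i.appTop)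

end Groth.Agent.H10Coh.Radicial
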