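import Groth.Agent.H10Coh.ExtMap
import Groth.Agent.H10Coh.AbInst
import Groth.Prelude.Def_FreeSh
import Groth.Prelude.Def_CohTop
import Mathlib.Topology.Sheaves.Flasque
import Mathlib.Topology.Sheaves.Abelian
import Mathlib.Algebra.Category.Grp.ForgetCorepresentable

/-!
Cohomology `H^n(U, F) = Ext^n(ℤ_U, F)` of abelian sheaves on the opens of a topological space.
-/

universe u

open CategoryTheory CategoryTheory.Limits Opposite TopologicalSpace Abelian

namespace Groth.Agent.H10Coh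

attribute [local instance 10000] hasSheafifyAb hasWeakSheafifyAb hasExtAb enoughInjAb

variable {X : TopCat.{u}}

/-- `ℤ_U`. -/
noncomputable abbrev Zsh (U : Opens X) : CohTop.Ab X := CohCx.freeSheaf (Opens.grothendieckTopology X) U

/-- `H^n(U, F)`. -/
noncomputable abbrev Hn (F : CohTop.Ab X) (n : ℕ) (U : Opens X) : Type u :=
  Ext.{u} (Zsh U) F n

/-- The map `ℤ_V ⟶ ℤ_U` for `V ≤ U`. -/
noncomputable abbrev zmap {U V : Opens X} (h : V ≤ U) : Zsh V ⟶ Zsh U :=
  CohCx.freeSheafMap (Opens.grothendieckTopology X) (homOfLE h)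

/-- The constant sheaf `ℤ`. -/
noncomputable abbrev constZ (X : TopCat.{u}) : CohTop.Ab X :=
  (constantSheaf (Opens.grothendieckTopology X) AddCommGrpCat.{u}).obj (AddCommGrpCat.of (ULift ℤ))

/-- Restriction `H^n(U, F) ⟶ H^n(V, F)`. -/
noncomputable def resH (F : CohTop.Ab X) (n : ℕ) {U V : Opens X} (h : V ≤ U) :
    Hn F n U →+ Hn F n V :=
  (Ext.mk₀ (zmap h)).precomp F (zero_add n)

theorem resH_apply (F : CohTop.Ab X) (n : ℕ) {U V : Opens X} (h : V ≤ U) (x : Hn F n U) :
    resH F n h x = (Ext.mk₀ (zmap h)).comp x (zero_add n) := rfl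

theorem resH_comp {F G : CohTop.Ab X} {a b c : ℕ} {U V : Opens X} (h : V ≤ U) (x : Hn F a U)
    (y : Ext.{u} F G b) (hc : a + b = c) :
    resH G c h (x.comp y hc) = (resH F a h x).comp y hc := by
  rw [resH_apply, resH_apply]
  exact (Ext.comp_assoc _ _ _ (zero_add a) hc (show 0 + a + b = c by omega)).symm

theorem resH_resH (F : CohTop.Ab X) (n : ℕ) {U V W : Opens X} (h : V ≤ U) (h' : W ≤ V)
    (x : Hn F n U) : resH F n h' (resH F n h x) = resH F n (h'.trans h) x := by
  rw [resH_apply, resH_apply, resH_apply, Ext.mk₀_comp_mk₀_assoc, ← CohFree.freeSheafMap_comp]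
  rfl

/-- Sections over `U` as morphisms `ℤ_U ⟶ F`. -/
noncomputable abbrev sect (U : Opens X) (F : CohTop.Ab X) : (Zsh U ⟶ F) ≃+ F.obj.obj (op U) :=
  CohFree.homEquivSect (Opens.grothendieckTopology X) U F

theorem sect_comp {U : Opens X} {F G : CohTop.Ab X} (φ : Zsh U ⟶ F) (f : F ⟶ G) :
    sect U G (φ ≫ f) = f.hom.app (op U) (sect U F φ) := rfl

theorem sect_res {U V : Opens X} (h : V ≤ U) {F : CohTop.Ab X} (φ : Zsh U ⟶ F) :
    sect V F (zmap h ≫ φ) = F.obj.map (homOfLE h).op (sect U F φ) :=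
  CohFree.evalGen_freeSheafMap_comp (Opens.grothendieckTopology X) (homOfLE h) F φ

/-- `H^0(U, F) = F(U)`. -/
noncomputable def H0Equiv (F : CohTop.Ab X) (U : Opens X) : Hn F 0 U ≃+ F.obj.obj (op U) :=
  Ext.addEquiv₀.trans (sect U F)

theorem H0Equiv_mk₀ {F : CohTop.Ab X} {U : Opens X} (φ : Zsh U ⟶ F) :
    H0Equiv F U (Ext.mk₀ φ) = sect U F φ := by
  rw [H0Equiv, AddEquiv.trans_apply]
  congr 1
  exact Ext.addEquiv₀.apply_symm_apply φ

theorem H0Equiv_res {F : CohTop.Ab X} {U V : Opens X} (h : V ≤ U) (x : Hn F 0 U) :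
    H0Equiv F V (resH F 0 h x) = F.obj.map (homOfLE h).op (H0Equiv F U x) := by
  obtain ⟨φ, rfl⟩ := (Ext.mk₀_bijective _ _).2 x
  rw [resH_apply, Ext.mk₀_comp_mk₀, H0Equiv_mk₀, H0Equiv_mk₀, sect_res]

theorem H0Equiv_map {F G : CohTop.Ab X} {U : Opens X} (f : F ⟶ G) (x : Hn F 0 U) :
    H0Equiv G U (x.comp (Ext.mk₀ f) (add_zero 0)) = f.hom.app (op U) (H0Equiv F U x) := by
  obtain ⟨φ, rfl⟩ := (Ext.mk₀_bijective _ _).2 x
  rw [Ext.mk₀_comp_mk₀, H0Equiv_mk₀, H0Equiv_mk₀, sect_comp]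

/-- Flasque abelian sheaves. -/
def Flasque (F : CohTop.Ab X) : Prop :=
  ∀ ⦃U V : Opens X⦄ (h : V ≤ U), Function.Surjective (F.obj.map (homOfLE h).op)

theorem flasque_iff (F : CohTop.Ab X) : Flasque F ↔ TopCat.Presheaf.IsFlasque F.obj := by
  constructor
  · intro h
    refine ⟨fun {U V} i => ?_⟩
    rw [AddCommGrpCat.epi_iff_surjective]
    exact h i.unop.le
  · intro h U V hVU
    rw [← AddCommGrpCat.epi_iff_surjective]
    exact h.epi _

theorem flasque_of_injective (I : CohTop.Ab X) [Injective I] : Flasque I := by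
  intro U V h s
  have : Mono (zmap h) := by infer_instance
  refine ⟨sect U I (Injective.factorThru ((sect V I).symm s) (zmap h)), ?_⟩
  rw [← sect_res, Injective.comp_factorThru]
  exact (sect V I).apply_symm_apply s

theorem surjective_sections {S : ShortComplex (CohTop.Ab X)} (hS : S.ShortExact) (h : Flasque S.X₁)
    (U : Opens X) : Function.Surjective (S.g.hom.app (op U)) := by
  have := (flasque_iff _).1 h
  rw [← AddCommGrpCat.epi_iff_surjective]
  exact TopCat.Sheaf.IsFlasque.epi_of_shortExact hS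

theorem flasque_X₃ {S : ShortComplex (CohTop.Ab X)} (hS : S.ShortExact) (h₁ : Flasque S.X₁)
    (h₂ : Flasque S.X₂) : Flasque S.X₃ := by
  intro U V h s
  obtain ⟨t, rfl⟩ := surjective_sections hS h₁ V s
  obtain ⟨t, rfl⟩ := h₂ h t
  exact ⟨S.g.hom.app (op U) t, (ConcreteCategory.congr_hom (S.g.hom.naturality (homOfLE h).op) t).symm⟩

/-- Surjectivity on sections gives surjectivity on morphisms out of `ℤ_U`. -/
theorem surjective_hom_of_surjective_sections {F G : CohTop.Ab X} (f : F ⟶ G) (U : Opens X)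
    (h : Function.Surjective (f.hom.app (op U))) :
    Function.Surjective fun φ : Zsh U ⟶ F => φ ≫ f := fun ψ => by
  obtain ⟨t, ht⟩ := h (sect U G ψ)
  refine ⟨(sect U F).symm t, (sect U G).injective ?_⟩
  rw [sect_comp, AddEquiv.apply_symm_apply, ht]

theorem subsingleton_of_flasque {F : CohTop.Ab X} (hF : Flasque F) (n : ℕ) (U : Opens X) :
    Subsingleton (Hn F (n + 1) U) := by
  have hS := injSeq_shortExact F
  have : Subsingleton (Ext.{u} (Zsh U) (injSeq F).X₂ (n + 1)) :=
    subsingleton_of_forall_eq 0 fun x => Ext.eq_zero_of_injective x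
  induction n generalizing F with
  | zero =>
    exact subsingleton_ext_one hS
      (surjective_hom_of_surjective_sections _ U (surjective_sections hS hF U))
  | succ n ih =>
    exact subsingleton_ext_X₁ hS (ih (flasque_X₃ hS hF (flasque_of_injective _))
      (injSeq_shortExact _) (subsingleton_of_forall_eq 0 fun x => Ext.eq_zero_of_injective x))

/-- Every cohomology class of positive degree vanishes locally. -/
theorem exists_resH_eq_zero {F : CohTop.Ab X} {n : ℕ} {U : Opens X} (x : Hn F (n + 1) U) {p : X}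
    (hp : p ∈ U) : ∃ (V : Opens X) (h : V ≤ U), p ∈ V ∧ resH F (n + 1) h x = 0 := by
  have hS := injSeq_shortExact F
  have : Subsingleton (Ext.{u} (Zsh U) (injSeq F).X₂ (n + 1)) :=
    subsingleton_of_forall_eq 0 fun x => Ext.eq_zero_of_injective x
  obtain ⟨q, rfl⟩ := exists_extClass_lift hS x
  induction n generalizing F with
  | zero =>
    obtain ⟨φ, rfl⟩ := (Ext.mk₀_bijective _ _).2 q
    have := (TopCat.Sheaf.isLocallySurjective_iff_epi (injSeq F).g).mpr hS.epi_g
    obtain ⟨V, hVU, ⟨t, ht⟩, hpV⟩ :=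
      (TopCat.Presheaf.isLocallySurjective_iff (injSeq F).g.hom).mp this U (sect U _ φ) p hp
    refine ⟨V, hVU, hpV, ?_⟩
    rw [resH_comp, resH_apply, Ext.mk₀_comp_mk₀]
    have : zmap hVU ≫ φ =
        (sect V _).symm t ≫ (injSeq F).g := by
      apply (sect V _).injective
      rw [sect_res, sect_comp, AddEquiv.apply_symm_apply]
      exact ht.symm
    rw [this, ← Ext.mk₀_comp_mk₀, Ext.comp_assoc_of_second_deg_zero, hS.comp_extClass, Ext.comp_zero]
  | succ n ih =>
    have hS₃ := injSeq_shortExact (injSeq F).X₃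
    have : Subsingleton (Ext.{u} (Zsh U) (injSeq (injSeq F).X₃).X₂ (n + 1)) :=
      subsingleton_of_forall_eq 0 fun x => Ext.eq_zero_of_injective x
    obtain ⟨r, rfl⟩ := exists_extClass_lift hS₃ q
    obtain ⟨V, hVU, hpV, hV⟩ := ih hS₃ this r
    exact ⟨V, hVU, hpV, by rw [resH_comp, hV, Ext.zero_comp]⟩

/-- `ℤ_⊤` is the constant sheaf `ℤ`. -/
noncomputable def constEquiv (F : CohTop.Ab X) :
    (constZ X ⟶ F) ≃+
      F.obj.obj (op ⊤) :=
  ((constantSheafAdj (Opens.grothendieckTopology X) AddCommGrpCat.{u} isTerminalTop).homAddEquiv _ F).trans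
    (AddCommGrpCat.uliftZMultiplesAddEquiv _)

theorem constEquiv_comp {F G : CohTop.Ab X}
    (φ : constZ X ⟶ F) (f : F ⟶ G) :
    constEquiv G (φ ≫ f) = f.hom.app (op ⊤) (constEquiv F φ) := by
  simp only [constEquiv, AddEquiv.trans_apply, Adjunction.homAddEquiv_apply,
    Adjunction.homEquiv_naturality_right]
  rfl

/-- The isomorphism `ℤ_⊤ ≅ ℤ`. -/
noncomputable def topIso (X : TopCat.{u}) :
    Zsh (⊤ : Opens X) ≅ constZ X where
  hom := (sect ⊤ _).symm (constEquiv _ (𝟙 _))
  inv := (constEquiv _).symm (sect ⊤ _ (𝟙 _))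
  hom_inv_id := by
    apply (sect ⊤ _).injective
    rw [sect_comp, AddEquiv.apply_symm_apply, ← constEquiv_comp, Category.id_comp,
      AddEquiv.apply_symm_apply]
  inv_hom_id := by
    apply (constEquiv _).injective
    rw [constEquiv_comp, AddEquiv.apply_symm_apply, ← sect_comp, Category.id_comp,
      AddEquiv.apply_symm_apply]

/-- `Sheaf.H F n ≃+ H^n(⊤, F)`. -/
noncomputable def topEquiv (F : CohTop.Ab X) (n : ℕ) : Sheaf.H.{u} F n ≃+ Hn F n ⊤ where
  toFun x := (Ext.mk₀ (topIso X).hom).comp x (zero_add n)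
  invFun x := (Ext.mk₀ (topIso X).inv).comp x (zero_add n)
  left_inv x := by simp
  right_inv x := by simp
  map_add' x y := by simp

theorem topEquiv_map {F G : CohTop.Ab X} (f : F ⟶ G) (n : ℕ) (x : Sheaf.H.{u} F n) :
    topEquiv G n (Sheaf.H.map f n x) = (topEquiv F n x).comp (Ext.mk₀ f) (add_zero n) := by
  change (Ext.mk₀ (topIso X).hom).comp (x.comp (Ext.mk₀ f) (add_zero n)) (zero_add n) = _
  exact (Ext.comp_assoc _ _ _ (zero_add n) (add_zero n) (show 0 + n + 0 = n by omega)).symm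

end Groth.Agent.H10Coh
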